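import Cfsg.Agent.Fi22Two.Common
import Cfsg.Agent.U62Rec.Setup

/-!
# The part of the centraliser above `PSp₄(3)`
-/

set_option autoImplicit false

open Cfsg Subgroup
open scoped commutatorElement

namespace Cfsg.Agent.Fi22Two

open Cfsg.Agent.LargeExtra Cfsg.Agent.U62Rec

/-- Inner automorphisms of `PSp₄(3)`: the commutator subgroup, of index two. -/
theorem mulAut_psp :
    Nat.card (MulAut (Cfsg.PSp 2 (ZMod 3))) = 51840 ∧
      commutator (MulAut (Cfsg.PSp 2 (ZMod 3))) = (MulAut.conj : Cfsg.PSp 2 (ZMod 3) →* _).range ∧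
      (commutator (MulAut (Cfsg.PSp 2 (ZMod 3)))).index = 2 ∧
      IsSimpleGroup (Cfsg.PSp 2 (ZMod 3)) ∧
      Function.Injective (MulAut.conj : Cfsg.PSp 2 (ZMod 3) →* MulAut (Cfsg.PSp 2 (ZMod 3))) := by
  haveI : Fact (Nat.Prime 3) := ⟨by norm_num⟩
  let P := Cfsg.PSp 2 (ZMod 3)
  let M : Sp43.Model P := Sp43.model
  haveI := M.simple
  let i : P →* MulAut P := MulAut.conj
  have hne : i (M.d 0) ≠ 1 := by
    intro h1
    apply M.rels.ne
    have := DFunLike.congr_fun h1 M.u
    simp only [i, MulAut.conj_apply, MulAut.one_apply] at this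
    exact (mul_inv_eq_iff_eq_mul.1 this).symm
  have hi : Function.Injective i := by
    refine (MonoidHom.ker_eq_bot_iff i).1 ?_
    rcases (inferInstance : i.ker.Normal).eq_bot_or_eq_top with h | h
    · exact h
    · exact absurd (MonoidHom.mem_ker.1 (h ▸ mem_top _)) hne
  have hcard : Nat.card (MulAut P) = 51840 := by
    rw [AutPSp.card_mulAut 3 le_rfl, card_psp_three,
      AutPSp.index_inndiag 3 le_rfl (fun _ => by norm_num), Nat.card_zmod]
    have : Subsingleton (ZMod 3 ≃+* ZMod 3) := ⟨fun f g => RingEquiv.ext fun x => by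
      exact RingHom.congr_fun (RingHom.ext_zmod (f : ZMod 3 →+* ZMod 3) g) x⟩
    rw [Nat.card_eq_one_iff_unique.2 ⟨this, ⟨RingEquiv.refl _⟩⟩]
    rfl
  have hidx : i.range.index = 2 := by
    have h := i.range.card_mul_index
    rw [← Nat.card_congr (MonoidHom.ofInjective hi).toEquiv, hcard, card_psp_three] at h
    omega
  have hP : commutator P = ⊤ := by
    haveI : (commutator P).Normal := inferInstance
    rcases (inferInstance : (commutator P).Normal).eq_bot_or_eq_top with h | h
    · exfalso
      apply M.rels.ne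
      have hm : ⁅M.u, M.d 0⁆ ∈ commutator P := commutator_mem_commutator (mem_top _) (mem_top _)
      rw [h, mem_bot, commutatorElement_eq_one_iff_mul_comm] at hm
      exact hm
    · exact h
  have hcom : commutator (MulAut P) = i.range := by
    apply le_antisymm
    · rw [_root_.commutator_def, commutator_le]
      intro g _ h _
      rw [commutatorElement_def]
      simp only [Subgroup.mul_mem_iff_of_index_two hidx, inv_mem_iff]
      tauto
    · rw [MonoidHom.range_eq_map, ← hP, _root_.commutator_def, map_commutator]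
      exact commutator_mono le_top le_top
  exact ⟨hcard, hcom, hcom ▸ hidx, M.simple, hi⟩

variable {G : Type*} [Group G] [Finite G] {z a : G}

theorem inner_le (z : G) : inner z ≤ centralizer ({z} : Set G) := map_subtype_le _

theorem oc_le_inner (z : G) : oc z ≤ inner z := map_mono le_sup_right

theorem inner_normal {z g x : G} (hg : g ∈ centralizer ({z} : Set G)) (hx : x ∈ inner z) :
    g * x * g⁻¹ ∈ inner z := by
  obtain ⟨y, hy, rfl⟩ := hx
  exact ⟨⟨g, hg⟩ * y * ⟨g, hg⟩⁻¹,
    (inferInstance : (commutator ↥(centralizer ({z} : Set G)) ⊔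
      pCore 2 ↥(centralizer ({z} : Set G))).Normal).conj_mem y hy _, rfl⟩

theorem inner_subgroupOf (z : G) : (inner z).subgroupOf (centralizer ({z} : Set G)) =
    commutator ↥(centralizer ({z} : Set G)) ⊔ pCore 2 ↥(centralizer ({z} : Set G)) :=
  comap_map_eq_self_of_injective (subtype_injective _) _

theorem Hyp.inner_index (h : Hyp z a) :
    ((inner z).subgroupOf (centralizer ({z} : Set G))).index = 2 := by
  obtain ⟨e⟩ := h.quot
  rw [inner_subgroupOf]
  set φ := e.toMonoidHom.comp (QuotientGroup.mk' (pCore 2 ↥(centralizer ({z} : Set G))))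
  have hφ : Function.Surjective φ := e.surjective.comp (QuotientGroup.mk'_surjective _)
  have hk : φ.ker = pCore 2 ↥(centralizer ({z} : Set G)) := by
    ext g
    exact (MulEquiv.map_eq_one_iff e).trans (QuotientGroup.eq_one_iff g)
  have hc : (commutator (MulAut (Cfsg.PSp 2 (ZMod 3)))).comap φ =
      commutator ↥(centralizer ({z} : Set G)) ⊔ pCore 2 ↥(centralizer ({z} : Set G)) := by
    rw [← hk, ← comap_map_eq, _root_.commutator_def, _root_.commutator_def, map_commutator,
      map_top_of_surjective φ hφ]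
  rw [← hc, index_comap_of_surjective _ hφ]
  exact mulAut_psp.2.2.1

theorem Hyp.card_inner (h : Hyp z a) :
    Nat.card ↥(centralizer ({z} : Set G)) = 1024 * 51840 ∧ Nat.card ↥(inner z) = 1024 * 25920 := by
  obtain ⟨e⟩ := h.quot
  have hJ : Nat.card ↥(pCore 2 ↥(centralizer ({z} : Set G))) = 1024 :=
    (Nat.card_congr (equivMapOfInjective _ _ (subtype_injective _)).toEquiv).trans h.card
  have hC : Nat.card ↥(centralizer ({z} : Set G)) = 1024 * 51840 := by
    rw [(pCore 2 ↥(centralizer ({z} : Set G))).card_eq_card_quotient_mul_card_subgroup,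
      Nat.card_congr e.toEquiv, mulAut_psp.1, hJ]
  refine ⟨hC, ?_⟩
  have := ((inner z).subgroupOf (centralizer ({z} : Set G))).card_mul_index
  rw [h.inner_index, hC, Nat.card_congr (subgroupOfEquivOfLe (inner_le z)).toEquiv] at this
  omega

/-- Membership in `inner z` is additive. -/
theorem Hyp.mul_mem_inner_iff (h : Hyp z a) {g k : G} (hg : g ∈ centralizer ({z} : Set G))
    (hk : k ∈ centralizer ({z} : Set G)) : g * k ∈ inner z ↔ (g ∈ inner z ↔ k ∈ inner z) := by
  have := Subgroup.mul_mem_iff_of_index_two h.inner_index (a := ⟨g, hg⟩) (b := ⟨k, hk⟩)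
  simpa [mem_subgroupOf] using this

/-- The conjugates of `a` under `C z`. -/
theorem Hyp.conj_a (h : Hyp z a) {g : G} (hg : g ∈ centralizer ({z} : Set G)) :
    g * a * g⁻¹ = a ∨ g * a * g⁻¹ = a * z := by
  have hm : g * a * g⁻¹ ∈ oc z := oc_conj_mem hg h.a_mem
  have hcen : ∀ y ∈ oc z, Commute (g * a * g⁻¹) y := by
    intro y hy
    have hy' : g⁻¹ * y * g⁻¹⁻¹ ∈ oc z := oc_conj_mem (inv_mem hg) hy
    have := (((h.centre a h.a_mem).2 (Or.inr (Or.inr (Or.inl rfl)))) _ hy').map (MulAut.conj g)
    simpa [mul_assoc] using this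
  rcases (h.centre _ hm).1 hcen with e | e | e | e
  · rw [conj_eq_one_iff] at e
    exact absurd h.orda (by simp [e])
  · refine absurd ?_ h.ne
    have hgz : g * z = z * g := mem_centralizer_singleton_iff.1 hg
    calc a = g⁻¹ * (g * a * g⁻¹) * g := by group
      _ = g⁻¹ * (z * g) := by rw [e]; group
      _ = z := by rw [← hgz]; group
  · exact Or.inl e
  · exact Or.inr e

/-- `inner z` centralises `a`. -/
theorem Hyp.inner_le_centralizer (h : Hyp z a) : inner z ≤ centralizer ({a} : Set G) := by
  let A : Subgroup ↥(centralizer ({z} : Set G)) :=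
    (centralizer ({a} : Set G)).subgroupOf (centralizer ({z} : Set G))
  have hmem : ∀ g : ↥(centralizer ({z} : Set G)), g ∈ A ↔ (g : G) * a * (g : G)⁻¹ = a := fun g => by
    rw [mem_subgroupOf, mem_centralizer_singleton_iff, mul_inv_eq_iff_eq_mul]
  have hz : ∀ g : ↥(centralizer ({z} : Set G)), (g : G) * (a * z) * (g : G)⁻¹ =
      (g : G) * a * (g : G)⁻¹ * z := fun g => by
    have : Commute z (g : G)⁻¹ := (mem_centralizer_singleton_iff.1 (inv_mem g.2)).symm
    rw [mul_assoc (g : G), mul_assoc (g : G), mul_assoc, this.eq]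
    group
  have hmul : ∀ p q : ↥(centralizer ({z} : Set G)), p ∉ A → q ∉ A → p * q ∈ A := by
    intro p q hp hq
    rw [hmem] at hp hq ⊢
    have ep := (h.conj_a p.2).resolve_left hp
    have eq' := (h.conj_a q.2).resolve_left hq
    calc ((p * q : ↥(centralizer ({z} : Set G))) : G) * a * ((p * q : ↥(centralizer ({z} : Set G))) : G)⁻¹
        = (p : G) * ((q : G) * a * (q : G)⁻¹) * (p : G)⁻¹ := by simp [mul_assoc]
      _ = a := by rw [eq', hz, ep, mul_assoc, h.zz, mul_one]
  have hcomm : commutator ↥(centralizer ({z} : Set G)) ≤ A := by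
    rw [_root_.commutator_def, commutator_le]
    intro p _ q _
    have hparity : ∀ u v : ↥(centralizer ({z} : Set G)), (u * v ∈ A ↔ (u ∈ A ↔ v ∈ A)) := by
      intro u v
      by_cases hu : u ∈ A <;> by_cases hv : v ∈ A
      · simp [hu, hv, mul_mem]
      · simp [hu, hv, mul_mem_cancel_left]
      · simp [hu, hv, mul_mem_cancel_right]
      · simp [hu, hv, hmul u v hu hv]
    rw [commutatorElement_def]
    simp only [hparity, inv_mem_iff]
    tauto
  rintro x ⟨y, hy, rfl⟩
  refine mem_subgroupOf.1 ((sup_le hcomm ?_ : _ ≤ A) hy)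
  intro j hj
  rw [hmem]
  refine mul_inv_eq_iff_eq_mul.2 ?_
  exact (((h.centre a h.a_mem).2 (Or.inr (Or.inr (Or.inl rfl)))) (j : G) ⟨j, hj, rfl⟩).symm

/-- If `a` is not central in `C z`, the centraliser of `a` there is `inner z`. -/
theorem Hyp.inf_centralizer (h : Hyp z a) (hs : ¬ Fixed z a) :
    centralizer ({z} : Set G) ⊓ centralizer ({a} : Set G) = inner z := by
  refine le_antisymm (fun x hx => ?_) (le_inf (inner_le z) h.inner_le_centralizer)
  obtain ⟨s, hs1, hs2⟩ : ∃ s ∈ centralizer ({z} : Set G), ¬ Commute s a := by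
    by_contra hc; push Not at hc; exact hs hc
  have hsi : s ∉ inner z := fun e => hs2 (mem_centralizer_singleton_iff.1 (h.inner_le_centralizer e))
  by_contra hxi
  have hsx := (h.mul_mem_inner_iff hs1 hx.1).2 (iff_of_false hsi hxi)
  have h1 := h.inner_le_centralizer hsx
  have := mul_mem h1 (inv_mem hx.2)
  rw [mul_inv_cancel_right] at this
  exact hs2 (mem_centralizer_singleton_iff.1 this)

end Cfsg.Agent.Fi22Two
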