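import Mathlib.GroupTheory.Transfer
import Mathlib.GroupTheory.PGroup

/-!
# Evaluation of a transfer with the help of a 2-group commuting with the element
-/

set_option autoImplicit false

namespace Cfsg.Agent.Fi22Two

open Subgroup MulAction

/-- An invariant function with values squaring to one has as product its value at the distinguished
fixed point, when it is trivial at the other fixed points. -/
theorem prod_two_group {X : Type*} [Fintype X] {T : Type*} [Group T] [Finite T] [MulAction T X]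
    (hT : IsPGroup 2 T) {A : Type*} [CommGroup A] (f : X → A)
    (hinv : ∀ (t : T) (x : X), f (t • x) = f x) (hsq : ∀ x, f x * f x = 1)
    (x₀ : X) (hx₀ : ∀ t : T, t • x₀ = x₀)
    (hfix : ∀ x, x ≠ x₀ → (∀ t : T, t • x = x) → f x = 1) : ∏ x, f x = f x₀ := by
  classical
  have := Fintype.ofFinite T
  let g : X → A := fun x => if x = x₀ then 1 else f x
  have hsplit : ∀ x, f x = (if x = x₀ then f x₀ else 1) * g x := by
    intro x
    by_cases h : x = x₀ <;> simp [g, h]
  rw [Finset.prod_congr rfl (fun x _ => hsplit x), Finset.prod_mul_distrib, Finset.prod_ite_eq']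
  simp only [Finset.mem_univ, if_true]
  suffices h : ∏ x, g x = 1 by rw [h, mul_one]
  have hg : ∀ (t : T) (x : X), g (t • x) = g x := by
    intro t x
    have : t • x = x₀ ↔ x = x₀ := by rw [smul_eq_iff_eq_inv_smul, hx₀]
    simp only [g, this, hinv]
  let := fun ω : Quotient (orbitRel T X) => Fintype.ofFinite (orbit T ω.out)
  rw [← (selfEquivSigmaOrbits T X).symm.prod_comp g, Fintype.prod_sigma]
  refine Finset.prod_eq_one fun ω _ => ?_
  have hc : ∀ y : orbit T ω.out, g ((selfEquivSigmaOrbits T X).symm ⟨ω, y⟩) = g ω.out := by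
    rintro ⟨y, t, rfl⟩
    exact hg t ω.out
  rw [Finset.prod_congr rfl (fun y _ => hc y), Finset.prod_const, Finset.card_univ]
  obtain ⟨n, hn⟩ := hT.card_orbit ω.out
  rw [Nat.card_eq_fintype_card] at hn
  rw [hn]
  rcases n with _ | n
  · rw [pow_zero, pow_one]
    by_cases h : ω.out = x₀
    · simp [g, h]
    · simp only [g, h, if_false]
      refine hfix _ h fun t => ?_
      have h1 : Fintype.card (orbit T ω.out) ≤ 1 := by omega
      exact congrArg Subtype.val
        ((Fintype.card_le_one_iff.mp h1) ⟨t • ω.out, mem_orbit _ _⟩ ⟨ω.out, mem_orbit_self _⟩)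
  · have : g ω.out * g ω.out = 1 := by
      by_cases h : ω.out = x₀ <;> simp [g, h, hsq]
    rw [pow_succ', pow_mul, pow_two, this, one_pow]

variable {G : Type*} [Group G] [Finite G]

/-- The transfer of `lam` at `s ∈ H` is `lam s`, if a 2-group `T ≤ H` centralises `s`, the values
square to one, and the orbits of `s` on the cosets fixed by `T` other than `{H}` give nothing. -/
theorem transfer_eval {H : Subgroup G} {A : Type*} [CommGroup A] (lam : ↥H →* A) {s : G}
    (hs : s ∈ H) (T : Subgroup G) (hT : IsPGroup 2 T) (hTH : T ≤ H) (hTs : ∀ t ∈ T, Commute t s)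
    (hsq : ∀ (g : G) (n : ℕ) (h : g⁻¹ * s ^ n * g ∈ H), lam ⟨_, h⟩ * lam ⟨_, h⟩ = 1)
    (hfix : ∀ g : G, g ∉ H → ∀ n : ℕ, 0 < n → ∀ h : g⁻¹ * s ^ n * g ∈ H,
      (∀ m : ℕ, 0 < m → m < n → g⁻¹ * s ^ m * g ∉ H) →
      (∀ t ∈ T, ∃ k : ℕ, (s ^ k * g)⁻¹ * t * g ∈ H) → lam ⟨_, h⟩ = 1) :
    MonoidHom.transfer lam s = lam ⟨s, hs⟩ := by
  classical
  let := Fintype.ofFinite (Quotient (orbitRel (zpowers s) (G ⧸ H)))
  rw [MonoidHom.transfer_eq_prod_quotient_orbitRel_zpowers_quot]
  set f : Quotient (orbitRel (zpowers s) (G ⧸ H)) → A := fun o =>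
    lam ⟨o.out.out⁻¹ * s ^ Function.minimalPeriod (s • ·) o.out * o.out.out,
      QuotientGroup.out_conj_pow_minimalPeriod_mem H s o.out⟩ with hf
  have hmem : ∀ (g : G) (m : ℕ), g⁻¹ * s ^ m * g ∈ H ↔
      Function.minimalPeriod (s • ·) (g : G ⧸ H) ∣ m := by
    intro g m
    rw [← Function.isPeriodicPt_iff_minimalPeriod_dvd, Function.IsPeriodicPt, Function.IsFixedPt,
      smul_iterate]
    show g⁻¹ * s ^ m * g ∈ H ↔ (s ^ m) • (g : G ⧸ H) = (g : G ⧸ H)
    rw [MulAction.Quotient.smul_coe, smul_eq_mul, eq_comm, QuotientGroup.eq, mul_assoc]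
  have hval : ∀ g : G, ∀ h : g⁻¹ * s ^ Function.minimalPeriod (s • ·) (g : G ⧸ H) * g ∈ H,
      f (Quotient.mk _ (g : G ⧸ H)) = lam ⟨_, h⟩ := by
    intro g h
    obtain ⟨⟨y, hy⟩, hi⟩ := Quotient.mk_out (s := orbitRel (zpowers s) (G ⧸ H)) (g : G ⧸ H)
    obtain ⟨k, rfl⟩ := mem_zpowers_iff.mp hy
    change (s ^ k) • (g : G ⧸ H) = _ at hi
    rw [MulAction.Quotient.smul_coe, smul_eq_mul] at hi
    set g₁ := (Quotient.mk (orbitRel (zpowers s) (G ⧸ H)) (g : G ⧸ H)).out.out with hg₁
    have hout : (Quotient.mk (orbitRel (zpowers s) (G ⧸ H)) (g : G ⧸ H)).out = (g₁ : G ⧸ H) :=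
      (QuotientGroup.out_eq' _).symm
    rw [hout] at hi
    have hu : (s ^ k * g)⁻¹ * g₁ ∈ H := QuotientGroup.eq.mp hi
    set u : H := ⟨_, hu⟩ with hu'
    have hg₁u : g₁ = s ^ k * g * (u : G) := by
      show g₁ = s ^ k * g * ((s ^ k * g)⁻¹ * g₁); group
    have hkey : ∀ m : ℕ, g₁⁻¹ * s ^ m * g₁ = (u : G)⁻¹ * (g⁻¹ * s ^ m * g) * u := by
      intro m
      rw [hg₁u]
      have : (s ^ k)⁻¹ * s ^ m * s ^ k = s ^ m := by
        rw [← zpow_natCast s m, ← zpow_neg, ← zpow_add, ← zpow_add]; congr 1; ring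
      calc (s ^ k * g * (u : G))⁻¹ * s ^ m * (s ^ k * g * u)
          = (u : G)⁻¹ * (g⁻¹ * ((s ^ k)⁻¹ * s ^ m * s ^ k) * g) * u := by group
        _ = _ := by rw [this]
    have hper : Function.minimalPeriod (s • ·) (g₁ : G ⧸ H) =
        Function.minimalPeriod (s • ·) (g : G ⧸ H) := by
      refine Nat.dvd_antisymm ?_ ?_
      · rw [← hmem, hkey]
        exact H.mul_mem (H.mul_mem (H.inv_mem u.2) h) u.2
      · rw [← hmem]
        have h2 : (u : G)⁻¹ * (g⁻¹ * s ^ Function.minimalPeriod (s • ·) (g₁ : G ⧸ H) * g) * u ∈ H := by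
          rw [← hkey, hmem]
        rwa [H.mul_mem_cancel_right u.2, H.mul_mem_cancel_left (H.inv_mem u.2)] at h2
    have heq : (⟨_, QuotientGroup.out_conj_pow_minimalPeriod_mem H s
        (Quotient.mk (orbitRel (zpowers s) (G ⧸ H)) (g : G ⧸ H)).out⟩ : H) = u⁻¹ * ⟨_, h⟩ * u := by
      apply Subtype.ext
      show g₁⁻¹ * s ^ Function.minimalPeriod (s • ·) _ * g₁ = _
      rw [hout, hper, hkey]
      rfl
    simp only [f]
    rw [heq, map_mul, map_mul, map_inv, mul_comm (lam u)⁻¹, mul_assoc, inv_mul_cancel, mul_one]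
  let := Fintype.ofFinite (G ⧸ H)
  -- the action of `T` on the orbits
  let act : T → Quotient (orbitRel (zpowers s) (G ⧸ H)) → Quotient (orbitRel (zpowers s) (G ⧸ H)) :=
    fun t => Quotient.map ((t : G) • ·) (by
      rintro x y ⟨⟨i, hi⟩, rfl⟩
      refine ⟨⟨i, hi⟩, ?_⟩
      obtain ⟨k, rfl⟩ := mem_zpowers_iff.mp hi
      show s ^ k • (t : G) • y = (t : G) • s ^ k • y
      rw [smul_smul, smul_smul, ((hTs t t.2).zpow_right k).eq])
  let : MulAction T (Quotient (orbitRel (zpowers s) (G ⧸ H))) :=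
    { smul := act
      one_smul := Quotient.ind fun x => congrArg (Quotient.mk _) (one_smul G x)
      mul_smul := fun t t' => Quotient.ind fun x =>
        congrArg (Quotient.mk _) (mul_smul (t : G) (t' : G) x) }
  have hact : ∀ (t : T) (g : G), t • Quotient.mk (orbitRel (zpowers s) (G ⧸ H)) (g : G ⧸ H) =
      Quotient.mk _ (((t : G) * g : G) : G ⧸ H) := fun t g => rfl
  have hcomm : ∀ (t : T) (g : G) (m : ℕ),
      ((t : G) * g)⁻¹ * s ^ m * (t * g) = g⁻¹ * s ^ m * g := by
    intro t g m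
    calc ((t : G) * g)⁻¹ * s ^ m * (t * g) = g⁻¹ * ((t : G)⁻¹ * (s ^ m * t)) * g := by group
      _ = _ := by rw [← ((hTs t t.2).pow_right m).eq, inv_mul_cancel_left]
  have h1 : f (Quotient.mk _ ((1 : G) : G ⧸ H)) = lam ⟨s, hs⟩ := by
    have hp : Function.minimalPeriod (s • ·) ((1 : G) : G ⧸ H) = 1 := by
      have := (hmem 1 1).mp (by simpa using hs)
      simpa using this
    rw [hval 1 (by rw [hp]; simpa using hs)]
    exact congrArg lam (Subtype.ext (by show (1 : G)⁻¹ * _ * 1 = s; simp [hp]))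
  rw [← h1]
  refine prod_two_group hT f ?_ (fun o => hsq _ _ _) _ ?_ ?_
  · intro t o
    induction o using Quotient.inductionOn with
    | h x =>
      obtain ⟨g, rfl⟩ := QuotientGroup.mk_surjective x
      have hp : Function.minimalPeriod (s • ·) (((t : G) * g : G) : G ⧸ H) =
          Function.minimalPeriod (s • ·) (g : G ⧸ H) := by
        refine Nat.dvd_antisymm ?_ ?_
        · rw [← hmem, hcomm, hmem]
        · rw [← hmem, ← hcomm t, hmem]
      rw [hact, hval _ ((hmem _ _).mpr dvd_rfl), hval _ ((hmem _ _).mpr dvd_rfl)]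
      exact congrArg lam (Subtype.ext (by
        show ((t : G) * g)⁻¹ * _ * ((t : G) * g) = _
        rw [hp, hcomm]))
  · intro t
    rw [hact]
    refine congrArg (Quotient.mk _) (QuotientGroup.eq.mpr ?_)
    simpa using H.inv_mem (hTH t.2)
  · intro o
    induction o using Quotient.inductionOn with
    | h x =>
      obtain ⟨g, rfl⟩ := QuotientGroup.mk_surjective x
      intro hne hfx
      have hgH : g ∉ H := by
        intro hg
        refine hne (congrArg (Quotient.mk _) (QuotientGroup.eq.mpr ?_))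
        simpa using H.inv_mem hg
      rw [hval g ((hmem _ _).mpr dvd_rfl)]
      refine hfix g hgH _ (Function.minimalPeriod_pos_of_mem_periodicPts ?_) _ ?_ ?_
      · refine ⟨orderOf s, orderOf_pos s, ?_⟩
        simp only [Function.IsPeriodicPt, Function.IsFixedPt, smul_iterate, pow_orderOf_eq_one, one_smul]
      · intro m hm hlt hm'
        exact Nat.not_le.mpr hlt (Nat.le_of_dvd hm ((hmem g m).mp hm'))
      · intro t ht
        have h := hfx ⟨t, ht⟩
        rw [hact] at h
        obtain ⟨⟨y, hy⟩, hi⟩ := Quotient.exact h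
        obtain ⟨k, rfl⟩ := (mem_powers_iff_mem_zpowers (x := s)).mpr hy
        refine ⟨k, ?_⟩
        rw [mul_assoc]
        exact QuotientGroup.eq.mp hi

end Cfsg.Agent.Fi22Two
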