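import Cfsg.Agent.Fi22Two.Common
import Cfsg.Agent.Core.PCore
import Cfsg.Agent.LargeExtra.Basic
import Mathlib.GroupTheory.FixedPointFree
import Mathlib.GroupTheory.Sylow

/-!
# First consequences: Sylow subgroups, fusion of the centre, fixed points
-/

set_option autoImplicit false
set_option linter.unusedSectionVars false

open Cfsg Subgroup

namespace Cfsg.Agent.Fi22Two

open Cfsg.Agent.LargeExtra

variable {G : Type*} [Group G] [Finite G] {z a : G}

theorem Hyp.z_ne_one (h : Hyp z a) : z ≠ 1 := fun e => by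
  have := h.ordz; rw [e, orderOf_one] at this; omega

theorem Hyp.a_ne_one (h : Hyp z a) : a ≠ 1 := fun e => by
  have := h.orda; rw [e, orderOf_one] at this; omega

theorem mem_cz {g : G} : g ∈ centralizer ({z} : Set G) ↔ Commute g z :=
  mem_centralizer_singleton_iff

theorem Hyp.comm_mem_z (h : Hyp z a) {x : G} (hx : x ∈ oc z) : Commute x z :=
  mem_cz.1 (oc_le z hx)

theorem Hyp.comm_mem_a (h : Hyp z a) {x : G} (hx : x ∈ oc z) : Commute x a :=
  ((h.centre a h.a_mem).2 (Or.inr (Or.inr (Or.inl rfl))) x hx).symm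

/-- A member of the centre. -/
theorem Hyp.central_cases (h : Hyp z a) {x : G} (hx : ∀ y ∈ oc z, Commute x y) :
    x = 1 ∨ x = z ∨ x = a ∨ x = a * z := by
  refine (h.centre x (h.cent ?_)).1 hx
  rw [mem_centralizer_iff]
  exact fun y hy => (hx y hy).symm.eq

theorem Hyp.central_of_cases (h : Hyp z a) {x : G} (hx : x = 1 ∨ x = z ∨ x = a ∨ x = a * z) :
    x ∈ oc z ∧ ∀ y ∈ oc z, Commute x y := by
  have hm : x ∈ oc z := by
    rcases hx with rfl | rfl | rfl | rfl
    exacts [one_mem _, h.z_mem, h.a_mem, mul_mem h.a_mem h.z_mem]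
  exact ⟨hm, (h.centre x hm).2 hx⟩

theorem oc_conj_back {g x : G} (hx : x ∈ oc (g * z * g⁻¹)) : g⁻¹ * x * g ∈ oc z := by
  have := conj_mem_oc (g := g⁻¹) hx
  rwa [inv_inv, show g⁻¹ * (g * z * g⁻¹) * g = z by group] at this

/-- The centraliser of `z` permutes the two other central involutions. -/
theorem Hyp.a_conj (h : Hyp z a) {c : G} (hc : c ∈ centralizer ({z} : Set G)) :
    c * a * c⁻¹ = a ∨ c * a * c⁻¹ = a * z := by
  have hcc : ∀ y ∈ oc z, Commute (c * a * c⁻¹) y := fun y hy => by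
    have h1 : c⁻¹ * y * c⁻¹⁻¹ ∈ oc z := oc_conj_mem (inv_mem hc) hy
    have h2 := ((h.central_of_cases (Or.inr (Or.inr (Or.inl rfl)))).2 _ h1).eq
    calc c * a * c⁻¹ * y = c * (a * (c⁻¹ * y * c⁻¹⁻¹)) * c⁻¹ := by group
      _ = c * (c⁻¹ * y * c⁻¹⁻¹ * a) * c⁻¹ := by rw [h2]
      _ = y * (c * a * c⁻¹) := by group
  rcases h.central_cases hcc with e | e | e | e
  · exact absurd (conj_eq_one_iff.1 e) h.a_ne_one
  · refine absurd ?_ h.ne
    calc a = c⁻¹ * (c * a * c⁻¹) * c := by group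
      _ = c⁻¹ * (z * c) := by rw [e, mul_assoc]
      _ = z := by rw [← (mem_cz.1 hc).eq, inv_mul_cancel_left]
  · exact Or.inl e
  · exact Or.inr e

theorem Hyp.exists_comm_eq_z (h : Hyp z a) : ∃ x ∈ oc z, ∃ y ∈ oc z, x * y * x⁻¹ * y⁻¹ = z := by
  by_contra hc
  push Not at hc
  have hall : ∀ x ∈ oc z, x = 1 ∨ x = z ∨ x = a ∨ x = a * z := fun x hx =>
    (h.centre x hx).1 fun y hy => by
      rcases h.comm x hx y hy with e | e
      · exact mul_inv_eq_one.1 (by rwa [mul_inv_rev, ← mul_assoc] ) 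
      · exact absurd e (hc x hx y hy)
  classical
  have hsub : ((oc z : Subgroup G) : Set G) ⊆ ↑({1, z, a, a * z} : Finset G) := fun x hx => by
    simpa using hall x hx
  have h4 := Set.ncard_le_ncard hsub
  have h5 : ((oc z : Subgroup G) : Set G).ncard = 1024 := by
    rw [← Nat.card_coe_set_eq]; exact h.card
  rw [Set.ncard_coe_finset, h5] at h4
  have := Finset.card_le_four (a := (1 : G)) (b := z) (c := a) (d := a * z)
  omega

/-- The involution `z` is not conjugate to `a`. -/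
theorem not_conj (h : Hyp z a) : ¬ IsConj z a := by
  intro hza
  obtain ⟨g, hg⟩ := isConj_iff.1 hza
  set H := centralizer ({z} : Set G) with hH
  set C := centralizer ({a} : Set G) with hC
  set D : Subgroup ↥C := H.subgroupOf C with hD
  -- the two centralisers are conjugate
  have hcard : Nat.card ↥C = Nat.card ↥H := by
    have hmap : H.map (MulAut.conj g).toMonoidHom = C := by
      ext x
      constructor
      · rintro ⟨c, hc, rfl⟩
        have hc' : c * z = z * c := mem_centralizer_singleton_iff.1 hc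
        refine mem_centralizer_singleton_iff.2 ?_
        show g * c * g⁻¹ * a = a * (g * c * g⁻¹)
        rw [← hg, conjm, conjm, hc']
      · intro hx
        have hx' : x * a = a * x := mem_centralizer_singleton_iff.1 hx
        refine ⟨g⁻¹ * x * g, mem_centralizer_singleton_iff.2 ?_, by simp [mul_assoc]⟩
        calc g⁻¹ * x * g * z = g⁻¹ * (x * (g * z * g⁻¹)) * g := by group
          _ = g⁻¹ * ((g * z * g⁻¹) * x) * g := by rw [hg, hx']
          _ = z * (g⁻¹ * x * g) := by group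
    rw [← hmap, card_map_of_injective (MulAut.conj g).injective]
  -- `C a` meets `C z` in a subgroup of index at most two
  have hidx : (C.subgroupOf H).index ≤ 2 := by
    by_cases hall : ∀ c ∈ H, Commute c a
    · rw [show C.subgroupOf H = ⊤ from eq_top_iff.2 fun c _ =>
        mem_subgroupOf.2 (mem_centralizer_singleton_iff.2 (hall c c.2))]
      simp
    · push Not at hall
      obtain ⟨c₀, hc₀, hn⟩ := hall
      refine le_of_eq (index_eq_two_iff.2 ⟨⟨c₀, hc₀⟩, fun b => ?_⟩)
      simp only [mem_subgroupOf, hC, mem_centralizer_singleton_iff, coe_mul]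
      rcases h.a_conj b.2 with e | e
      · refine Or.inr ⟨mul_inv_eq_iff_eq_mul.1 e, fun e' => hn ?_⟩
        have e2 : Commute (b : G) a := mul_inv_eq_iff_eq_mul.1 e
        have := e2.inv_left.mul_left (show Commute ((b : G) * c₀) a from e')
        rwa [inv_mul_cancel_left] at this
      · refine Or.inl ⟨?_, fun e' => ?_⟩
        · rcases h.a_conj hc₀ with e0 | e0
          · exact absurd (mul_inv_eq_iff_eq_mul.1 e0) hn
          · refine mul_inv_eq_iff_eq_mul.1 ?_
            calc (b : G) * c₀ * a * ((b : G) * c₀)⁻¹ = (b : G) * (c₀ * a * c₀⁻¹) * (b : G)⁻¹ := by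
                  group
              _ = (b : G) * a * (b : G)⁻¹ * ((b : G) * z * (b : G)⁻¹) := by rw [e0]; group
              _ = a := by
                rw [e, (mem_cz.1 b.2).eq, mul_inv_cancel_right, mul_assoc, h.zz, mul_one]
        · rw [e', mul_inv_cancel_right, eq_comm, mul_eq_left] at e
          exact h.z_ne_one e
  have hDidx : D.index ≤ 2 := by
    have h1 := (H.subgroupOf C).card_mul_index
    have h2 := (C.subgroupOf H).card_mul_index
    have e1 : Nat.card ↥(H.subgroupOf C) = Nat.card ↥(C.subgroupOf H) := by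
      have e2 : ∀ A B : Subgroup G, Nat.card ↥(A.subgroupOf B) = Nat.card ↥(A ⊓ B) := fun A B => by
        rw [← inf_subgroupOf_right]
        exact Nat.card_congr (subgroupOfEquivOfLe inf_le_right).toEquiv
      rw [e2, e2, inf_comm]
    rw [e1, hcard, ← h2] at h1
    have h0 : 0 < Nat.card ↥(C.subgroupOf H) := Nat.card_pos
    rw [hD, Nat.eq_of_mul_eq_mul_left h0 h1]
    exact hidx
  have hDn : D.Normal := by
    rcases Nat.lt_or_ge D.index 2 with h2 | h2
    · have h0 : D.index ≠ 0 := index_ne_zero_of_finite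
      rw [index_eq_one.1 (show D.index = 1 by omega)]
      infer_instance
    · exact normal_of_index_eq_two (le_antisymm hDidx h2)
  have hJC : oc z ≤ C := fun x hx => mem_centralizer_singleton_iff.2 (h.comm_mem_a hx).eq
  set N : Subgroup ↥D := ((oc z).subgroupOf C).subgroupOf D with hN
  have hNn : N.Normal := ⟨fun x hx d => by
    simp only [hN, mem_subgroupOf, coe_mul, coe_inv] at hx ⊢
    exact oc_conj_mem (mem_subgroupOf.1 d.2) hx⟩
  have hNp : IsPGroup 2 ↥N :=
    ((oc_isPGroup z).comap_of_injective C.subtype C.subtype_injective).comap_of_injective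
      D.subtype D.subtype_injective
  have hle : oc z ≤ oc a := by
    intro x hx
    have hxC : x ∈ C := hJC hx
    have hxD : (⟨x, hxC⟩ : ↥C) ∈ D := mem_subgroupOf.2 (oc_le z hx)
    have h1 : (⟨⟨x, hxC⟩, hxD⟩ : ↥D) ∈ pCore 2 ↥D :=
      Core.le_pCore (hN := hNn) hNp (mem_subgroupOf.2 (mem_subgroupOf.2 hx))
    have h2 : (pCore 2 ↥D).map D.subtype ≤ pCore 2 ↥C :=
      Core.le_pCore (Core.pCore_isPGroup.map _)
    exact ⟨⟨x, hxC⟩, h2 ⟨_, h1, rfl⟩, rfl⟩
  obtain ⟨x, hx, y, hy, hxy⟩ := h.exists_comm_eq_z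
  have hback : ∀ {w : G}, w ∈ oc a → g⁻¹ * w * g ∈ oc z := fun hw => oc_conj_back (by rwa [hg])
  have e : g⁻¹ * (x * y * x⁻¹ * y⁻¹) * g
      = g⁻¹ * x * g * (g⁻¹ * y * g) * (g⁻¹ * x * g)⁻¹ * (g⁻¹ * y * g)⁻¹ := by group
  rw [hxy] at e
  rcases h.comm _ (hback (hle hx)) _ (hback (hle hy)) with e' | e' <;> rw [e'] at e
  · refine h.z_ne_one ?_
    calc z = g * (g⁻¹ * z * g) * g⁻¹ := by group
      _ = 1 := by rw [e]; group
  · refine h.ne ?_
    calc a = g * z * g⁻¹ := hg.symm
      _ = g * (g⁻¹ * z * g) * g⁻¹ := by rw [e]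
      _ = z := by group

theorem not_conj_az (h : Hyp z a) : ¬ IsConj z (a * z) := not_conj h.other

/-- A conjugate of `z` that is central in `oc z` is `z`. -/
theorem Hyp.eq_z_of_central (h : Hyp z a) {g : G}
    (hc : ∀ y ∈ oc z, Commute (g * z * g⁻¹) y) : g * z * g⁻¹ = z := by
  rcases h.central_cases hc with e | e | e | e
  · exact absurd (conj_eq_one_iff.1 e) h.z_ne_one
  · exact e
  · exact absurd (isConj_iff.2 ⟨g, e⟩) (not_conj h)
  · exact absurd (isConj_iff.2 ⟨g, e⟩) (not_conj_az h)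

theorem mem_cz_of_conj_eq {g : G} (e : g * z * g⁻¹ = z) : g ∈ centralizer ({z} : Set G) :=
  mem_cz.2 (mul_inv_eq_iff_eq_mul.1 e)

theorem mem_of_conj_oc (h : Hyp z a) {g : G}
    (hg : ∀ x ∈ oc z, g * x * g⁻¹ ∈ centralizer ({z} : Set G)) :
    g ∈ centralizer ({z} : Set G) := by
  refine inv_mem_iff.1 (mem_cz_of_conj_eq (h.eq_z_of_central fun y hy => ?_))
  have h1 : g * y * g⁻¹ * z = z * (g * y * g⁻¹) := (mem_cz.1 (hg y hy)).eq
  show g⁻¹ * z * g⁻¹⁻¹ * y = y * (g⁻¹ * z * g⁻¹⁻¹)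
  calc g⁻¹ * z * g⁻¹⁻¹ * y = g⁻¹ * (z * (g * y * g⁻¹)) * g := by group
    _ = g⁻¹ * (g * y * g⁻¹ * z) * g := by rw [h1]
    _ = y * (g⁻¹ * z * g⁻¹⁻¹) := by group

/-- A Sylow 2-subgroup of the centraliser, in `G`, contains `oc z`. -/
theorem oc_le_sylow (S : Sylow 2 ↥(centralizer ({z} : Set G))) :
    oc z ≤ (S : Subgroup ↥(centralizer ({z} : Set G))).map (centralizer ({z} : Set G)).subtype :=
  map_mono (Core.pCore_le_sylow S)

theorem sylow_le (h : Hyp z a) :
    ∃ S : Sylow 2 G, (S : Subgroup G) ≤ centralizer ({z} : Set G) := by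
  set H := centralizer ({z} : Set G) with hH
  obtain ⟨P⟩ : Nonempty (Sylow 2 ↥H) := inferInstance
  set P' := (P : Subgroup ↥H).map H.subtype with hP'
  have hp : IsPGroup 2 ↥P' := P.isPGroup'.map _
  obtain ⟨T, hT⟩ := hp.exists_le_sylow
  refine ⟨T, ?_⟩
  by_contra hne
  set Q := P'.subgroupOf (T : Subgroup G) with hQ
  haveI : Group.IsNilpotent ↥(T : Subgroup G) := T.isPGroup'.isNilpotent
  have hlt : Q < ⊤ := by
    refine lt_top_iff_ne_top.2 fun e => hne ?_
    intro x hx
    have hm : (⟨x, hx⟩ : ↥(T : Subgroup G)) ∈ Q := e ▸ mem_top _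
    exact map_subtype_le _ (mem_subgroupOf.1 hm)
  obtain ⟨⟨g, hgT⟩, hgn, hgQ⟩ := SetLike.exists_of_lt (normalizerCondition_of_isNilpotent Q hlt)
  have hnorm : ∀ x ∈ P', g * x * g⁻¹ ∈ P' := fun x hx => by
    have := (mem_normalizer_iff.1 hgn ⟨x, hT hx⟩).1 (mem_subgroupOf.2 hx)
    simpa [hQ, mem_subgroupOf] using this
  by_cases hgH : g ∈ H
  · refine hgQ (mem_subgroupOf.2 ⟨⟨g, hgH⟩, ?_, rfl⟩)
    have hle : (P : Subgroup ↥H) ≤ (T : Subgroup G).subgroupOf H :=
      fun x hx => mem_subgroupOf.2 (hT ⟨x, hx, rfl⟩)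
    rw [← P.is_maximal' (T.isPGroup'.comap_of_injective _ H.subtype_injective) hle]
    exact mem_subgroupOf.2 hgT
  · refine hgH (mem_of_conj_oc h fun x hx => ?_)
    exact map_subtype_le _ (hnorm x (oc_le_sylow P hx))

theorem fixed_not_conj (h : Hyp z a) (hf : Fixed z a) : ¬ IsConj a (a * z) := by
  intro hc
  obtain ⟨g, hg⟩ := isConj_iff.1 hc
  obtain ⟨S, hS⟩ := sylow_le h
  set C := centralizer ({a * z} : Set G) with hC
  have hHC : centralizer ({z} : Set G) ≤ C := fun c hc' =>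
    mem_centralizer_singleton_iff.2 ((hf c hc').mul_right (mem_cz.1 hc')).eq
  have hgS : ((g • S : Sylow 2 G) : Subgroup G) ≤ C := by
    rw [Sylow.coe_subgroup_smul]
    rintro x ⟨s, hs, rfl⟩
    refine mem_centralizer_singleton_iff.2 ?_
    show g * s * g⁻¹ * (a * z) = a * z * (g * s * g⁻¹)
    rw [← hg, conjm, conjm, (hf s (hS hs)).eq]
  obtain ⟨c, hc'⟩ := MulAction.exists_smul_eq ↥C ((g • S).subtype hgS) (S.subtype (hS.trans hHC))
  have heq : ((c : G) * g) • S = S := by
    rw [mul_smul]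
    refine Sylow.subtype_injective (hP := ?_) (hQ := hS.trans hHC) ?_
    · rw [Sylow.coe_subgroup_smul]
      rintro x ⟨s, hs, rfl⟩
      exact mul_mem (mul_mem c.2 (hgS hs)) (inv_mem c.2)
    · rw [← hc', Sylow.smul_subtype]
      rfl
  have hnorm : (c : G) * g ∈ normalizer ((S : Subgroup G) : Set G) := Sylow.smul_eq_iff_mem_normalizer.1 heq
  have hJS : oc z ≤ (S : Subgroup G) := by
    have hP := oc_le_sylow (S.subtype hS)
    refine hP.trans ?_
    rintro x ⟨y, hy, rfl⟩
    exact mem_subgroupOf.1 hy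
  have hH : (c : G) * g ∈ centralizer ({z} : Set G) :=
    mem_of_conj_oc h fun x hx => hS ((mem_normalizer_iff.1 hnorm x).1 (hJS hx))
  have e : (c : G) * g * a * ((c : G) * g)⁻¹ = a * z := by
    rw [show (c : G) * g * a * ((c : G) * g)⁻¹ = (c : G) * (g * a * g⁻¹) * (c : G)⁻¹ by group, hg,
      (mem_centralizer_singleton_iff.1 c.2 : (c : G) * (a * z) = a * z * (c : G)), mul_inv_cancel_right]
  rw [(hf _ hH).eq, mul_inv_cancel_right, eq_comm, mul_eq_left] at e
  exact h.z_ne_one e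

/-- An element acting trivially on `oc z` modulo its centre lies in `oc z`. -/
theorem mem_oc_of_act (h : Hyp z a) {x : G} (hx : x ∈ centralizer ({z} : Set G))
    (hact : ∀ j ∈ oc z, x * j * x⁻¹ * j⁻¹ = 1 ∨ x * j * x⁻¹ * j⁻¹ = z ∨ x * j * x⁻¹ * j⁻¹ = a ∨
      x * j * x⁻¹ * j⁻¹ = a * z) : x ∈ oc z := by
  set H := centralizer ({z} : Set G) with hH
  set Z : Subgroup G := oc z ⊓ centralizer ((oc z : Subgroup G) : Set G) with hZdef
  have hZmem : ∀ {w : G}, w ∈ Z ↔ w = 1 ∨ w = z ∨ w = a ∨ w = a * z := fun {w} =>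
    ⟨fun hw => h.central_cases fun y hy => ((mem_centralizer_iff.1 hw.2) y hy).symm,
      fun hw => ⟨(h.central_of_cases hw).1,
        mem_centralizer_iff.2 fun y hy => ((h.central_of_cases hw).2 y hy).symm⟩⟩
  have hZn : ∀ c ∈ H, ∀ w ∈ Z, c * w * c⁻¹ ∈ Z := fun c hc w hw => by
    refine ⟨oc_conj_mem hc hw.1, mem_centralizer_iff.2 fun y hy => ?_⟩
    have h1 := mem_centralizer_iff.1 hw.2 _ (oc_conj_mem (inv_mem hc) hy)
    calc y * (c * w * c⁻¹) = c * (c⁻¹ * y * c⁻¹⁻¹ * w) * c⁻¹ := by group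
      _ = c * (w * (c⁻¹ * y * c⁻¹⁻¹)) * c⁻¹ := by rw [h1]
      _ = c * w * c⁻¹ * y := by group
  let N : Subgroup ↥H :=
    { carrier := {c | ∀ j ∈ oc z, (c : G) * j * (c : G)⁻¹ * j⁻¹ ∈ Z}
      one_mem' := fun j _ => by simp [one_mem]
      mul_mem' := fun {c d} hc hd j hj => by
        rw [coe_mul, show (c : G) * d * j * ((c : G) * d)⁻¹ * j⁻¹
          = (c : G) * ((d : G) * j * (d : G)⁻¹ * j⁻¹) * (c : G)⁻¹ * ((c : G) * j * (c : G)⁻¹ * j⁻¹)
          by group]
        exact mul_mem (hZn _ c.2 _ (hd j hj)) (hc j hj)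
      inv_mem' := fun {c} hc j hj => by
        rw [coe_inv]
        have h1 := inv_mem (hZn _ (inv_mem c.2) _ (hc j hj))
        refine (?_ : (c : G)⁻¹ * j * (c : G)⁻¹⁻¹ * j⁻¹ = _) ▸ h1
        group }
  haveI : N.Normal := ⟨fun c hc d j hj => by
    have h1 := hZn _ d.2 _ (hc _ (oc_conj_mem (inv_mem d.2) hj))
    rw [coe_mul, coe_mul, coe_inv]
    refine (?_ : (d : G) * c * (d : G)⁻¹ * j * ((d : G) * c * (d : G)⁻¹)⁻¹ * j⁻¹ = _) ▸ h1
    group⟩
  have hodd : ∀ c ∈ N, Odd (orderOf (c : G)) → c = 1 := by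
    intro c hc ho
    have hca : Commute (c : G) a := by
      refine eq_of_odd_of_pow_fix (n := 1) ho ?_
      rcases h.a_conj c.2 with e | e
      · exact Commute.pow_left (mul_inv_eq_iff_eq_mul.1 e : Commute (c : G) a) _
      · refine mul_inv_eq_iff_eq_mul.1 ?_
        rw [pow_one, sq, show (c : G) * c * a * ((c : G) * c)⁻¹
          = (c : G) * ((c : G) * a * (c : G)⁻¹) * (c : G)⁻¹ by group, e,
          show (c : G) * (a * z) * (c : G)⁻¹ = (c : G) * a * (c : G)⁻¹ * ((c : G) * z * (c : G)⁻¹)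
          by group, e, (mem_cz.1 c.2).eq, mul_inv_cancel_right, mul_assoc, h.zz, mul_one]
    have hfix : ∀ w ∈ Z, Commute (c : G) w := fun w hw => by
      rcases hZmem.1 hw with rfl | rfl | rfl | rfl
      exacts [Commute.one_right _, mem_cz.1 c.2, hca, hca.mul_right (mem_cz.1 c.2)]
    have hcJ : (c : G) ∈ oc z := h.cent (mem_centralizer_iff.2 fun j hj => by
      set w := (c : G) * j * (c : G)⁻¹ * j⁻¹ with hw
      have hwZ : w ∈ Z := hc j hj
      have hpow : ∀ n : ℕ, (c : G) ^ n * j * ((c : G) ^ n)⁻¹ = w ^ n * j := by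
        intro n
        induction n with
        | zero => simp
        | succ n ih =>
          rw [pow_succ', show (c : G) * (c : G) ^ n * j * ((c : G) * (c : G) ^ n)⁻¹
            = (c : G) * ((c : G) ^ n * j * ((c : G) ^ n)⁻¹) * (c : G)⁻¹ by group, ih,
            ← mul_assoc, ((hfix w hwZ).pow_right n).eq, mul_assoc, mul_assoc, pow_succ,
            mul_assoc (w ^ n), hw]
          group
      have hw1 : w ^ orderOf (c : G) = 1 := by
        have := hpow (orderOf (c : G))
        rwa [pow_orderOf_eq_one, one_mul, inv_one, mul_one, eq_comm, mul_eq_right] at this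
      have hw2 : w * w = 1 := by
        rcases hZmem.1 hwZ with e | e | e | e <;> rw [e]
        exacts [one_mul 1, h.zz, h.aa, by
          rw [h.comm_za.mul_mul_mul_comm, h.aa, h.zz, one_mul]]
      obtain ⟨k, hk⟩ := ho
      rw [hk, pow_succ, pow_mul, sq, hw2, one_pow, one_mul] at hw1
      exact (mul_inv_eq_iff_eq_mul.1 (mul_inv_eq_one.1 (hw.symm.trans hw1))).symm)
    obtain ⟨k, hk⟩ := (oc_isPGroup z) ⟨c, hcJ⟩
    obtain ⟨i, -, hi⟩ := (Nat.dvd_prime_pow Nat.prime_two).1
      (orderOf_dvd_of_pow_eq_one (congrArg Subtype.val hk))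
    rw [hi] at ho
    rcases Nat.eq_zero_or_pos i with rfl | hi0
    · exact Subtype.ext (orderOf_eq_one_iff.1 (by simpa using hi))
    · exact absurd ho (Nat.not_odd_iff_even.2 (even_two.pow_of_ne_zero hi0.ne'))
  have hNp : IsPGroup 2 ↥N := by
    intro c
    obtain ⟨e, m, hm, hm'⟩ := Nat.exists_eq_two_pow_mul_odd (orderOf_pos (c : ↥H)).ne'
    refine ⟨e, Subtype.ext (hodd ((c : ↥H) ^ 2 ^ e) (pow_mem c.2 _) ?_)⟩
    rw [Subgroup.orderOf_coe, orderOf_pow, hm']
    simpa using hm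
  have hxN : (⟨x, hx⟩ : ↥H) ∈ N := fun j hj => hZmem.2 (hact j hj)
  exact ⟨⟨x, hx⟩, Core.le_pCore hNp hxN, rfl⟩

/-- The centraliser in `oc z` of the centraliser of a noncentral involution of `oc z`. -/
theorem Hyp.double_cent (h : Hyp z a) {t c : G} (ht : t ∈ oc z) (hct : c ∈ oc z)
    (hnc : ¬ ∀ j ∈ oc z, Commute t j) (hcom : ∀ j ∈ oc z, Commute j t → Commute j c) :
    (∀ j ∈ oc z, Commute c j) ∨ ∀ j ∈ oc z, Commute (c * t) j := by
  push Not at hnc
  obtain ⟨y, hy, hty⟩ := hnc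
  have key : ∀ d ∈ oc z, Commute d y → (∀ j ∈ oc z, Commute j t → Commute j d) →
      ∀ j ∈ oc z, Commute d j := by
    intro d hd hdy hd' j hj
    by_cases hjt : Commute j t
    · exact (hd' j hj hjt).symm
    · have h1 : Commute (y⁻¹ * j) t := by
        have ey : y * t * y⁻¹ = t * z := by
          rcases h.comm y hy t ht with e | e
          · exact absurd (mul_inv_eq_iff_eq_mul.1 (mul_inv_eq_one.1 e)).symm hty
          · rw [mul_inv_eq_iff_eq_mul.1 e, (h.comm_mem_z ht).eq]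
        have ej : j * t * j⁻¹ = t * z := by
          rcases h.comm j hj t ht with e | e
          · exact absurd (mul_inv_eq_iff_eq_mul.1 (mul_inv_eq_one.1 e)) hjt
          · rw [mul_inv_eq_iff_eq_mul.1 e, (h.comm_mem_z ht).eq]
        refine mul_inv_eq_iff_eq_mul.1 ?_
        calc y⁻¹ * j * t * (y⁻¹ * j)⁻¹ = y⁻¹ * (j * t * j⁻¹) * y := by group
          _ = y⁻¹ * (y * t * y⁻¹) * y := by rw [ej, ey]
          _ = t := by group
      have h2 : Commute d (y * (y⁻¹ * j)) :=
        hdy.mul_right (hd' _ (mul_mem (inv_mem hy) hj) h1).symm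
      rwa [mul_inv_cancel_left] at h2
  by_cases hcy : Commute c y
  · exact Or.inl (key c hct hcy hcom)
  · refine Or.inr (key (c * t) (mul_mem hct ht) ?_ fun j hj hjt =>
      (hcom j hj hjt).mul_right hjt)
    have ec : c * y * c⁻¹ = y * z := by
      rcases h.comm c hct y hy with e | e
      · exact absurd (mul_inv_eq_iff_eq_mul.1 (mul_inv_eq_one.1 e)) hcy
      · rw [mul_inv_eq_iff_eq_mul.1 e, (h.comm_mem_z hy).eq]
    have et : t * y * t⁻¹ = y * z := by
      rcases h.comm t ht y hy with e | e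
      · exact absurd (mul_inv_eq_iff_eq_mul.1 (mul_inv_eq_one.1 e)) hty
      · rw [mul_inv_eq_iff_eq_mul.1 e, (h.comm_mem_z hy).eq]
    refine mul_inv_eq_iff_eq_mul.1 ?_
    calc c * t * y * (c * t)⁻¹ = c * (t * y * t⁻¹) * c⁻¹ := by group
      _ = c * y * c⁻¹ * (c * z * c⁻¹) := by rw [et]; group
      _ = y := by
        rw [ec, (h.comm_mem_z hct).eq, mul_inv_cancel_right, mul_assoc, h.zz, mul_one]

theorem mem_oc_of_fix (h : Hyp z a) {x t : G} (hx : x ∈ centralizer ({z} : Set G))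
    (ht : t ∈ oc z) (htt : t * t = 1) (hnc : ¬ ∀ j ∈ oc z, Commute t j)
    (hfix : ∀ j ∈ oc z, Commute j t → Commute j x) : x ∈ oc z := by
  obtain ⟨y, hy, hty⟩ : ∃ y ∈ oc z, ¬ Commute t y := by push Not at hnc; exact hnc
  set c := y⁻¹ * (x * y * x⁻¹) with hc
  have hcJ : c ∈ oc z := mul_mem (inv_mem hy) (oc_conj_mem hx hy)
  have hcC : ∀ k ∈ oc z, Commute k t → Commute k c := by
    intro k hk hkt
    have h1 : Commute (y * k * y⁻¹) t := by
      rcases h.comm y hy k hk with e | e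
      · rwa [mul_inv_eq_one.1 e]
      · rw [mul_inv_eq_iff_eq_mul.1 e]
        exact (h.comm_mem_z ht).symm.mul_left hkt
    have h2 : Commute (y * k * y⁻¹) x :=
      hfix _ (mul_mem (mul_mem hy hk) (inv_mem hy)) h1
    have h3 : Commute k x := hfix k hk hkt
    refine (mul_inv_eq_iff_eq_mul.1 ?_ : Commute c k).symm
    calc c * k * c⁻¹ = y⁻¹ * (x * y * (x⁻¹ * k * x) * y⁻¹ * x⁻¹) * y := by rw [hc]; group
      _ = y⁻¹ * (x * (y * k * y⁻¹) * x⁻¹) * y := by
        rw [show x⁻¹ * k * x = k by rw [mul_assoc, h3.eq, inv_mul_cancel_left]]; group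
      _ = k := by rw [h2.symm.eq, mul_inv_cancel_right]; group
  refine mem_oc_of_act h hx ?_
  have hcen : ∀ j ∈ oc z, Commute c j := by
    rcases h.double_cent ht hcJ hnc hcC with h1 | h1
    · exact h1
    exfalso
    have hζ : ∀ j ∈ oc z, Commute (c * t) j := h1
    have hζ2 : c * t * (c * t) = 1 := by
      rcases h.central_cases hζ with e | e | e | e <;> rw [e]
      exacts [one_mul 1, h.zz, h.aa, by
        rw [h.comm_za.mul_mul_mul_comm, h.aa, h.zz, one_mul]]
    have eyt : t * y * t⁻¹ = y * z := by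
      rcases h.comm t ht y hy with e | e
      · exact absurd (mul_inv_eq_iff_eq_mul.1 (mul_inv_eq_one.1 e)) hty
      · rw [mul_inv_eq_iff_eq_mul.1 e, (h.comm_mem_z hy).eq]
    have ti : t⁻¹ = t := inv_eq_of_mul_eq_one_right htt
    have exy : x * y * x⁻¹ = y * (c * t) * t := by
      rw [hc, mul_assoc y, mul_assoc _ t t, htt, mul_one, mul_inv_cancel_left]
    have e1 : x * (y * y) * x⁻¹ = y * y * z := by
      calc x * (y * y) * x⁻¹ = x * y * x⁻¹ * (x * y * x⁻¹) := by group
        _ = y * (c * t) * t * (y * (c * t) * t) := by rw [exy]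
        _ = y * ((c * t) * (t * y * t⁻¹)) * ((t * (c * t)) * t) := by group
        _ = y * ((t * y * t⁻¹) * (c * t)) * (((c * t) * t) * t) := by
          rw [(hζ _ (mul_mem (mul_mem ht hy) (inv_mem ht))).eq, (hζ t ht).eq]
        _ = y * y * (z * (c * t * (c * t))) * (t * t) := by rw [eyt]; group
        _ = y * y * z := by rw [hζ2, htt, mul_one, mul_one]
    have e2 : x * (y * y) * x⁻¹ = y * y := by
      have hcom : Commute x (y * y) := by
        rcases h.sq y hy with e | e <;> rw [e]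
        exacts [Commute.one_right x, mem_cz.1 hx]
      rw [hcom.eq, mul_inv_cancel_right]
    rw [e2, left_eq_mul] at e1
    exact h.z_ne_one e1
  have hxc : ∀ j ∈ oc z, x * j * x⁻¹ * j⁻¹ = 1 ∨ x * j * x⁻¹ * j⁻¹ = c := by
    intro j hj
    by_cases hjt : Commute j t
    · left; rw [← (hfix j hj hjt).eq, mul_inv_cancel_right, mul_inv_cancel]
    · right
      have h1 : Commute (y⁻¹ * j) t := by
        have ey : y * t * y⁻¹ = t * z := by
          rcases h.comm y hy t ht with e | e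
          · exact absurd (mul_inv_eq_iff_eq_mul.1 (mul_inv_eq_one.1 e)).symm hty
          · rw [mul_inv_eq_iff_eq_mul.1 e, (h.comm_mem_z ht).eq]
        have ej : j * t * j⁻¹ = t * z := by
          rcases h.comm j hj t ht with e | e
          · exact absurd (mul_inv_eq_iff_eq_mul.1 (mul_inv_eq_one.1 e)) hjt
          · rw [mul_inv_eq_iff_eq_mul.1 e, (h.comm_mem_z ht).eq]
        refine mul_inv_eq_iff_eq_mul.1 ?_
        calc y⁻¹ * j * t * (y⁻¹ * j)⁻¹ = y⁻¹ * (j * t * j⁻¹) * y := by group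
          _ = y⁻¹ * (y * t * y⁻¹) * y := by rw [ej, ey]
          _ = t := by group
      set k := y⁻¹ * j with hk
      have hkJ : k ∈ oc z := mul_mem (inv_mem hy) hj
      have hjk : j = y * k := by rw [hk, mul_inv_cancel_left]
      have hxk : x * k * x⁻¹ = k := by rw [(hfix k hkJ h1).symm.eq, mul_inv_cancel_right]
      calc x * j * x⁻¹ * j⁻¹ = y * (y⁻¹ * (x * y * x⁻¹)) * (x * k * x⁻¹) * (k⁻¹ * y⁻¹) := by
            rw [hjk]; group
        _ = y * c * y⁻¹ := by rw [hxk, hc]; group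
        _ = c := by rw [(hcen y hy).symm.eq, mul_inv_cancel_right]
  intro j hj
  rcases hxc j hj with e | e
  · exact Or.inl e
  · rw [e]; exact h.central_cases hcen

theorem inv_of_normalised (h : Hyp z a) {N : Subgroup G} (hN : Odd (Nat.card ↥N))
    (hnorm : oc z ≤ normalizer (N : Set G)) : ∀ x ∈ N, z * x * z⁻¹ = x⁻¹ := by
  have hzN : z ∈ normalizer (N : Set G) := hnorm h.z_mem
  let φ : ↥N →* ↥N :=
    { toFun := fun x => ⟨z * x * z⁻¹, (mem_normalizer_iff.1 hzN x).1 x.2⟩
      map_one' := Subtype.ext (by simp)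
      map_mul' := fun x y => Subtype.ext (by simp [mul_assoc]) }
  have hφ : MonoidHom.FixedPointFree φ := by
    intro x hx
    have h1 : z * (x : G) * z⁻¹ = x := congrArg Subtype.val hx
    have hxH : (x : G) ∈ centralizer ({z} : Set G) :=
      mem_cz.2 (mul_inv_eq_iff_eq_mul.1 h1).symm
    have hbot : N ⊓ oc z = ⊥ := LargeExtra.inf_eq_bot_of_odd hN (oc_isPGroup z)
    have hxJ : (x : G) ∈ oc z := by
      refine h.cent (mem_centralizer_iff.2 fun y hy => ?_)
      have hmem : (x : G) * y * (x : G)⁻¹ * y⁻¹ ∈ N ⊓ oc z := by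
        refine ⟨?_, (oc z).mul_mem (oc_conj_mem hxH hy) ((oc z).inv_mem hy)⟩
        rw [mul_assoc (x : G), mul_assoc (x : G)]
        exact N.mul_mem x.2 ((mem_normalizer_iff.1 (hnorm hy) _).1 (N.inv_mem x.2))
      rw [hbot, mem_bot, mul_inv_eq_one, mul_inv_eq_iff_eq_mul] at hmem
      exact hmem.symm
    have h2 : (x : G) ∈ N ⊓ oc z := ⟨x.2, hxJ⟩
    rw [hbot, mem_bot] at h2
    exact Subtype.ext h2
  have hinv : Function.Involutive φ := fun x => Subtype.ext (by
    show z * (z * (x : G) * z⁻¹) * z⁻¹ = x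
    rw [inv_eq_of_mul_eq_one_right h.zz,
      show z * (z * (x : G) * z) * z = z * z * x * (z * z) by group, h.zz, one_mul, mul_one])
  exact fun x hx => congrArg Subtype.val (congrFun (hφ.coe_eq_inv_of_involutive hinv) ⟨x, hx⟩)

theorem eq_of_mem_fixed (h : Hyp z a) (hf : Fixed z a) (h1 : IsoInJ z a) (h2 : IsoInJ z (a * z))
    (g : G) (hg : g * z * g⁻¹ ∈ oc z) : g * z * g⁻¹ = z := by
  by_contra hne
  set w := g * z * g⁻¹ with hw
  have hww : w * w = 1 := by
    rw [hw, show g * z * g⁻¹ * (g * z * g⁻¹) = g * (z * z) * g⁻¹ by group, h.zz]; group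
  have hnc : ¬ ∀ j ∈ oc z, Commute w j := fun hc => hne (h.eq_z_of_central hc)
  have hfw : ∀ c : G, Commute c w → Commute c (g * a * g⁻¹) := fun c hc => by
    have h3 : Commute (g⁻¹ * c * g) z := by
      show g⁻¹ * c * g * z = z * (g⁻¹ * c * g)
      calc g⁻¹ * c * g * z = g⁻¹ * (c * w) * g := by rw [hw]; group
        _ = g⁻¹ * (w * c) * g := by rw [hc.eq]
        _ = z * (g⁻¹ * c * g) := by rw [hw]; group
    have h4 := (hf _ (mem_cz.2 h3)).eq
    show c * (g * a * g⁻¹) = g * a * g⁻¹ * c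
    calc c * (g * a * g⁻¹) = g * (g⁻¹ * c * g * a) * g⁻¹ := by group
      _ = g * (a * (g⁻¹ * c * g)) * g⁻¹ := by rw [h4]
      _ = g * a * g⁻¹ * c := by group
  have hzw : Commute z w := (h.comm_mem_z hg).symm
  have haH : g * a * g⁻¹ ∈ centralizer ({z} : Set G) := mem_cz.2 (hfw z hzw).symm
  have haJ := mem_oc_of_fix h haH hg hww hnc fun j _ hjw => hfw j hjw
  rcases h.double_cent hg haJ hnc (fun j _ hjw => hfw j hjw) with hc | hc
  · rcases h.central_cases hc with e | e | e | e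
    · exact h.a_ne_one (conj_eq_one_iff.1 e)
    · exact not_conj h (isConj_iff.2 ⟨g, e⟩).symm
    · exact hne (h1 g (mul_inv_eq_iff_eq_mul.1 e) hg)
    · exact fixed_not_conj h hf (isConj_iff.2 ⟨g, e⟩)
  · have ew : g * a * g⁻¹ * w = g * (a * z) * g⁻¹ := by rw [hw]; group
    rw [ew] at hc
    rcases h.central_cases hc with e | e | e | e
    · exact h.other.a_ne_one (conj_eq_one_iff.1 e)
    · exact not_conj_az h (isConj_iff.2 ⟨g, e⟩).symm
    · exact fixed_not_conj h hf (isConj_iff.2 ⟨g, e⟩).symm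
    · exact hne (h2 g (mul_inv_eq_iff_eq_mul.1 e) hg)

theorem fix_le (h : Hyp z a) {u : G} (hzu : Commute z u) (hiso : IsoIn z u) {g : G}
    (hgH : g * z * g⁻¹ ∈ centralizer ({z} : Set G)) (_hgu : Commute (g * z * g⁻¹) u) :
    ∀ y ∈ oc (g * z * g⁻¹), Commute y u → Commute y z := by
  intro y hy hyu
  have hzw : z ∈ centralizer ({g * z * g⁻¹} : Set G) :=
    mem_centralizer_singleton_iff.2 (mem_cz.1 hgH).symm.eq
  have hzi : z⁻¹ = z := inv_eq_of_mul_eq_one_right h.zz
  have hd : z * y * z⁻¹ * y⁻¹ ∈ oc (g * z * g⁻¹) := mul_mem (oc_conj_mem hzw hy) (inv_mem hy)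
  obtain ⟨n, hn⟩ := (oc_isPGroup (g * z * g⁻¹)) ⟨_, hd⟩
  have hdu : Commute (z * y * z⁻¹ * y⁻¹) u :=
    ((hzu.mul_left hyu).mul_left hzu.inv_left).mul_left hyu.inv_left
  set d := z * y * z⁻¹ * y⁻¹ with hd'
  have hn' : d ^ 2 ^ n = 1 := congrArg Subtype.val hn
  -- an element inverted by `z` and commuting with `u`, of order at most four
  have hzd : ∀ m : ℕ, z * d ^ m * z⁻¹ = (d ^ m)⁻¹ := by
    intro m
    rw [← inv_pow, ← conj_pow]
    congr 1
    rw [hd']
    simp only [hzi, mul_inv_rev, inv_inv]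
    rw [show z * (z * y * z * y⁻¹) * z = z * z * (y * z * y⁻¹ * z) by group, h.zz, one_mul]
    group
  have hkill : ∀ k, d ^ 2 ^ k = 1 → d = 1 := by
    intro k
    induction k with
    | zero => intro hk; simpa using hk
    | succ k ih =>
      intro hk
      refine ih ?_
      rcases Nat.eq_zero_or_pos k with rfl | hk0
      · -- `d` has order at most two: then `y z y⁻¹` commutes with `z`
        have hdd : d * d = 1 := by simpa [pow_succ, sq] using hk
        have e1 : y * z * y⁻¹ = z * d := by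
          rw [hd', show z * (z * y * z⁻¹ * y⁻¹) = z * z * (y * z⁻¹ * y⁻¹) by group, h.zz, one_mul,
            hzi]
        have e2 : Commute d z := by
          have := hzd 1
          rw [pow_one, inv_eq_of_mul_eq_one_right hdd, mul_inv_eq_iff_eq_mul] at this
          exact this.symm
        have e3 := hiso y hyu (by rw [e1]; exact (Commute.refl z).mul_left e2)
        rw [e1, mul_eq_left] at e3
        simpa using e3
      · -- an element of order at most four
        set k' := d ^ 2 ^ (k - 1) with hk'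
        have hk2 : k' * k' = d ^ 2 ^ k := by
          rw [hk', ← pow_add, ← two_mul, ← pow_succ']
          congr 2
          omega
        have e1 : k' * z * k'⁻¹ = z * (d ^ 2 ^ k)⁻¹ := by
          have e0 : z * k' = k'⁻¹ * z := mul_inv_eq_iff_eq_mul.1 (hzd _)
          have e0' : k' * z = z * k'⁻¹ := by
            calc k' * z = z * (z * k') * z := by rw [← mul_assoc, h.zz, one_mul]
              _ = z * (k'⁻¹ * z) * z := by rw [e0]
              _ = z * k'⁻¹ := by rw [mul_assoc, mul_assoc, h.zz, mul_one]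
          rw [e0', mul_assoc, ← mul_inv_rev, hk2]
        have e2 : Commute (d ^ 2 ^ k) z := by
          have := hzd (2 ^ k)
          rw [inv_eq_of_mul_eq_one_right (show d ^ 2 ^ k * d ^ 2 ^ k = 1 by
            rw [← pow_add, ← two_mul, ← pow_succ', hk]), mul_inv_eq_iff_eq_mul] at this
          exact this.symm
        have e3 := hiso k' (hdu.pow_left _)
          (by rw [e1]; exact (Commute.refl z).mul_left e2.inv_left)
        rw [e1, mul_eq_left, inv_eq_one] at e3
        exact e3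
  have h1 : d = 1 := hkill n hn'
  rw [hd'] at h1
  exact (mul_inv_eq_iff_eq_mul.1 (mul_inv_eq_one.1 h1)).symm

end Cfsg.Agent.Fi22Two
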