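import Mathlib.GroupTheory.Commutator.Basic
import Cfsg.Agent.U62Rec.Mod

/-!
# Centraliser `(2 × 2^{1+8}).Aut(PSp₄(3))`: the common language

`z` is the involution, `oc z` its `O₂(C z)`, with centre `{1, z, a, a z}`.
-/

set_option autoImplicit false

open Cfsg Subgroup

namespace Cfsg.Agent.Fi22Two

open Cfsg.Agent.LargeExtra Cfsg.Agent.U62Rec

variable {G : Type*} [Group G] [Finite G]

/-- The hypotheses. -/
structure Hyp (z a : G) : Prop where
  ordz : orderOf z = 2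
  orda : orderOf a = 2
  a_mem : a ∈ oc z
  ne : a ≠ z
  cent : centralizer ((oc z : Subgroup G) : Set G) ≤ oc z
  card : Nat.card ↥(oc z) = 1024
  comm : ∀ x ∈ oc z, ∀ y ∈ oc z, x * y * x⁻¹ * y⁻¹ = 1 ∨ x * y * x⁻¹ * y⁻¹ = z
  sq : ∀ x ∈ oc z, x * x = 1 ∨ x * x = z
  centre : ∀ x ∈ oc z, (∀ y ∈ oc z, Commute x y) ↔ (x = 1 ∨ x = z ∨ x = a ∨ x = a * z)
  quot : Nonempty ((↥(centralizer ({z} : Set G)) ⧸ pCore 2 ↥(centralizer ({z} : Set G))) ≃*
    MulAut (Cfsg.PSp 2 (ZMod 3)))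

/-- The centraliser of `z` fixes `a`. -/
def Fixed (z a : G) : Prop := ∀ h ∈ centralizer ({z} : Set G), Commute h a

/-- `z` is isolated in the centraliser of `u`. -/
def IsoIn (z u : G) : Prop :=
  ∀ g : G, Commute g u → Commute (g * z * g⁻¹) z → g * z * g⁻¹ = z

/-- `z` is isolated in `oc z` under the centraliser of `u`. -/
def IsoInJ (z u : G) : Prop :=
  ∀ g : G, Commute g u → g * z * g⁻¹ ∈ oc z → g * z * g⁻¹ = z

/-- The part of `C z` above `PSp₄(3)`. -/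
def inner (z : G) : Subgroup G :=
  (commutator ↥(centralizer ({z} : Set G)) ⊔ pCore 2 ↥(centralizer ({z} : Set G))).map
    (centralizer ({z} : Set G)).subtype

/-- `C a` has a normal subgroup `L` of which `L ⧸ ⟨a⟩` is `U₆(2)` and `C a = L C_{C z}(a)`. -/
structure Big (K : Type*) [Field K] [Fintype K] (z a : G) (L : Subgroup G) : Prop where
  a_mem : a ∈ L
  le : L ≤ centralizer ({a} : Set G)
  norm : ∀ c ∈ centralizer ({a} : Set G), ∀ l ∈ L, c * l * c⁻¹ ∈ L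
  meet : L ⊓ centralizer ({z} : Set G) = inner z
  decomp : ∀ c ∈ centralizer ({a} : Set G),
    ∃ l ∈ L, ∃ h ∈ centralizer ({z} : Set G) ⊓ centralizer ({a} : Set G), c = l * h
  iso : ∃ hn : ((zpowers a).subgroupOf L).Normal,
    Nonempty ((↥L ⧸ (zpowers a).subgroupOf L) ≃* Cfsg.PSU 6 K 2)

/-- Coordinates for `oc z` modulo its centre and for the action of `C z ⊓ C a`. -/
structure Mod2 (C : Cfg) (z a : G) where
  bar : G → ℕ
  rho : G → ℕ
  bar_lt : ∀ x, bar x < 256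
  bar_mul : ∀ x ∈ oc z, ∀ y ∈ oc z, bar (x * y) = bar x ^^^ bar y
  bar_eq : ∀ x ∈ oc z, (bar x = 0 ↔ x = 1 ∨ x = z ∨ x = a ∨ x = a * z)
  bar_surj : ∀ v < 256, ∃ x ∈ oc z, bar x = v
  sq : ∀ x ∈ oc z, x * x = if qv C.l (bar x) then z else 1
  comm : ∀ x ∈ oc z, ∀ y ∈ oc z, x * y * x⁻¹ * y⁻¹ = if fv (bar x) (bar y) then z else 1
  rho_code : ∀ h, IsCode (rho h)
  rho_mul : ∀ g ∈ centralizer ({z} : Set G) ⊓ centralizer ({a} : Set G),
    ∀ h ∈ centralizer ({z} : Set G) ⊓ centralizer ({a} : Set G), rho (g * h) = U62Rec.cmp (rho g) (rho h)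
  rho_act : ∀ h ∈ centralizer ({z} : Set G) ⊓ centralizer ({a} : Set G), ∀ x ∈ oc z,
    bar (h * x * h⁻¹) = app (rho h) (bar x)
  rho_ker : ∀ h ∈ centralizer ({z} : Set G) ⊓ centralizer ({a} : Set G),
    (rho h = idm ↔ h ∈ oc z)
  rho_gen : ∀ h ∈ centralizer ({z} : Set G) ⊓ centralizer ({a} : Set G), Gen C.gens (rho h)
  rho_surj : ∀ g ∈ C.gens, ∃ h ∈ centralizer ({z} : Set G) ⊓ centralizer ({a} : Set G), rho h = g

theorem Hyp.zz {z a : G} (h : Hyp z a) : z * z = 1 := by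
  rw [← _root_.sq, ← h.ordz]; exact pow_orderOf_eq_one z

theorem Hyp.aa {z a : G} (h : Hyp z a) : a * a = 1 := by
  rw [← _root_.sq, ← h.orda]; exact pow_orderOf_eq_one a

theorem Hyp.z_mem {z a : G} (h : Hyp z a) : z ∈ oc z := mem_oc_self h.ordz

theorem Hyp.comm_za {z a : G} (h : Hyp z a) : Commute z a :=
  (mem_centralizer_singleton_iff.1 (oc_le z h.a_mem)).symm

/-- The other central involution. -/
theorem Hyp.other {z a : G} (h : Hyp z a) : Hyp z (a * z) := by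
  have hc := h.comm_za
  have hazz : a * z * z = a := by rw [mul_assoc, h.zz, mul_one]
  refine ⟨h.ordz, ?_, mul_mem h.a_mem h.z_mem, ?_, h.cent, h.card, h.comm, h.sq, fun x hx => ?_,
    h.quot⟩
  · refine orderOf_eq_prime ?_ fun e => h.ne ?_
    · rw [hc.symm.mul_pow, _root_.sq, _root_.sq, h.aa, h.zz, one_mul]
    · calc a = a * z * z := hazz.symm
        _ = z := by rw [e, one_mul]
  · intro e
    have ha : a = 1 := by simpa using e
    exact absurd h.orda (by simp [ha])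
  · rw [h.centre x hx, hazz]
    tauto

end Cfsg.Agent.Fi22Two
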