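import Cfsg.Agent.Fi22Two.Common

/-!
# Commuting triples of involutory maps with a common fixed space: the language of the finite check
-/

set_option autoImplicit false

namespace Cfsg.Agent.Fi22Two

open Cfsg.Agent.U62Rec

/-- Maps of the inner part. -/
def InnerCode (C : Cfg) (p : ℕ) : Prop := Gen (C.gens.take 8) p

/-- An involutory map of the configuration. -/
structure InvCode (C : Cfg) (p : ℕ) : Prop where
  gen : Gen C.gens p
  ne : p ≠ idm
  sq : U62Rec.cmp p p = idm

/-- Moved vectors. -/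
def Moved (p v : ℕ) : Prop := ∃ u < 256, app p u ^^^ u = v

/-- `U` is the common image of the centralisers of three commuting involutions. -/
structure Triple (C : Cfg) (p x : ℕ) (U : List ℕ) : Prop where
  ip : InvCode C p
  ix : InvCode C x
  comm : U62Rec.cmp p x = U62Rec.cmp x p
  ne : p ≠ x
  nodup : U.Nodup
  fix : ∀ v ∈ U, v < 256 ∧ app p v = v ∧ app x v = v
  moved : ∀ q, q = p ∨ q = x ∨ q = U62Rec.cmp p x → ∀ v < 256, Moved q v →
    (v ∈ U ↔ qv C.l v = false)
  phi : ∀ q, q = p ∨ q = x ∨ q = U62Rec.cmp p x → InnerCode C q →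
    ∃ m < 256, ∀ v < 256, app q v = v → (v ∈ U ↔ lv m v = false)

/-- The radical of `U`. -/
def radU (U : List ℕ) : List ℕ := U.filter fun v => U.all fun u => !fv v u

/-- Too few maps centralise the triple. -/
def Small (C : Cfg) (p x : ℕ) (U : List ℕ) : Prop :=
  ∃ L : List ℕ, L.Nodup ∧
    (∀ m, m ∈ L ↔ Gen C.gens m ∧ U62Rec.cmp p m = U62Rec.cmp m p ∧ U62Rec.cmp x m = U62Rec.cmp m x) ∧
    (radU U).length * Nat.gcd L.length 256 < 4 * U.length

/-- A map of order three fixes `q` and its lift and moves `r` by a two-element. -/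
def Twisted (C : Cfg) (q r : ℕ) (U : List ℕ) : Prop :=
  (∀ v < 256, app q v = v → v ∈ U ∧ Moved q v) ∧
  ∃ c, Gen C.gens c ∧ U62Rec.cmp c (U62Rec.cmp c c) = idm ∧ U62Rec.cmp c q = U62Rec.cmp q c ∧
    let y := U62Rec.cmp (U62Rec.cmp (U62Rec.cmp c r) (U62Rec.cmp c c)) r
    y ≠ idm ∧ U62Rec.cmp (U62Rec.cmp y y) (U62Rec.cmp y y) = idm

/-- The result of the check. -/
def Verdict (C : Cfg) (p x : ℕ) (U : List ℕ) : Prop :=
  Small C p x U ∨ ∃ q r, (q = p ∨ q = x ∨ q = U62Rec.cmp p x) ∧
    (r = p ∨ r = x ∨ r = U62Rec.cmp p x) ∧ q ≠ r ∧ InnerCode C q ∧ Twisted C q r U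

/-- A functional to be excluded on the fixed space of an inner involution. -/
structure InnerFunctional (C : Cfg) (p m : ℕ) : Prop where
  inv : InvCode C p
  inner : InnerCode C p
  moved : ∀ v < 256, Moved p v → lv m v = false
  stable : ∀ c, InnerCode C c → U62Rec.cmp c p = U62Rec.cmp p c →
    ∀ v < 256, app p v = v → lv m (app c v) = lv m v
  fixed : ∀ v < 256, app p v = v → (∀ g ∈ C.gens.take 8, app g v = v) → lv m v = false

end Cfsg.Agent.Fi22Two
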