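import Cfsg.Agent.Fi22Two.Inner
import Cfsg.Agent.Fi22Two.TripleDef
import Cfsg.Agent.U62Rec.Dichotomy

/-!
# Transport by conjugation and the maps of the inner part
-/

set_option autoImplicit false

open Cfsg Subgroup
open scoped commutatorElement

namespace Cfsg.Agent.Fi22Two

open Cfsg.Agent.LargeExtra Cfsg.Agent.U62Rec

variable {G : Type*} [Group G] [Finite G] {z a : G}

theorem mem_oc_conj_back {g x z : G} (hx : x ∈ oc (g * z * g⁻¹)) : g⁻¹ * x * g ∈ oc z := by
  simpa [mul_assoc] using conj_mem_oc (g := g⁻¹) hx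

theorem mem_cent_conj {g x z : G} :
    x ∈ centralizer ({g * z * g⁻¹} : Set G) ↔ g⁻¹ * x * g ∈ centralizer ({z} : Set G) := by
  rw [mem_centralizer_singleton_iff, mem_centralizer_singleton_iff]
  constructor <;> intro e
  · calc g⁻¹ * x * g * z = g⁻¹ * (x * (g * z * g⁻¹)) * g := by group
      _ = z * (g⁻¹ * x * g) := by rw [e]; group
  · calc x * (g * z * g⁻¹) = g * (g⁻¹ * x * g * z) * g⁻¹ := by group
      _ = g * z * g⁻¹ * x := by rw [e]; group

theorem mem_oc_conj_iff {g x z : G} : x ∈ oc (g * z * g⁻¹) ↔ g⁻¹ * x * g ∈ oc z :=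
  ⟨mem_oc_conj_back, fun h => by simpa [mul_assoc] using conj_mem_oc (g := g) h⟩

/-- The hypotheses are carried by conjugation. -/
theorem Hyp.conj (h : Hyp z a) (g : G) : Hyp (g * z * g⁻¹) (g * a * g⁻¹) := by
  have back : ∀ x : G, x = g * (g⁻¹ * x * g) * g⁻¹ := fun x => by group
  refine ⟨((MulAut.conj g).orderOf_eq z).trans h.ordz, ((MulAut.conj g).orderOf_eq a).trans h.orda,
    conj_mem_oc h.a_mem, fun e => h.ne (mul_left_cancel (mul_right_cancel e)), ?_, ?_, ?_, ?_, ?_, ?_⟩
  · intro x hx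
    refine mem_oc_conj_iff.2 (h.cent (mem_centralizer_iff.2 fun j hj => ?_))
    have e := mem_centralizer_iff.1 hx _ (conj_mem_oc (g := g) hj)
    calc j * (g⁻¹ * x * g) = g⁻¹ * (g * j * g⁻¹ * x) * g := by group
      _ = g⁻¹ * x * g * j := by rw [e]; group
  · rw [← h.card]
    exact Nat.card_congr
      { toFun := fun x => ⟨g⁻¹ * x * g, mem_oc_conj_back x.2⟩
        invFun := fun x => ⟨g * x * g⁻¹, conj_mem_oc x.2⟩
        left_inv := fun x => Subtype.ext (back x).symm
        right_inv := fun x => Subtype.ext (by simp [mul_assoc]) }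
  · intro x hx y hy
    have e : x * y * x⁻¹ * y⁻¹ = g * ((g⁻¹ * x * g) * (g⁻¹ * y * g) * (g⁻¹ * x * g)⁻¹ *
        (g⁻¹ * y * g)⁻¹) * g⁻¹ := by group
    rcases h.comm _ (mem_oc_conj_back hx) _ (mem_oc_conj_back hy) with e' | e' <;> rw [e, e']
    · left; group
    · right; rfl
  · intro x hx
    have e : x * x = g * ((g⁻¹ * x * g) * (g⁻¹ * x * g)) * g⁻¹ := by group
    rcases h.sq _ (mem_oc_conj_back hx) with e' | e' <;> rw [e, e']
    · left; group
    · right; rfl
  · intro x hx
    have hb := h.centre _ (mem_oc_conj_back hx)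
    have hiff : ∀ u : G, g⁻¹ * x * g = u ↔ x = g * u * g⁻¹ := fun u =>
      ⟨fun e => by rw [← e]; group, fun e => by rw [e]; group⟩
    constructor
    · intro hall
      have := hb.1 fun y hy => by
        have := (hall _ (conj_mem_oc (g := g) hy)).map (MulAut.conj g⁻¹)
        simpa [mul_assoc] using this
      rw [hiff, hiff, hiff, hiff] at this
      simpa [mul_assoc] using this
    · intro hc y hy
      have : g⁻¹ * x * g = 1 ∨ g⁻¹ * x * g = z ∨ g⁻¹ * x * g = a ∨ g⁻¹ * x * g = a * z := by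
        rw [hiff, hiff, hiff, hiff]; simpa [mul_assoc] using hc
      have := (hb.2 this _ (mem_oc_conj_back hy)).map (MulAut.conj g)
      simpa [mul_assoc] using this
  · obtain ⟨e⟩ := h.quot
    let i : ↥(centralizer ({g * z * g⁻¹} : Set G)) ≃* ↥(centralizer ({z} : Set G)) :=
      { toFun := fun x => ⟨g⁻¹ * x * g, mem_cent_conj.1 x.2⟩
        invFun := fun x => ⟨g * x * g⁻¹, mem_cent_conj.2 (by simp [mul_assoc, x.2])⟩
        left_inv := fun x => Subtype.ext (back x).symm
        right_inv := fun x => Subtype.ext (by simp [mul_assoc])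
        map_mul' := fun x y => Subtype.ext (by simp [mul_assoc]) }
    exact ⟨(QuotientGroup.congr _ _ i (Core.map_pCore i)).trans e⟩

theorem Fixed.conj (hf : Fixed z a) (g : G) : Fixed (g * z * g⁻¹) (g * a * g⁻¹) := by
  intro x hx
  have := (hf _ (mem_cent_conj.1 hx)).map (MulAut.conj g)
  simpa [mul_assoc] using this

/-- `inner` is carried by conjugation. -/
theorem mem_inner_conj {g x : G} : x ∈ inner (g * z * g⁻¹) ↔ g⁻¹ * x * g ∈ inner z := by
  have key : ∀ (g z x : G), x ∈ inner z → g * x * g⁻¹ ∈ inner (g * z * g⁻¹) := by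
    intro g z x hx
    let f : ↥(centralizer ({z} : Set G)) →* ↥(centralizer ({g * z * g⁻¹} : Set G)) :=
      { toFun := fun y => ⟨g * y * g⁻¹, mem_cent_conj.2 (by simp [mul_assoc, y.2])⟩
        map_one' := Subtype.ext (by simp)
        map_mul' := fun u v => Subtype.ext (by simp [mul_assoc]) }
    obtain ⟨y, hy, rfl⟩ := hx
    have hle : (commutator ↥(centralizer ({z} : Set G)) ⊔ pCore 2 ↥(centralizer ({z} : Set G))).map f ≤
        commutator ↥(centralizer ({g * z * g⁻¹} : Set G)) ⊔
          pCore 2 ↥(centralizer ({g * z * g⁻¹} : Set G)) := by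
      rw [Subgroup.map_sup]
      refine sup_le_sup ?_ ?_
      · rw [_root_.commutator_def, map_commutator, _root_.commutator_def]
        exact commutator_mono le_top le_top
      · refine Core.map_pCore_le_of_surjective fun u => ⟨⟨g⁻¹ * u * g, mem_cent_conj.1 u.2⟩, ?_⟩
        exact Subtype.ext (by simp [f, mul_assoc])
    exact ⟨f y, hle ⟨y, hy, rfl⟩, rfl⟩
  constructor
  · intro hx
    have := key g⁻¹ _ _ hx
    simpa [mul_assoc] using this
  · intro hx
    have := key g _ _ hx
    simpa [mul_assoc] using this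

theorem mem_meet_conj {g x : G}
    (hx : x ∈ centralizer ({g * z * g⁻¹} : Set G) ⊓ centralizer ({g * a * g⁻¹} : Set G)) :
    g⁻¹ * x * g ∈ centralizer ({z} : Set G) ⊓ centralizer ({a} : Set G) :=
  ⟨mem_cent_conj.1 hx.1, mem_cent_conj.1 hx.2⟩

/-- Coordinates are carried by conjugation. -/
def Mod2.conj {C : Cfg} (M : Mod2 C z a) (g : G) : Mod2 C (g * z * g⁻¹) (g * a * g⁻¹) where
  bar x := M.bar (g⁻¹ * x * g)
  rho x := M.rho (g⁻¹ * x * g)
  bar_lt x := M.bar_lt _
  bar_mul x hx y hy := by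
    rw [← M.bar_mul _ (mem_oc_conj_back hx) _ (mem_oc_conj_back hy)]
    congr 1; group
  bar_eq x hx := by
    have hiff : ∀ u : G, g⁻¹ * x * g = u ↔ x = g * u * g⁻¹ := fun u =>
      ⟨fun e => by rw [← e]; group, fun e => by rw [e]; group⟩
    rw [M.bar_eq _ (mem_oc_conj_back hx), hiff, hiff, hiff, hiff]
    simp [mul_assoc]
  bar_surj v hv := by
    obtain ⟨x, hx, rfl⟩ := M.bar_surj v hv
    exact ⟨g * x * g⁻¹, conj_mem_oc hx, by congr 1; group⟩
  sq x hx := by
    rw [show x * x = g * ((g⁻¹ * x * g) * (g⁻¹ * x * g)) * g⁻¹ by group,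
      M.sq _ (mem_oc_conj_back hx)]
    split_ifs <;> group
  comm x hx y hy := by
    rw [show x * y * x⁻¹ * y⁻¹ = g * ((g⁻¹ * x * g) * (g⁻¹ * y * g) * (g⁻¹ * x * g)⁻¹ *
        (g⁻¹ * y * g)⁻¹) * g⁻¹ by group, M.comm _ (mem_oc_conj_back hx) _ (mem_oc_conj_back hy)]
    split_ifs <;> group
  rho_code x := M.rho_code _
  rho_mul x hx y hy := by
    rw [← M.rho_mul _ (mem_meet_conj hx) _ (mem_meet_conj hy)]
    congr 1; group
  rho_act x hx y hy := by
    rw [← M.rho_act _ (mem_meet_conj hx) _ (mem_oc_conj_back hy)]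
    congr 1; group
  rho_ker x hx := by
    rw [M.rho_ker _ (mem_meet_conj hx), mem_oc_conj_iff]
  rho_gen x hx := M.rho_gen _ (mem_meet_conj hx)
  rho_surj m hm := by
    obtain ⟨x, hx, rfl⟩ := M.rho_surj m hm
    refine ⟨g * x * g⁻¹, ⟨mem_cent_conj.2 ?_, mem_cent_conj.2 ?_⟩, by congr 1; group⟩
    · simpa [mul_assoc] using hx.1
    · simpa [mul_assoc] using hx.2

/-- The product of generators along a word. -/
def wordCode (gens : List ℕ) (w : List ℕ) : ℕ :=
  w.foldr (fun k m => U62Rec.cmp (gens.getD k idm) m) idm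

/-- Square roots: `g_k` is the product of the squares of these words. -/
def rootWords : List (List ℕ) :=
  [[0, 0], [1, 1], [2, 2], [3, 3], [7, 2, 2], [7, 0, 0], [5, 6, 7, 6, 5, 0, 0], [7, 7]]

/-- The outer generator conjugates `g_k` to this word. -/
def conjWords : List (List ℕ) := [[0, 0], [1, 1], [2, 2], [3, 3], [4], [5], [6], [7, 7]]

/-- What the words say about a configuration. -/
def wordsOK (c : List ℕ × ℕ) : Bool :=
  (List.range 8).all (fun k =>
    let r := wordCode c.1 (rootWords.getD k [])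
    Nat.beq (U62Rec.cmp r r) (c.1.getD k idm) &&
      Nat.beq (U62Rec.cmp (c.1.getD 8 idm) (c.1.getD k idm))
        (U62Rec.cmp (wordCode c.1 (conjWords.getD k [])) (c.1.getD 8 idm))) &&
  Nat.beq (U62Rec.cmp (c.1.getD 8 idm) (c.1.getD 8 idm)) idm && Nat.beq c.1.length 9

theorem outer_words : ∀ c ∈ outerCfgs, wordsOK c = true := by decide +kernel

theorem inner_len : ∀ c ∈ innerCfgs, c.1.length = 8 := by decide +kernel

theorem gen_wordCode {gens : List ℕ} {n : ℕ} (w : List ℕ) (hw : ∀ k ∈ w, k < n)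
    (hn : n ≤ gens.length) : Gen (gens.take n) (wordCode gens w) := by
  induction w with
  | nil =>
    unfold wordCode
    rw [List.foldr_nil]
    exact Gen.one
  | cons k w ih =>
    have hk : k < n := hw k (List.mem_cons_self ..)
    have e : wordCode gens (k :: w) = U62Rec.cmp (gens.getD k idm) (wordCode gens w) := by
      unfold wordCode
      rw [List.foldr_cons]
    rw [e]
    refine Gen.step ?_ (ih fun j hj => hw j (List.mem_cons_of_mem _ hj))
    rw [List.getD_eq_getElem _ _ (hk.trans_le hn),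
      ← List.getElem_take (h := by rw [List.length_take]; omega) (j := n)]
    exact List.getElem_mem _

theorem words_lt : (∀ w ∈ conjWords, ∀ k ∈ w, k < 8) ∧ (∀ w ∈ rootWords, ∀ k ∈ w, k < 8) ∧
    conjWords.length = 8 ∧ rootWords.length = 8 := by decide

/-- In an outer configuration the inner maps have index two. -/
theorem gen_cases {c : List ℕ × ℕ} (hc : c ∈ outerCfgs) {m : ℕ} (hm : Gen c.1 m) :
    Gen (c.1.take 8) m ∨ Gen (c.1.take 8) (U62Rec.cmp (c.1.getD 8 idm) m) := by
  have hok := outer_words c hc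
  simp only [wordsOK, Bool.and_eq_true, List.all_eq_true, List.mem_range, Nat.beq_eq] at hok
  obtain ⟨⟨hk, hxx⟩, hlen⟩ := hok
  set X := c.1.getD 8 idm with hX
  induction hm with
  | one =>
    left; exact Gen.one
  | @step g m hg hm ih =>
    obtain ⟨i, hi, rfl⟩ := List.getElem_of_mem hg
    have hgd : c.1[i] = c.1.getD i idm := (List.getD_eq_getElem _ _ hi).symm
    rcases Nat.lt_or_ge i 8 with h8 | h8
    · have hmem : c.1[i] ∈ c.1.take 8 := by
        rw [← List.getElem_take (h := by rw [List.length_take]; omega) (j := 8)]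
        exact List.getElem_mem _
      rcases ih with ih | ih
      · exact Or.inl (Gen.step hmem ih)
      · right
        rw [← cmp_assoc, hgd, (hk i h8).2, cmp_assoc]
        refine Gen.mul (gen_wordCode _ (fun k hk' => ?_) (by omega)) ih
        have hi' : i < conjWords.length := by rw [words_lt.2.2.1]; exact h8
        rw [List.getD_eq_getElem _ _ hi'] at hk'
        exact words_lt.1 _ (List.getElem_mem _) k hk'
    · have hi8 : i = 8 := by omega
      subst hi8
      rw [hgd, ← hX]
      rcases ih with ih | ih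
      · right; rw [← cmp_assoc, hxx, idm_cmp hm.isCode]; exact ih
      · exact Or.inl ih

theorem rho_one_eq {C : Cfg} (M : Mod2 C z a) : M.rho 1 = idm :=
  (M.rho_ker 1 (one_mem _)).2 (one_mem _)

/-- The maps of `inner z` are those of the first eight generators. -/
theorem innerCode_iff {c : List ℕ × ℕ} (hc : c ∈ outerCfgs) (h : Hyp z a) (hf : Fixed z a)
    (M : Mod2 ⟨c.1, c.2⟩ z a) {x : G} (hx : x ∈ centralizer ({z} : Set G)) :
    InnerCode ⟨c.1, c.2⟩ (M.rho x) ↔ x ∈ inner z := by
  have hok := outer_words c hc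
  simp only [wordsOK, Bool.and_eq_true, List.all_eq_true, List.mem_range, Nat.beq_eq] at hok
  obtain ⟨⟨hk, -⟩, hlen⟩ := hok
  have hmeet : ∀ {y : G}, y ∈ centralizer ({z} : Set G) →
      y ∈ centralizer ({z} : Set G) ⊓ centralizer ({a} : Set G) :=
    fun hy => ⟨hy, mem_centralizer_singleton_iff.2 (hf _ hy).eq⟩
  have hlift : ∀ {m : ℕ}, Gen c.1 m → ∃ y ∈ centralizer ({z} : Set G), M.rho y = m := by
    intro m hm
    induction hm with
    | one => exact ⟨1, one_mem _, rho_one_eq M⟩
    | @step g m hg _ ih =>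
      obtain ⟨y, hy, rfl⟩ := ih
      obtain ⟨t, ht, rfl⟩ := M.rho_surj g hg
      exact ⟨t * y, mul_mem ht.1 hy, M.rho_mul t ht y (hmeet hy)⟩
  have htake : ∀ {m : ℕ}, Gen (c.1.take 8) m → Gen c.1 m := by
    intro m hm
    induction hm with
    | one => exact Gen.one
    | step hg _ ih => exact Gen.step (List.mem_of_mem_take hg) ih
  have hker : ∀ {y y' : G}, y ∈ centralizer ({z} : Set G) → y' ∈ centralizer ({z} : Set G) →
      M.rho y = M.rho y' → y' ∈ inner z → y ∈ inner z := by
    intro y y' hy hy' e hi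
    have h1 : M.rho (y * y'⁻¹) = idm := by
      rw [M.rho_mul _ (hmeet hy) _ (hmeet (inv_mem hy')), e,
        ← M.rho_mul _ (hmeet hy') _ (hmeet (inv_mem hy')), mul_inv_cancel, rho_one_eq M]
    have h2 := oc_le_inner z ((M.rho_ker _ (hmeet (mul_mem hy (inv_mem hy')))).1 h1)
    simpa using mul_mem h2 hi
  have hgen : ∀ {m : ℕ}, Gen (c.1.take 8) m → ∃ y ∈ inner z, M.rho y = m := by
    intro m hm
    induction hm with
    | one => exact ⟨1, one_mem _, rho_one_eq M⟩
    | @step g m hg _ ih =>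
      obtain ⟨y, hy, rfl⟩ := ih
      obtain ⟨i, hi, rfl⟩ := List.getElem_of_mem hg
      rw [List.length_take] at hi
      obtain ⟨r, hr, hre⟩ := hlift (htake (gen_wordCode (gens := c.1) (n := 8)
        (rootWords.getD i []) (fun k hk' => by
          have hi' : i < rootWords.length := by rw [words_lt.2.2.2]; omega
          rw [List.getD_eq_getElem _ _ hi'] at hk'
          exact words_lt.2.1 _ (List.getElem_mem _) k hk') (by omega)))
      refine ⟨r * r * y, mul_mem ((h.mul_mem_inner_iff hr hr).2 Iff.rfl) hy, ?_⟩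
      rw [M.rho_mul _ (hmeet (mul_mem hr hr)) _ (hmeet (inner_le z hy)),
        M.rho_mul _ (hmeet hr) _ (hmeet hr), hre, (hk i (by omega)).1,
        List.getD_eq_getElem _ _ (show i < c.1.length by omega), List.getElem_take]
  constructor
  · intro hi
    obtain ⟨y, hy, e⟩ := hgen hi
    exact hker hx (inner_le z hy) e.symm hy
  · intro hxi
    by_contra hne
    have h1 := (gen_cases hc (M.rho_gen x (hmeet hx))).resolve_left hne
    obtain ⟨y, hy, e⟩ := hgen h1
    obtain ⟨t, ht, hte⟩ := M.rho_surj (c.1.getD 8 idm)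
      (by rw [List.getD_eq_getElem _ _ (show 8 < c.1.length by omega)]; exact List.getElem_mem _)
    have htx : t * x ∈ inner z := hker (mul_mem ht.1 hx) (inner_le z hy)
      (by rw [M.rho_mul t ht x (hmeet hx), hte, e]) hy
    have hti : t ∈ inner z := ((h.mul_mem_inner_iff ht.1 hx).1 htx).2 hxi
    have hall : ∀ y ∈ centralizer ({z} : Set G), y ∈ inner z := by
      intro y' hy'
      rcases gen_cases hc (M.rho_gen y' (hmeet hy')) with h2 | h2
      · obtain ⟨u, hu, e⟩ := hgen h2
        exact hker hy' (inner_le z hu) e.symm hu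
      · obtain ⟨u, hu, e⟩ := hgen h2
        have h3 : t * y' ∈ inner z := hker (mul_mem ht.1 hy') (inner_le z hu)
          (by rw [M.rho_mul t ht y' (hmeet hy'), hte, e]) hu
        exact ((h.mul_mem_inner_iff ht.1 hy').1 h3).1 hti
    have htop : (inner z).subgroupOf (centralizer ({z} : Set G)) = ⊤ :=
      eq_top_iff.2 fun y' _ => hall y' y'.2
    have h2 := h.inner_index
    rw [htop, index_top] at h2
    omega

/-- In an inner configuration every map is inner. -/
theorem innerCode_of_swap {c : List ℕ × ℕ} (hc : c ∈ innerCfgs) (M : Mod2 ⟨c.1, c.2⟩ z a) {x : G}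
    (hx : x ∈ centralizer ({z} : Set G) ⊓ centralizer ({a} : Set G)) :
    InnerCode ⟨c.1, c.2⟩ (M.rho x) := by
  show Gen (c.1.take 8) (M.rho x)
  rw [← inner_len c hc, List.take_length]
  exact M.rho_gen x hx

end Cfsg.Agent.Fi22Two
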