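import Cfsg.Agent.Fi22Two.Common
import Cfsg.Prelude.Def_TwoFusion
import Cfsg.Agent.LargeExtra.SingularSubgroup
import Cfsg.Agent.Core.Frattini

/-!
# The hypotheses in the common language
-/

set_option autoImplicit false

open Cfsg Subgroup
open scoped commutatorElement

namespace Cfsg.Agent.Fi22Two

open Cfsg.Agent.LargeExtra

variable {G : Type*} [Group G] [Finite G]

/-- The translation. -/
theorem exists_hyp (z : G) (hz : orderOf z = 2)
    (A E : Subgroup ↥(centralizer ({z} : Set G)))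
    (hAE : Cfsg.IsInternalDirectProduct A E (pCore 2 ↥(centralizer ({z} : Set G))))
    (hA : Nat.card ↥A = 2) (hE : Cfsg.IsExtraspecial 2 ↥E) (hEc : Nat.card ↥E = 2 ^ 9)
    (zc : ↥(centralizer ({z} : Set G))) (hzc : (zc : G) = z)
    (hJ' : ⁅pCore 2 ↥(centralizer ({z} : Set G)), pCore 2 ↥(centralizer ({z} : Set G))⁆ = zpowers zc)
    (hCJ : centralizer ((pCore 2 ↥(centralizer ({z} : Set G))) : Set ↥(centralizer ({z} : Set G))) ≤
      pCore 2 ↥(centralizer ({z} : Set G)))
    (hq : Nonempty ((↥(centralizer ({z} : Set G)) ⧸ pCore 2 ↥(centralizer ({z} : Set G))) ≃*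
      MulAut (Cfsg.PSp 2 (ZMod 3)))) :
    ∃ a, Hyp z a ∧
      ∃ E₀ : Subgroup G, E₀ ≤ oc z ∧ IsExtraspecial 2 ↥E₀ ∧ Nat.card ↥E₀ = 512 ∧ a ∉ E₀ ∧ a * z ∉ E₀ := by
  classical
  obtain ⟨hAJ, hEJ, hc, hi, hsup⟩ := hAE
  set J := pCore 2 ↥(centralizer ({z} : Set G)) with hJdef
  obtain ⟨b, hbA, hb1⟩ : ∃ b ∈ A, b ≠ 1 := by
    haveI : Nontrivial ↥A := Finite.one_lt_card_iff_nontrivial.1 (by omega)
    obtain ⟨⟨b, hb⟩, hb'⟩ := exists_ne (1 : ↥A)
    exact ⟨b, hb, fun e => hb' (Subtype.ext e)⟩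
  have hAall : ∀ p ∈ A, p = 1 ∨ p = b := by
    intro p hp
    obtain ⟨u, v, -, he⟩ := Nat.card_eq_two_iff.1 hA
    have h1 : ∀ w : ↥A, w = u ∨ w = v := fun w => by
      have := he.ge (Set.mem_univ w); simpa using this
    rcases h1 ⟨p, hp⟩ with e1 | e1 <;> rcases h1 1 with e2 | e2 <;>
      rcases h1 ⟨b, hbA⟩ with e3 | e3
    all_goals first
      | exact Or.inl (congrArg Subtype.val (e1.trans e2.symm))
      | exact Or.inr (congrArg Subtype.val (e1.trans e3.symm))
      | exact absurd (congrArg Subtype.val (e3.trans e2.symm)) hb1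
  have hbb : b * b = 1 := by
    rcases hAall _ (mul_mem hbA hbA) with e | e
    · exact e
    · exact absurd (mul_eq_left.1 e) hb1
  have hsplit : ∀ j ∈ J, ∃ p ∈ A, ∃ q ∈ E, p * q = j := by
    intro j hj
    rw [← hsup, ← SetLike.mem_coe, coe_mul_of_right_le_normalizer_left] at hj
    · exact hj
    · intro q hq
      rw [Subgroup.mem_normalizer_iff]
      intro p
      constructor
      · intro hp; rwa [← hc p hp q hq, mul_inv_cancel_right]
      · intro hp
        have := hc _ hp q hq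
        rw [inv_mul_cancel_right] at this
        rwa [← mul_left_cancel this] at hp
  have hjoin : ∀ p ∈ A, ∀ q ∈ E, p * q = 1 → p = 1 ∧ q = 1 := by
    intro p hp q hq e
    have hpE : p ∈ E := by rw [eq_inv_of_mul_eq_one_left e]; exact inv_mem hq
    have hp' : p ∈ A ⊓ E := ⟨hp, hpE⟩
    rw [hi, mem_bot] at hp'
    exact ⟨hp', by rwa [hp', one_mul] at e⟩
  have hzz : z * z = 1 := by rw [← _root_.sq, ← hz]; exact pow_orderOf_eq_one z
  have hzc2 : zc * zc = 1 := Subtype.ext (by simpa [hzc] using hzz)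
  have hzc1 : zc ≠ 1 := fun e => by
    rw [e] at hzc; rw [← hzc] at hz; simp at hz
  have hzp : ∀ x, x ∈ zpowers zc ↔ x = 1 ∨ x = zc := by
    intro x
    constructor
    · intro hx
      obtain ⟨k, rfl⟩ := mem_zpowers_iff.1 hx
      have h2 : zc ^ (2 : ℤ) = 1 := by rw [show (2 : ℤ) = 1 + 1 from rfl, zpow_add, zpow_one, hzc2]
      rcases Int.even_or_odd k with ⟨l, rfl⟩ | ⟨l, rfl⟩
      · left; rw [← two_mul, zpow_mul, h2, one_zpow]
      · right; rw [zpow_add, zpow_mul, h2, one_zpow, one_mul, zpow_one]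
    · rintro (rfl | rfl); exacts [one_mem _, mem_zpowers _]
  obtain ⟨⟨hEp, hfr, hcom⟩, hcen⟩ := hE
  have hcomG : (center ↥E).map E.subtype = zpowers zc := by
    rw [← hcom, _root_.commutator_def, map_commutator, ← MonoidHom.range_eq_map, range_subtype]
    refine eq_of_le_of_card_ge (hJ' ▸ commutator_mono hEJ hEJ) ?_
    rw [Nat.card_zpowers, orderOf_eq_prime (by rw [_root_.sq, hzc2]) hzc1]
    have : ⁅E, E⁆ = (center ↥E).map E.subtype := by
      rw [← hcom, _root_.commutator_def, map_commutator, ← MonoidHom.range_eq_map, range_subtype]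
    rw [this, ← Nat.card_congr (equivMapOfInjective _ _ (subtype_injective E)).toEquiv, hcen]
  have hzE : zc ∈ E := map_subtype_le _ (hcomG.ge (mem_zpowers zc))
  have hcenE : ∀ q ∈ E, (∀ q' ∈ E, q * q' = q' * q) ↔ (q = 1 ∨ q = zc) := by
    intro q hq
    rw [← hzp, ← hcomG]
    constructor
    · intro hh
      exact ⟨⟨q, hq⟩, mem_center_iff.2 fun q' => Subtype.ext (hh q' q'.2).symm, rfl⟩
    · rintro ⟨y, hy, rfl⟩ q' hq'
      exact (congrArg Subtype.val (mem_center_iff.1 hy ⟨q', hq'⟩)).symm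
  have hsqE : ∀ q ∈ E, q * q = 1 ∨ q * q = zc := by
    intro q hq
    rw [← hzp, ← hcomG, ← hfr]
    haveI : Fact (Nat.Prime 2) := ⟨Nat.prime_two⟩
    exact ⟨⟨q, hq⟩ * ⟨q, hq⟩, by
      rw [← _root_.sq]; exact Cfsg.Agent.Core.pow_mem_frattini hEp _, rfl⟩
  refine ⟨(b : G), ⟨hz, ?_, ⟨b, hAJ hbA, rfl⟩, ?_, ?_, ?_, ?_, ?_, ?_, hq⟩,
    E.map (centralizer ({z} : Set G)).subtype, map_mono hEJ,
    extraspecial_congr (equivMapOfInjective _ _ (subtype_injective _)) ⟨⟨hEp, hfr, hcom⟩, hcen⟩, ?_, ?_, ?_⟩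
  · refine orderOf_eq_prime (by rw [_root_.sq, ← coe_mul, hbb, coe_one]) fun e => hb1 (Subtype.ext e)
  · intro e
    have : b ∈ A ⊓ E := ⟨hbA, (Subtype.ext (e.trans hzc.symm) : b = zc) ▸ hzE⟩
    rw [hi, mem_bot] at this
    exact hb1 this
  · intro y hy
    have hyz : y ∈ centralizer ({z} : Set G) :=
      mem_centralizer_singleton_iff.2 (mem_centralizer_iff.1 hy z (mem_oc_self hz)).symm
    refine ⟨⟨y, hyz⟩, hCJ (mem_centralizer_iff.2 fun j hj => Subtype.ext ?_), rfl⟩
    exact mem_centralizer_iff.1 hy _ ⟨j, hj, rfl⟩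
  · show Nat.card ↥(J.map (centralizer ({z} : Set G)).subtype) = 1024
    rw [← Nat.card_congr (equivMapOfInjective _ _ (subtype_injective _)).toEquiv]
    have e : Nat.card (↥A × ↥E) = Nat.card ↥J := by
      refine Nat.card_eq_of_bijective
        (fun pq => (⟨pq.1 * pq.2, mul_mem (hAJ pq.1.2) (hEJ pq.2.2)⟩ : ↥J)) ⟨?_, ?_⟩
      · rintro ⟨p, q⟩ ⟨p', q'⟩ e
        have e' : (p : ↥(centralizer ({z} : Set G))) * q = p' * q' := congrArg Subtype.val e
        have e'' : (p' : ↥(centralizer ({z} : Set G)))⁻¹ * p * (q * (q' : ↥(centralizer ({z} : Set G)))⁻¹) = 1 := by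
          rw [mul_assoc, ← mul_assoc (p : ↥(centralizer ({z} : Set G))), e']; group
        obtain ⟨h1, h2⟩ := hjoin _ (mul_mem (inv_mem p'.2) p.2) _ (mul_mem q.2 (inv_mem q'.2)) e''
        exact Prod.ext (Subtype.ext (inv_mul_eq_one.1 h1).symm) (Subtype.ext (mul_inv_eq_one.1 h2))
      · rintro ⟨j, hj⟩
        obtain ⟨p, hp, q, hq, e⟩ := hsplit j hj
        exact ⟨⟨⟨p, hp⟩, ⟨q, hq⟩⟩, Subtype.ext e⟩
    rw [← e, Nat.card_prod, hA, hEc]; norm_num
  · rintro _ ⟨p, hp, rfl⟩ _ ⟨q, hq, rfl⟩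
    have hm : ⁅p, q⁆ ∈ zpowers zc := hJ' ▸ commutator_mem_commutator hp hq
    rcases (hzp _).1 hm with e | e
    · exact Or.inl (congrArg Subtype.val e)
    · exact Or.inr ((congrArg Subtype.val e).trans hzc)
  · rintro _ ⟨j, hj, rfl⟩
    obtain ⟨p, hp, q, hq, rfl⟩ := hsplit j hj
    have e : (p * q) * (p * q) = q * q := by
      have hpp : p * p = 1 := by
        rcases hAall p hp with rfl | rfl
        exacts [one_mul 1, hbb]
      rw [mul_assoc, ← mul_assoc q, ← hc p hp q hq, mul_assoc, ← mul_assoc, hpp, one_mul]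
    rcases hsqE q hq with e' | e'
    · exact Or.inl (congrArg Subtype.val (e.trans e'))
    · exact Or.inr ((congrArg Subtype.val (e.trans e')).trans hzc)
  · rintro _ ⟨j, hj, rfl⟩
    obtain ⟨p, hp, q, hq, rfl⟩ := hsplit j hj
    have hcp : ∀ p' ∈ A, ∀ p'' ∈ A, p' * p'' = p'' * p' := by
      intro u hu v hv
      rcases hAall u hu with rfl | rfl <;> rcases hAall v hv with rfl | rfl <;> simp
    constructor
    · intro hall
      have hq' : q = 1 ∨ q = zc := (hcenE q hq).1 fun q' hq' => by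
        have h1 : (p * q) * q' = q' * (p * q) :=
          Subtype.ext (hall _ ⟨q', hEJ hq', rfl⟩).eq
        rw [← mul_assoc, ← hc p hp q' hq', mul_assoc, mul_assoc] at h1
        exact mul_left_cancel h1
      rcases hAall p hp with rfl | rfl <;> rcases hq' with rfl | rfl
      · exact Or.inl (by simp)
      · exact Or.inr (Or.inl (by simp [hzc]))
      · exact Or.inr (Or.inr (Or.inl (by simp)))
      · exact Or.inr (Or.inr (Or.inr (by simp [hzc])))
    · intro hcase y hy
      obtain ⟨j', hj', rfl⟩ := hy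
      obtain ⟨p', hp', q', hq', rfl⟩ := hsplit j' hj'
      have hb' : b * (p' * q') = p' * q' * b := by
        rw [← mul_assoc, hcp b hbA p' hp', mul_assoc, hc b hbA q' hq', ← mul_assoc]
      have hz' : z * ((p' * q' : ↥(centralizer ({z} : Set G))) : G) =
          ((p' * q' : ↥(centralizer ({z} : Set G))) : G) * z :=
        (mem_centralizer_singleton_iff.1 (p' * q').2).symm
      have hbG : Commute (b : G) ((p' * q' : ↥(centralizer ({z} : Set G))) : G) :=
        congrArg Subtype.val hb'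
      rcases hcase with e | e | e | e <;> rw [show (centralizer ({z} : Set G)).subtype (p * q) = _ from e]
      exacts [Commute.one_left _, hz', hbG, hbG.mul_left hz']
  · rw [← Nat.card_congr (equivMapOfInjective _ _ (subtype_injective _)).toEquiv, hEc]; norm_num
  · rintro ⟨q, hq, e⟩
    have : b ∈ A ⊓ E := ⟨hbA, (Subtype.ext e : q = b) ▸ hq⟩
    rw [hi, mem_bot] at this
    exact hb1 this
  · rintro ⟨q, hq, e⟩
    have hqb : q = b * zc := Subtype.ext (by rw [coe_mul, hzc]; exact e)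
    have : b ∈ A ⊓ E := ⟨hbA, by
      have := mul_mem hq hzE
      rwa [hqb, mul_assoc, hzc2, mul_one] at this⟩
    rw [hi, mem_bot] at this
    exact hb1 this

end Cfsg.Agent.Fi22Two
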