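import Cfsg.Agent.U62Rec.Facts

/-!
# Finite conditions for a commuting pair of involutory maps with a common part

For the representative `c` of a class, a map `x` commuting with it and the kernel `U` of a functional on
the fixed space, one of several reasons excludes the pair or makes `U` big.
-/

set_option autoImplicit false

namespace Cfsg.Agent.Fi22Two

open Cfsg.Agent.U62Rec

/-- The value of a word in the generators. -/
def evalG (Q w : List ℕ) : ℕ := w.foldr (fun i acc => cmp (Q.getD i idm) acc) idm

/-- The fixed vectors. -/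
def fixs (y : ℕ) : List ℕ := (List.range 256).filter fun v => Nat.beq (app y v) v

/-- Vectors moved by `y` and by maps commuting with it. -/
def movs (y : ℕ) (L : List ℕ) : List ℕ :=
  ((List.range 256).map fun v => app y v ^^^ v) ++ L.flatMap fun t => (fixs y).map fun v => app t v ^^^ v

/-- They span the fixed space. -/
def spanOK (y : ℕ) (L F : List ℕ) : Bool :=
  let S := (movs y L ++ F).foldl adj [0]
  (fixs y).all fun v => mem v S

/-- The vectors `F` are fixed by a square root of `y`. -/
def rootOK (y q : ℕ) (F : List ℕ) : Bool :=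
  F.all fun v => decide (v < 256) && Nat.beq (cmp q q) y && Nat.beq (app q v) v

/-- `U` is less than half of the fixed space of `y`, on which nothing but `z` occurs. -/
def halfKill (T : Tab) (y : ℕ) (U : List ℕ) : Bool :=
  decide (2 * U.length < (fixs y).length) &&
    spanOK y (T.S.filter fun t => Nat.beq (cmp t y) (cmp y t)) []

/-- The moved vectors of `y` do not meet `U` in the singular ones. -/
def badMoved (l y : ℕ) (U : List ℕ) : Bool :=
  (List.range 256).any fun v => let b := app y v ^^^ v; mem b U == qv l b

/-- `U` is big. -/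
def bigOK (T : Tab) (x : ℕ) (U : List ℕ) : Bool :=
  let n := (T.S.filter fun t => Nat.beq (cmp t x) (cmp x t)).length
  let rad := (U.filter fun v => U.all fun w => !fv v w).length
  decide (n < 2 ^ 12) && (List.range 12).all fun k => !Nat.beq (n % 2 ^ k) 0 || decide (rad * 2 ^ k < 4 * U.length)

/-- The maps listed with their witnesses are conjugate to a representative. -/
def convOK (gens : List ℕ) (reps : List ℕ) (w : List (ℕ × List ℕ × ℕ)) : Bool :=
  w.all fun e => let t := evalG gens e.2.1; Nat.beq (cmp e.1 t) (cmp t (reps.getD e.2.2 idm)) && decide (e.2.2 < reps.length)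

/-- Listed. -/
def listed (w : List (ℕ × List ℕ × ℕ)) (y : ℕ) : Bool := w.any fun e => Nat.beq e.1 y

/-- The reasons when the map `c` comes from the given conjugate. -/
def killBase (c : OutCase) (T : Tab) (U : List ℕ) (x : ℕ) : Bool :=
  (Nat.beq U.length c.K.length && c.full &&
      T.S.any fun t => Nat.beq (cmp t (cmp t t)) idm && !Nat.beq (cmp t x) (cmp x t)) ||
    halfKill T x U || halfKill T (cmp c.c x) U

/-- All pairs with representative `c`. -/
def coreOK (l : ℕ) (c : OutCase) (T : Tab) (q : ℕ) (F : List ℕ) (w : List (ℕ × List ℕ × ℕ)) : Bool :=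
  rootOK c.c q F && spanOK c.c T.A F && mem q T.S &&
  c.ls.all fun lam =>
    let U := c.Ab lam
    !(c.T.all fun b => mem b U == !qv l b) ||
    T.S.all fun x => !Nat.beq (cmp x x) idm || Nat.beq x idm || Nat.beq x c.c ||
      !(U.all fun v => Nat.beq (app x v) v) ||
      badMoved l x U || badMoved l (cmp c.c x) U || bigOK T x U ||
        (killBase c T U x && listed w x)

/-- Next to an outer representative there is an inner one. -/
def otherOK (c : OutCase) (T : Tab) (w : List (ℕ × List ℕ × ℕ)) : Bool :=
  T.S.all fun x => !Nat.beq (cmp x x) idm || Nat.beq x idm || Nat.beq x c.c ||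
    listed w x || listed w (cmp c.c x)

theorem mem_filt (n : ℕ) {y v : ℕ} :
    v ∈ ((List.range n).filter fun v => Nat.beq (app y v) v) ↔ v < n ∧ app y v = v := by
  simp [List.mem_filter, Nat.beq_eq]

theorem mem_fixs {y v : ℕ} : v ∈ fixs y ↔ v < 256 ∧ app y v = v := mem_filt 256

theorem fixs_K (c : OutCase) : c.K = fixs c.c := rfl

theorem evalG_gen {gens : List ℕ} (hc : ∀ g ∈ gens, IsCode g) (w : List ℕ) : Gen gens (evalG gens w) := by
  unfold evalG
  induction w with
  | nil => rw [List.foldr_nil]; exact Gen.one
  | cons i w ih => rw [List.foldr_cons]; exact (getD_gen hc i).mul ih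

theorem conv_spec {gens reps : List ℕ} {w : List (ℕ × List ℕ × ℕ)} (hc : ∀ g ∈ gens, IsCode g)
    (h : convOK gens reps w = true) {y : ℕ} (hy : listed w y = true) :
    ∃ r ∈ reps, ∃ t, Gen gens t ∧ U62Rec.cmp y t = U62Rec.cmp t r := by
  simp only [listed, List.any_eq_true, Nat.beq_eq] at hy
  obtain ⟨e, he, rfl⟩ := hy
  simp only [convOK, List.all_eq_true, Bool.and_eq_true, Nat.beq_eq, decide_eq_true_eq] at h
  obtain ⟨h1, h2⟩ := h e he
  exact ⟨_, List.getD_eq_getElem reps idm h2 ▸ List.getElem_mem h2, _, evalG_gen hc _, h1⟩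

end Cfsg.Agent.Fi22Two
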