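import Cfsg.Agent.Fi22Two.Common

/-!
# A pair of involutions of `C z` with a common centraliser in `O₂(C z)`
-/

set_option autoImplicit false

open Cfsg Subgroup

namespace Cfsg.Agent.Fi22Two

open Cfsg.Agent.LargeExtra

variable {G : Type*} [Group G] [Finite G]

/-- The common centraliser in `oc z`. -/
def pairK (z f : G) : Subgroup G := oc z ⊓ centralizer ({f} : Set G)

/-- Its centre. -/
def pairZK (z f : G) : Subgroup G := pairK z f ⊓ centralizer ((pairK z f : Subgroup G) : Set G)

/-- Commuting involutions outside `oc z` which, with their product, have the same centraliser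
in `oc z`. -/
structure Tri (z f α : G) : Prop where
  fm : f ∈ centralizer ({z} : Set G)
  am : α ∈ centralizer ({z} : Set G)
  ff : f * f = 1
  aa : α * α = 1
  comm : Commute f α
  fn : f ∉ oc z
  an : α ∉ oc z
  pn : α * f ∉ oc z
  same : ∀ j ∈ oc z, (Commute j f ↔ Commute j α)
  same' : ∀ j ∈ oc z, Commute j (α * f) → Commute j f

/-- The centraliser of `f` in `C z` centralises `α`. -/
def PairBase (z f α : G) : Prop :=
  ∀ d ∈ centralizer ({z} : Set G), Commute d f → Commute d α

/-- The common centraliser is big against the 2-groups acting modulo `oc z`. -/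
def PairBig (z f α : G) : Prop :=
  ∀ P : Subgroup G, IsPGroup 2 ↥P → oc z ≤ P →
    (∀ g ∈ P, g ∈ centralizer ({z} : Set G) ∧ g * f * g⁻¹ * f⁻¹ ∈ oc z ∧
      g * α * g⁻¹ * α⁻¹ ∈ oc z) →
    Nat.card P * Nat.card ↥(pairZK z f) < 4 * Nat.card ↥(pairK z f) * 1024

end Cfsg.Agent.Fi22Two
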