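import Cfsg.Agent.Fi22Two.IsolatedPair

/-!
# A commuting pair of conjugates gives a triple of the finite check
-/

set_option autoImplicit false
set_option linter.unusedSectionVars false

open Cfsg Subgroup
open scoped commutatorElement

namespace Cfsg.Agent.Fi22Two

open Cfsg.Agent.LargeExtra Cfsg.Agent.U62Rec

variable {G : Type*} [Group G] [Finite G] {z a g : G}

theorem InnerCode.gen {C : Cfg} {p : ℕ} (hp : InnerCode C p) : Gen C.gens p := by
  induction hp with
  | one => exact .one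
  | step hg _ ih => exact .step (List.mem_of_mem_take hg) ih

/-- The inner part is perfect modulo `oc z`. -/
theorem Hyp.inner_le_derived (h : Hyp z a) : inner z ≤ ⁅inner z, inner z⁆ ⊔ oc z := by
  have hP : commutator (Cfsg.PSp 2 (ZMod 3)) = ⊤ := by
    haveI : Fact (Nat.Prime 3) := ⟨by norm_num⟩
    let M : Sp43.Model (Cfsg.PSp 2 (ZMod 3)) := Sp43.model
    haveI := M.simple
    rcases (inferInstance : (commutator (Cfsg.PSp 2 (ZMod 3))).Normal).eq_bot_or_eq_top with h | h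
    · exfalso
      apply M.rels.ne
      have hm : ⁅M.u, M.d 0⁆ ∈ commutator (Cfsg.PSp 2 (ZMod 3)) :=
        commutator_mem_commutator (mem_top _) (mem_top _)
      rw [h, mem_bot, commutatorElement_eq_one_iff_mul_comm] at hm
      exact hm
    · exact h
  obtain ⟨e⟩ := h.quot
  set J := pCore 2 ↥(centralizer ({z} : Set G))
  set φ := e.toMonoidHom.comp (QuotientGroup.mk' J)
  have hφ : Function.Surjective φ := e.surjective.comp (QuotientGroup.mk'_surjective _)
  have hk : φ.ker = J := by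
    ext g
    exact (MulEquiv.map_eq_one_iff e).trans (QuotientGroup.eq_one_iff g)
  set I := commutator ↥(centralizer ({z} : Set G)) ⊔ J
  have hI : I.map φ = commutator (MulAut (Cfsg.PSp 2 (ZMod 3))) := by
    rw [Subgroup.map_sup, (map_eq_bot_iff J).2 hk.ge, sup_bot_eq, _root_.commutator_def,
      _root_.commutator_def, map_commutator, map_top_of_surjective φ hφ]
  have hII : (⁅I, I⁆).map φ = I.map φ := by
    rw [map_commutator, hI, mulAut_psp.2.1, MonoidHom.range_eq_map, ← map_commutator,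
      ← _root_.commutator_def, hP]
  have hle : I ≤ ⁅I, I⁆ ⊔ J :=
    calc I ≤ (I.map φ).comap φ := le_comap_map _ _
      _ = ((⁅I, I⁆).map φ).comap φ := by rw [hII]
      _ = ⁅I, I⁆ ⊔ J := by rw [comap_map_eq, hk]
  calc inner z = I.map (centralizer ({z} : Set G)).subtype := rfl
    _ ≤ (⁅I, I⁆ ⊔ J).map (centralizer ({z} : Set G)).subtype := map_mono hle
    _ = ⁅inner z, inner z⁆ ⊔ oc z := by rw [Subgroup.map_sup, map_commutator]; rfl

namespace Iso

/-- The centre. -/
def Cen (z a x : G) : Prop := x = 1 ∨ x = z ∨ x = a ∨ x = a * z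

/-- The part outside `⟨z⟩`. -/
def Odd2 (z a x : G) : Prop := x = a ∨ x = a * z

/-- The commutator of `x` and `j`. -/
def com (x j : G) : G := x * j * x⁻¹ * j⁻¹

theorem cen_mul (h : Hyp z a) {e f : G} (he : Cen z a e) (hf : Cen z a f) :
    Cen z a (e * f) ∧ (Odd2 z a (e * f) ↔ ¬ (Odd2 z a e ↔ Odd2 z a f)) := by
  have hza := h.comm_za.eq
  have e1 : a * z * z = a := by rw [mul_assoc, h.zz, mul_one]
  have e3 : a * (a * z) = z := by rw [← mul_assoc, h.aa, one_mul]
  have e2 : z * (a * z) = a := by rw [← mul_assoc, hza, e1]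
  have e4 : a * z * a = z := by rw [mul_assoc, hza, e3]
  have e5 : a * z * (a * z) = 1 := h.other.aa
  have n1 : a ≠ 1 := fun e => absurd h.orda (by simp [e])
  have n3 : a * z ≠ 1 := fun e => absurd h.other.orda (by simp [e])
  have n4 : a * z ≠ z := h.other.ne
  rcases he with rfl | rfl | rfl | rfl <;> rcases hf with rfl | rfl | rfl | rfl <;>
    simp [Cen, Odd2, h.zz, h.aa, hza, e1, e2, e3, e4, e5, n1, n1.symm, n3, n3.symm, n4, n4.symm,
      h.ne, h.ne.symm, h.z_ne_one, h.z_ne_one.symm]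

theorem cen_inv (h : Hyp z a) {e : G} (he : Cen z a e) : e⁻¹ = e := by
  refine inv_eq_of_mul_eq_one_right ?_
  rcases he with rfl | rfl | rfl | rfl
  exacts [one_mul 1, h.zz, h.aa, h.other.aa]

theorem cen_not_odd (h : Hyp z a) {e : G} (he : e = 1 ∨ e = z) : Cen z a e ∧ ¬ Odd2 z a e := by
  rcases he with rfl | rfl
  · exact ⟨Or.inl rfl, by
      rintro (e | e)
      · exact absurd h.orda (by simp [← e])
      · exact absurd h.other.orda (by simp [← e])⟩
  · exact ⟨Or.inr (Or.inl rfl), by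
      rintro (e | e)
      · exact h.ne e.symm
      · exact h.other.ne e.symm⟩

theorem cen_cases (h : Hyp z a) {e : G} (he : Cen z a e) (hn : ¬ Odd2 z a e) : e = 1 ∨ e = z := by
  rcases he with rfl | rfl | rfl | rfl
  exacts [Or.inl rfl, Or.inr rfl, absurd (Or.inl rfl) hn, absurd (Or.inr rfl) hn]

theorem cen_comm (h : Hyp z a) {e x : G} (he : Cen z a e) (hx : x ∈ cza z a) : Commute x e := by
  have hxz : Commute x z := mem_cz.1 hx.1
  have hxa : Commute x a := mem_centralizer_singleton_iff.1 hx.2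
  rcases he with rfl | rfl | rfl | rfl
  exacts [Commute.one_right x, hxz, hxa, hxa.mul_right hxz]

theorem cen_comm_oc (h : Hyp z a) {e j : G} (he : Cen z a e) (hj : j ∈ oc z) : Commute e j := by
  refine (h.centre e ?_).2 he j hj
  rcases he with rfl | rfl | rfl | rfl
  exacts [one_mem _, h.z_mem, h.a_mem, mul_mem h.a_mem h.z_mem]

theorem com_mem {x : G} (hx : x ∈ centralizer ({z} : Set G)) {j : G} (hj : j ∈ oc z) : com x j ∈ oc z :=
  mul_mem (oc_conj_mem hx hj) (inv_mem hj)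

theorem com_eq_one {x j : G} : com x j = 1 ↔ Commute x j := by
  rw [com, mul_inv_eq_one, mul_inv_eq_iff_eq_mul]; exact Iff.rfl

section

variable {C : Cfg} (M : Mod2 C z a) (h : Hyp z a) {x j k : G} (hx : x ∈ cza z a)
include M h hx

theorem bar_com (hj : j ∈ oc z) :
    M.bar (com x j) = app (M.rho x) (M.bar j) ^^^ M.bar j := by
  rw [com, M.bar_mul _ (oc_conj_mem hx.1 hj) _ (inv_mem hj), M.binv hj, M.rho_act x hx j hj]

theorem com_cen (hj : j ∈ oc z) :
    Cen z a (com x j) ↔ app (M.rho x) (M.bar j) = M.bar j := by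
  rw [Cen, ← M.bar_eq _ (com_mem hx.1 hj), bar_com M h hx hj, Nat.xor_eq_zero_iff]

theorem com_congr (hj : j ∈ oc z) (hk : k ∈ oc z) (e : M.bar j = M.bar k) :
    com x k = com x j := by
  have he : Cen z a (j⁻¹ * k) := M.bcong hj hk e
  obtain ⟨d, rfl⟩ : ∃ d, k = j * d := ⟨j⁻¹ * k, by group⟩
  rw [inv_mul_cancel_left] at he
  show x * (j * d) * x⁻¹ * (j * d)⁻¹ = x * j * x⁻¹ * j⁻¹
  rw [show x * (j * d) * x⁻¹ = x * j * (d * x⁻¹) by group,
    ((cen_comm h he hx).inv_left.eq).symm]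
  group

theorem com_mul (hj : j ∈ oc z) (hk : Cen z a (com x k)) :
    com x (j * k) = com x j * com x k := by
  calc com x (j * k) = x * j * x⁻¹ * com x k * j⁻¹ := by simp only [com]; group
    _ = x * j * x⁻¹ * (com x k * j⁻¹) := by rw [mul_assoc]
    _ = x * j * x⁻¹ * (j⁻¹ * com x k) := by rw [(cen_comm_oc h hk (inv_mem hj)).eq]
    _ = com x j * com x k := by simp only [com, mul_assoc]

theorem com_mul_left {y : G} (hy : Cen z a (com y j)) :
    com (x * y) j = com y j * com x j := by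
  calc com (x * y) j = x * com y j * x⁻¹ * com x j := by simp only [com]; group
    _ = com y j * com x j := by rw [(cen_comm h hy hx).eq, mul_inv_cancel_right]

end

end Iso

open Iso

/-- The common image of the centralisers. -/
noncomputable def ulist {C : Cfg} (M : Mod2 C z a) (g : G) : List ℕ :=
  haveI := Classical.decPred fun v => ∃ j ∈ oc z, Commute j (g * z * g⁻¹) ∧ M.bar j = v
  (List.range 256).filter fun v => decide (∃ j ∈ oc z, Commute j (g * z * g⁻¹) ∧ M.bar j = v)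

theorem mem_ulist {C : Cfg} {M : Mod2 C z a} {v : ℕ} :
    v ∈ ulist M g ↔ v < 256 ∧ ∃ j ∈ oc z, Commute j (g * z * g⁻¹) ∧ M.bar j = v := by
  simp [ulist]

variable (h : Standing z a) (P : Good z a g) {C : Cfg} (M : Mod2 C z a)
include h P

theorem Good.rho_inv {x : G} (hx : Tr z a g x) : InvCode C (M.rho x) := by
  refine ⟨M.rho_gen x (P.tr_mem h hx), fun e => P.tr_notMem h hx ((M.rho_ker x (P.tr_mem h hx)).1 e), ?_⟩
  rw [← M.rho_mul x (P.tr_mem h hx) x (P.tr_mem h hx), P.tr_sq h hx, M.rone]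

theorem Good.rho_ne {x y : G} (hx : Tr z a g x) (hy : Tr z a g y) (hne : x ≠ y) :
    M.rho x ≠ M.rho y := fun e => P.tr_notMem h (P.tr_third h hx hy hne) (by
  have := (M.rinj (P.tr_mem h hx) (P.tr_mem h hy)).1 e
  rwa [inv_eq_of_mul_eq_one_right (P.tr_sq h hx)] at this)

theorem Good.mem_u_iff {x j : G} (hx : Tr z a g x) (hj : j ∈ oc z) :
    M.bar j ∈ ulist M g ↔ com x j = 1 := by
  rw [mem_ulist, com_eq_one]
  constructor
  · rintro ⟨-, k, hk, hkw, e⟩
    have h1 : com x k = 1 := com_eq_one.2 ((P.tr_commute h hx hk).2 hkw).symm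
    rwa [← com_congr M h.hyp (P.tr_mem h hx) hk hj e, com_eq_one] at h1
  · exact fun e => ⟨M.bar_lt j, j, hj, (P.tr_commute h hx hj).1 e.symm, rfl⟩

theorem Good.moved_com {x : G} (hx : Tr z a g x) {v : ℕ} (hm : Moved (M.rho x) v) :
    ∃ j ∈ oc z, M.bar j = v ∧ com x j = j⁻¹ * j⁻¹ := by
  obtain ⟨u0, hu0, rfl⟩ := hm
  obtain ⟨j0, hj0, rfl⟩ := M.bar_surj u0 hu0
  have hxm := P.tr_mem h hx
  refine ⟨com x j0, com_mem hxm.1 hj0, bar_com M h.hyp hxm hj0, ?_⟩
  have hxi : x⁻¹ = x := inv_eq_of_mul_eq_one_right (P.tr_sq h hx)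
  simp only [com, mul_inv_rev, inv_inv]
  rw [show x * (x * j0 * x⁻¹ * j0⁻¹) * x⁻¹ = x * x * (j0 * x⁻¹ * j0⁻¹) * x⁻¹ by group,
    P.tr_sq h hx, hxi]
  group

theorem Good.u_moved {x : G} (hx : Tr z a g x) {v : ℕ} (hm : Moved (M.rho x) v) :
    v ∈ ulist M g ↔ qv C.l v = false := by
  obtain ⟨j, hj, rfl, hc⟩ := P.moved_com h M hx hm
  rw [P.mem_u_iff h M hx hj, hc, M.qv_iff h.hyp hj, ← mul_inv_rev, inv_eq_one]

omit h P in
theorem rho_fixed_of_inner {y : G} (hy : y ∈ cza z a) (hc : InnerCode C (M.rho y))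
    {v : ℕ} (hv : v < 256) (hg : ∀ p ∈ C.gens.take 8, app p v = v) : app (M.rho y) v = v := by
  suffices ∀ p, InnerCode C p → app p v = v from this _ hc
  intro p hp
  induction hp with
  | one => exact app_idm hv
  | @step p m hp' _ ih =>
    rw [app_cmp, ih, hg p hp']

variable (hFun : ∀ p m, InnerFunctional C p m → ∀ v < 256, app p v = v → lv m v = false)
  (hbr : ∀ y ∈ cza z a, InnerCode C (M.rho y) ↔ y ∈ inner z)
include hFun hbr

/-- On an inner involution of the triple the commutator map does not reach `a`. -/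
theorem Good.not_odd {x : G} (hx : Tr z a g x) (hi : InnerCode C (M.rho x)) {j : G}
    (hj : j ∈ oc z) (hv : app (M.rho x) (M.bar j) = M.bar j) : com x j = 1 ∨ com x j = z := by
  classical
  have hxm := P.tr_mem h hx
  let S : ℕ → Prop := fun v => v < 256 ∧ app (M.rho x) v = v
  let f : ℕ → Bool := fun v => decide (∃ k ∈ oc z, M.bar k = v ∧ Odd2 z a (com x k))
  have hfd : ∀ k ∈ oc z, f (M.bar k) = decide (Odd2 z a (com x k)) := fun k hk =>
    decide_eq_decide.2 ⟨fun ⟨k', hk', e, ho⟩ => com_congr M h.hyp hxm hk' hk e ▸ ho,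
      fun ho => ⟨k, hk, rfl, ho⟩⟩
  have hS : ∀ v w, S v → S w → S (v ^^^ w) := fun v w hv hw =>
    ⟨Nat.xor_lt_two_pow (n := 8) hv.1 hw.1, by rw [app_xor, hv.2, hw.2]⟩
  have hfx : ∀ v w, S v → S w → f (v ^^^ w) = (f v ^^ f w) := by
    intro v w hv hw
    obtain ⟨k, hk, rfl⟩ := M.bar_surj v hv.1
    obtain ⟨l, hl, rfl⟩ := M.bar_surj w hw.1
    have hkc := (com_cen M h.hyp hxm hk).2 hv.2
    have hlc := (com_cen M h.hyp hxm hl).2 hw.2
    rw [← M.bar_mul k hk l hl, hfd _ (mul_mem hk hl), hfd _ hk, hfd _ hl,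
      com_mul M h.hyp hxm hk hlc]
    have := (cen_mul h.hyp hkc hlc).2
    by_cases h1 : Odd2 z a (com x k) <;> by_cases h2 : Odd2 z a (com x l) <;>
      simp [h1, h2] at this ⊢ <;> exact this
  obtain ⟨m, -, hmv⟩ := exists_lv S f hS hfx
  have hF : InnerFunctional C (M.rho x) m := by
    refine ⟨P.rho_inv h M hx, hi, ?_, ?_, ?_⟩
    · intro v hv256 hm
      obtain ⟨k, hk, rfl, hc⟩ := P.moved_com h M hx hm
      have hn : com x k = 1 ∨ com x k = z := by
        rw [hc, ← mul_inv_rev]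
        rcases h.hyp.sq k hk with e | e <;> rw [e]
        · exact Or.inl inv_one
        · exact Or.inr (inv_eq_of_mul_eq_one_right h.hyp.zz)
      obtain ⟨hcen, hno⟩ := cen_not_odd h.hyp hn
      rw [hmv _ hv256 ⟨hv256, (com_cen M h.hyp hxm hk).1 hcen⟩, hfd k hk]
      exact decide_eq_false hno
    · intro c hc hcomm v hv256 hfix
      obtain ⟨d, hd, rfl⟩ := M.lift hc.gen
      obtain ⟨k, hk, rfl⟩ := M.bar_surj v hv256
      have hkc := (com_cen M h.hyp hxm hk).2 hfix
      have hdk : d * k * d⁻¹ ∈ oc z := oc_conj_mem hd.1 hk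
      have hfix' : app (M.rho x) (app (M.rho d) (M.bar k)) = app (M.rho d) (M.bar k) := by
        rw [← app_cmp, ← hcomm, app_cmp, hfix]
      have hdkc : Cen z a (com x (d * k * d⁻¹)) :=
        (com_cen M h.hyp hxm hdk).2 (by rw [M.rho_act d hd k hk]; exact hfix')
      rw [← M.rho_act d hd k hk, hmv _ (M.bar_lt _) ⟨M.bar_lt _, by rw [M.rho_act d hd k hk]; exact hfix'⟩,
        hmv _ hv256 ⟨hv256, hfix⟩, hfd _ hdk, hfd _ hk]
      -- `d` sends `x` to `t * x`
      set l := d * k * d⁻¹ with hl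
      have ht : d * x * d⁻¹ * x⁻¹ ∈ oc z := by
        rw [← M.rho_ker _ (mul_mem (mul_mem (mul_mem hd hxm) (inv_mem hd)) (inv_mem hxm)),
          M.rho_mul _ (mul_mem (mul_mem hd hxm) (inv_mem hd)) _ (inv_mem hxm),
          M.rho_mul _ (mul_mem hd hxm) _ (inv_mem hd), M.rho_mul _ hd _ hxm, hcomm,
          cmp_assoc (M.rho x) (M.rho d), M.rcancel hd, cmp_idm (M.rho_code x), M.rcancel hxm]
      set t := d * x * d⁻¹ * x⁻¹ with ht'
      have hzt := h.hyp.comm t ht l hdk
      obtain ⟨hzc, hzn⟩ := cen_not_odd h.hyp hzt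
      have key : com x k = com x l * (t * l * t⁻¹ * l⁻¹) := by
        calc com x k = d * com x k * d⁻¹ := by
              rw [(cen_comm h.hyp hkc hd).eq, mul_inv_cancel_right]
          _ = t * com x l * l * t⁻¹ * l⁻¹ := by rw [ht', hl]; simp only [com]; group
          _ = com x l * (t * l * t⁻¹ * l⁻¹) := by
              rw [← (cen_comm_oc h.hyp hdkc ht).eq]; group
      have := (cen_mul h.hyp hdkc hzc).2
      rw [← key] at this
      by_cases h1 : Odd2 z a (com x l) <;> by_cases h2 : Odd2 z a (com x k) <;>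
        simp [h1, h2, hzn] at this ⊢
    · intro v hv256 hfix hgen
      obtain ⟨k, hk, rfl⟩ := M.bar_surj v hv256
      rw [hmv _ hv256 ⟨hv256, hfix⟩, hfd k hk]
      refine decide_eq_false ?_
      have hall : ∀ y ∈ inner z, Cen z a (com y k) := fun y hy => by
        have hym : y ∈ cza z a := ⟨inner_le z hy, h.hyp.inner_le_centralizer hy⟩
        exact (com_cen M h.hyp hym hk).2 (rho_fixed_of_inner M hym ((hbr y hym).2 hy) hv256 hgen)
      have hmem : ∀ y ∈ inner z, y ∈ cza z a := fun y hy =>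
        ⟨inner_le z hy, h.hyp.inner_le_centralizer hy⟩
      have hmul : ∀ p ∈ inner z, ∀ q ∈ inner z, (Odd2 z a (com (p * q) k) ↔
          ¬ (Odd2 z a (com q k) ↔ Odd2 z a (com p k))) := fun p hp q hq => by
        rw [com_mul_left M h.hyp (hmem p hp) (hall q hq)]
        exact (cen_mul h.hyp (hall q hq) (hall p hp)).2
      have hone : ¬ Odd2 z a (com 1 k) := by
        refine (cen_not_odd h.hyp (Or.inl ?_)).2
        simp [com]
      have hinv : ∀ p ∈ inner z, (Odd2 z a (com p⁻¹ k) ↔ Odd2 z a (com p k)) := fun p hp => by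
        have := hmul p hp _ (inv_mem hp)
        rw [mul_inv_cancel] at this
        by_cases h1 : Odd2 z a (com p k) <;> by_cases h2 : Odd2 z a (com p⁻¹ k) <;>
          simp_all
      let K : Subgroup G :=
        { carrier := {y | y ∈ inner z ∧ ¬ Odd2 z a (com y k)}
          mul_mem' := fun {p q} hp hq => ⟨mul_mem hp.1 hq.1, by
            rw [hmul p hp.1 q hq.1]; have := hp.2; have := hq.2; tauto⟩
          one_mem' := ⟨one_mem _, hone⟩
          inv_mem' := fun {p} hp => ⟨inv_mem hp.1, by rw [hinv p hp.1]; exact hp.2⟩ }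
      have hJK : oc z ≤ K := fun t ht =>
        ⟨oc_le_inner z ht, (cen_not_odd h.hyp (h.hyp.comm t ht k hk)).2⟩
      have hcK : ⁅inner z, inner z⁆ ≤ K := by
        rw [commutator_le]
        intro p hp q hq
        refine ⟨mul_mem (mul_mem (mul_mem hp hq) (inv_mem hp)) (inv_mem hq), ?_⟩
        rw [commutatorElement_def, hmul _ (mul_mem (mul_mem hp hq) (inv_mem hp)) _ (inv_mem hq),
          hmul _ (mul_mem hp hq) _ (inv_mem hp), hmul _ hp _ hq, hinv p hp, hinv q hq]
        tauto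
      exact (sup_le hcK hJK ((h.hyp.inner_le_derived) ((hbr x hxm).1 hi))).2
  have h0 := hFun _ _ hF _ (M.bar_lt j) hv
  refine cen_cases h.hyp ((com_cen M h.hyp hxm hj).2 hv) ?_
  rw [hmv _ (M.bar_lt j) ⟨M.bar_lt j, hv⟩, hfd j hj] at h0
  exact of_decide_eq_false h0

theorem Good.u_phi {x : G} (hx : Tr z a g x) (hi : InnerCode C (M.rho x)) :
    ∃ m < 256, ∀ v < 256, app (M.rho x) v = v → (v ∈ ulist M g ↔ lv m v = false) := by
  classical
  have hxm := P.tr_mem h hx
  let S : ℕ → Prop := fun v => v < 256 ∧ app (M.rho x) v = v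
  let f : ℕ → Bool := fun v => decide (∃ k ∈ oc z, M.bar k = v ∧ com x k ≠ 1)
  have hfd : ∀ k ∈ oc z, f (M.bar k) = decide (com x k ≠ 1) := fun k hk =>
    decide_eq_decide.2 ⟨fun ⟨k', hk', e, ho⟩ => com_congr M h.hyp hxm hk' hk e ▸ ho,
      fun ho => ⟨k, hk, rfl, ho⟩⟩
  have hS : ∀ v w, S v → S w → S (v ^^^ w) := fun v w hv hw =>
    ⟨Nat.xor_lt_two_pow (n := 8) hv.1 hw.1, by rw [app_xor, hv.2, hw.2]⟩
  have hfx : ∀ v w, S v → S w → f (v ^^^ w) = (f v ^^ f w) := by
    intro v w hv hw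
    obtain ⟨k, hk, rfl⟩ := M.bar_surj v hv.1
    obtain ⟨l, hl, rfl⟩ := M.bar_surj w hw.1
    have h1 := P.not_odd h M hFun hbr hx hi hk hv.2
    have h2 := P.not_odd h M hFun hbr hx hi hl hw.2
    rw [← M.bar_mul k hk l hl, hfd _ (mul_mem hk hl), hfd _ hk, hfd _ hl,
      com_mul M h.hyp hxm hk ((com_cen M h.hyp hxm hl).2 hw.2)]
    rcases h1 with e1 | e1 <;> rcases h2 with e2 | e2 <;>
      simp [e1, e2, h.hyp.z_ne_one, h.hyp.zz]
  obtain ⟨m, hm, hmv⟩ := exists_lv S f hS hfx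
  refine ⟨m, hm, fun v hv hfix => ?_⟩
  obtain ⟨k, hk, rfl⟩ := M.bar_surj v hv
  rw [P.mem_u_iff h M hx hk, hmv _ hv ⟨hv, hfix⟩, hfd k hk]
  simp

/-- The triple. -/
theorem Good.triple {x y : G} (hx : Tr z a g x) (hy : Tr z a g y) (hne : x ≠ y) :
    Triple C (M.rho x) (M.rho y) (ulist M g) := by
  have hxm := P.tr_mem h hx
  have hym := P.tr_mem h hy
  have hthird : ∀ q, q = M.rho x ∨ q = M.rho y ∨ q = U62Rec.cmp (M.rho x) (M.rho y) →
      ∃ u, Tr z a g u ∧ q = M.rho u := by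
    rintro q (rfl | rfl | rfl)
    exacts [⟨x, hx, rfl⟩, ⟨y, hy, rfl⟩, ⟨x * y, P.tr_third h hx hy hne, (M.rho_mul x hxm y hym).symm⟩]
  refine ⟨P.rho_inv h M hx, P.rho_inv h M hy, ?_, P.rho_ne h M hx hy hne,
    List.nodup_range.filter _, ?_, ?_, ?_⟩
  · rw [← M.rho_mul x hxm y hym, ← M.rho_mul y hym x hxm, (P.tr_pair h hx hy).eq]
  · intro v hv
    obtain ⟨hv256, j, hj, hjw, rfl⟩ := mem_ulist.1 hv
    refine ⟨hv256, ?_, ?_⟩
    · rw [← M.rho_act x hxm j hj, ((P.tr_commute h hx hj).2 hjw).symm.eq, mul_inv_cancel_right]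
    · rw [← M.rho_act y hym j hj, ((P.tr_commute h hy hj).2 hjw).symm.eq, mul_inv_cancel_right]
  · intro q hq v hv hm
    obtain ⟨u, hu, rfl⟩ := hthird q hq
    exact P.u_moved h M hu hm
  · intro q hq hqi
    obtain ⟨u, hu, rfl⟩ := hthird q hq
    exact P.u_phi h M hFun hbr hu hqi

end Cfsg.Agent.Fi22Two
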