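import Cfsg.Agent.U62Rec.Dichotomy
import Cfsg.Agent.U62Rec.Check.NatI
import Cfsg.Agent.U62Rec.Check.RedIP
import Cfsg.Agent.U62Rec.Check.RedIM

/-!
# Involutory maps of PSp₄(3) with a large space of fixed vectors

Such a map fixes exactly 64 vectors and every non-zero vector orthogonal to all of them is moved by
a map of order three commuting with it.
-/

set_option autoImplicit false
set_option maxRecDepth 65536
set_option maxHeartbeats 4000000

namespace Cfsg.Agent.Fi22Two

open Cfsg.Agent.U62Rec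

/-- The fixed vectors. -/
def fixL (p : ℕ) : List ℕ := (List.range 256).filter fun v => Nat.beq (app p v) v

/-- The condition on one map with the table of its centraliser. -/
def swapOne (l c : ℕ) (T : Tab) : Bool :=
  T.centOK c &&
    (decide ((fixL c).length < 64) ||
      (Nat.beq (fixL c).length 64 &&
        ((fixL c).any (fun v => qv l v && (fixL c).all fun u => !fv v u) ||
          (fixL c).all fun v => Nat.beq v 0 || (fixL c).any (fun u => fv v u) ||
            T.S.any fun d => !Nat.beq (app d v) v && Nat.beq (U62Rec.cmp d (U62Rec.cmp d d)) idm)))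

/-- What the check gives for one map. -/
def SwapFact (gens : List ℕ) (l c : ℕ) : Prop :=
  64 ≤ (fixL c).length → (fixL c).length = 64 ∧
    ((∀ v ∈ fixL c, (∀ u ∈ fixL c, fv v u = false) → qv l v = false) →
    ∀ v ∈ fixL c, v ≠ 0 → (∀ u ∈ fixL c, fv v u = false) →
    ∃ d, Gen gens d ∧ U62Rec.cmp d c = U62Rec.cmp c d ∧ app d v ≠ v ∧ U62Rec.cmp d (U62Rec.cmp d d) = idm)

theorem swapFact_of_ok {gens ginv : List ℕ} {l c : ℕ} {T : Tab} (hT : T.ok gens ginv = true)
    (h : swapOne l c T = true) : SwapFact gens l c := by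
  simp only [swapOne, Bool.and_eq_true, Bool.or_eq_true, decide_eq_true_eq, List.all_eq_true,
    List.any_eq_true, Nat.beq_eq, Bool.not_eq_true', ← Bool.not_eq_true] at h
  intro h64
  obtain ⟨hc, h | ⟨hl, hall⟩⟩ := h
  · omega
  refine ⟨hl, fun hq v hv hv0 hperp => ?_⟩
  rcases hall with ⟨x, hx, hx1, hx2⟩ | hall
  · exact absurd ((hq x hx fun u hu => Bool.eq_false_iff.2 (hx2 u hu)).symm.trans hx1)
      Bool.false_ne_true
  rcases hall v hv with (e | ⟨u, hu, e⟩) | ⟨d, hd, hdv, hd3⟩
  · exact absurd e hv0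
  · exact absurd ((hperp u hu).symm.trans e) Bool.false_ne_true
  · exact ⟨d, (Tab.spec_of_ok hT).S_gen d hd, Tab.S_comm hT hc d hd, hdv, hd3⟩

theorem isCode_of_ok {l c : ℕ} {T : Tab} (h : swapOne l c T = true) : IsCode c := by
  simp only [swapOne, Tab.centOK, Bool.and_eq_true, decide_eq_true_eq] at h
  exact h.1.1.2

theorem innerCfgs_eq : innerCfgs =
    [(NatI.gens, NatI.lin), (RedIP.gens, RedIP.lin), (RedIM.gens, RedIM.lin)] := by decide +kernel

theorem natI_swap : (swapOne NatI.lin NatI.oc0.c NatI.ct0 && swapOne NatI.lin NatI.oc1.c NatI.ct1) = true := by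
  decide +kernel

theorem redIP_swap : (swapOne RedIP.lin RedIP.oc0.c RedIP.ct0 && swapOne RedIP.lin RedIP.oc1.c RedIP.ct1) = true := by
  decide +kernel

theorem redIM_swap : (swapOne RedIM.lin RedIM.oc0.c RedIM.ct0 && swapOne RedIM.lin RedIM.oc1.c RedIM.ct1) = true := by
  decide +kernel

/-- An involutory map of an inner configuration is conjugate to one with the property. -/
theorem exists_swapFact {c : List ℕ × ℕ} (hc : c ∈ innerCfgs) {m : ℕ} (hm : Gen c.1 m)
    (h1 : m ≠ idm) (h2 : U62Rec.cmp m m = idm) :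
    ∃ p h, IsCode p ∧ Gen c.1 h ∧ U62Rec.cmp m h = U62Rec.cmp h p ∧ SwapFact c.1 c.2 p := by
  have key : ∀ {l : ℕ} {gens ginv : List ℕ} {T : Tab} {cs : List (OutCase × Tab)} {w : List (ℕ × ℕ)},
      Gen gens m → T.ok gens ginv = true → T.stabOK 5 = true →
      (T.ts.map fun p => app p.1 5).toFinset.card % 2 = 1 → witOK T cs T.S w = true →
      (∀ ct ∈ cs, ct.2.ok gens ginv = true ∧ swapOne l ct.1.c ct.2 = true) →
      ∃ p h, IsCode p ∧ Gen gens h ∧ U62Rec.cmp m h = U62Rec.cmp h p ∧ SwapFact gens l p := by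
    intro l gens ginv T cs w hm hT hu hodd hw hcs
    obtain ⟨ct, hct, h, hh, e⟩ := classified hT hu hodd hw (fun ct hct => (hcs ct hct).1) hm h1 h2
    exact ⟨_, h, isCode_of_ok (hcs ct hct).2, hh, e, swapFact_of_ok (hcs ct hct).1 (hcs ct hct).2⟩
  rw [innerCfgs_eq] at hc
  simp only [List.mem_cons, List.not_mem_nil, or_false] at hc
  rcases hc with rfl | rfl | rfl
  · refine key hm NatI.vt0_ok NatI.vt0_fix NatI.vt0_odd NatI.wit_ok fun ct hct => ?_
    have h := Bool.and_eq_true_iff.1 natI_swap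
    fin_cases hct
    · exact ⟨outOK_tab NatI.out0, h.1⟩
    · exact ⟨outOK_tab NatI.out1, h.2⟩
  · refine key hm RedIP.vt0_ok RedIP.vt0_fix RedIP.vt0_odd RedIP.wit_ok fun ct hct => ?_
    have h := Bool.and_eq_true_iff.1 redIP_swap
    fin_cases hct
    · exact ⟨outOK_tab RedIP.out0, h.1⟩
    · exact ⟨outOK_tab RedIP.out1, h.2⟩
  · refine key hm RedIM.vt0_ok RedIM.vt0_fix RedIM.vt0_odd RedIM.wit_ok fun ct hct => ?_
    have h := Bool.and_eq_true_iff.1 redIM_swap
    fin_cases hct
    · exact ⟨outOK_tab RedIM.out0, h.1⟩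
    · exact ⟨outOK_tab RedIM.out1, h.2⟩

end Cfsg.Agent.Fi22Two
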