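import Cfsg.Agent.Fi22Two.Common

/-!
# Commutators of an involution with `O₂(C z)` modulo its centre

For an involution `w` of `C z` let `X` be the elements of `oc z` whose commutator with `w` is
central. Then `X` has at least 64 elements and what commutes with `X` is such a commutator times a
central element.
-/

set_option autoImplicit false

open Cfsg Subgroup

namespace Cfsg.Agent.Fi22Two.Swap

open Cfsg.Agent.LargeExtra Cfsg.Agent.U62Rec

variable {G : Type*} [Group G] [Finite G] {z a w : G}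

/-- The centre of `oc z`, as a subgroup of the group. -/
def ctr (z : G) : Subgroup G := oc z ⊓ centralizer ((oc z : Subgroup G) : Set G)

theorem mem_ctr (h : Hyp z a) {x : G} : x ∈ ctr z ↔ x = 1 ∨ x = z ∨ x = a ∨ x = a * z := by
  constructor
  · intro hx
    exact (h.centre x hx.1).1 fun y hy => (mem_centralizer_iff.1 hx.2 y hy).symm
  · intro hx
    have hm : x ∈ oc z := by
      rcases hx with rfl | rfl | rfl | rfl
      exacts [one_mem _, h.z_mem, h.a_mem, mul_mem h.a_mem h.z_mem]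
    exact ⟨hm, mem_centralizer_iff.2 fun y hy => ((h.centre x hm).2 hx y hy).symm⟩

theorem ctr_comm {c x : G} (hc : c ∈ ctr z) (hx : x ∈ oc z) : Commute c x :=
  (mem_centralizer_iff.1 hc.2 x hx).symm

theorem z_mem_ctr (h : Hyp z a) : z ∈ ctr z := (mem_ctr h).2 (Or.inr (Or.inl rfl))

theorem a_mem_ctr (h : Hyp z a) : a ∈ ctr z := (mem_ctr h).2 (Or.inr (Or.inr (Or.inl rfl)))

theorem ne_one (h : Hyp z a) : z ≠ 1 := fun e => by
  have := h.ordz; rw [e, orderOf_one] at this; omega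

theorem sq_ctr (h : Hyp z a) {c : G} (hc : c ∈ ctr z) : c * c = 1 := by
  have hzz := h.zz
  have haa := h.aa
  rcases (mem_ctr h).1 hc with rfl | rfl | rfl | rfl
  · rw [mul_one]
  · exact hzz
  · exact haa
  · rw [h.comm_za.mul_mul_mul_comm, haa, hzz, one_mul]

theorem inv_ctr (h : Hyp z a) {c : G} (hc : c ∈ ctr z) : c⁻¹ = c :=
  inv_eq_of_mul_eq_one_right (sq_ctr h hc)

theorem card_ctr (h : Hyp z a) : Nat.card ↥(ctr z) = 4 := by
  classical
  have hset : (ctr z : Set G) = ↑({1, z, a, a * z} : Finset G) := by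
    ext x; simpa using mem_ctr h
  have h1 := ne_one h
  have h2 : a ≠ 1 := fun e => by have := h.orda; rw [e, orderOf_one] at this; omega
  have h3 : a * z ≠ 1 := fun e => h.ne (by
    calc a = a * z * z := by rw [mul_assoc, h.zz, mul_one]
      _ = z := by rw [e, one_mul])
  rw [← SetLike.coe_sort_coe, Nat.card_coe_set_eq, hset, Set.ncard_coe_finset,
    Finset.card_insert_of_notMem (by simp [h1.symm, h2.symm, Ne.symm h3]),
    Finset.card_insert_of_notMem (by simp [h.ne.symm, h2]),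
    Finset.card_insert_of_notMem (by simp [h1]), Finset.card_singleton]

theorem ctr_norm {x c : G} (hx : x ∈ centralizer ({z} : Set G)) (hc : c ∈ ctr z) :
    x * c * x⁻¹ ∈ ctr z := by
  refine ⟨oc_conj_mem hx hc.1, mem_centralizer_iff.2 fun y hy => ?_⟩
  have hy' : x⁻¹ * y * x ∈ oc z := by simpa using oc_conj_mem (inv_mem hx) hy
  calc y * (x * c * x⁻¹) = x * (x⁻¹ * y * x * c) * x⁻¹ := by group
    _ = x * (c * (x⁻¹ * y * x)) * x⁻¹ := by rw [(ctr_comm hc hy').eq]
    _ = x * c * x⁻¹ * y := by group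

theorem ctr_conj_iff {x c : G} (hx : x ∈ centralizer ({z} : Set G)) :
    x * c * x⁻¹ ∈ ctr z ↔ c ∈ ctr z :=
  ⟨fun hc => by simpa [mul_assoc] using ctr_norm (inv_mem hx) hc, ctr_norm hx⟩

/-- `C z` sends `a` to itself or to `a z`. -/
theorem parity (h : Hyp z a) {x : G} (hx : x ∈ centralizer ({z} : Set G)) :
    x * a * x⁻¹ = a ∨ x * a * x⁻¹ = a * z := by
  have hxz : x * z * x⁻¹ = z := by
    rw [mem_centralizer_singleton_iff.1 hx, mul_inv_cancel_right]
  rcases (mem_ctr h).1 (ctr_norm hx (a_mem_ctr h)) with e | e | e | e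
  · have := h.orda
    rw [conj_eq_one_iff.1 e, orderOf_one] at this
    omega
  · exact absurd (mul_left_cancel (mul_right_cancel (e.trans hxz.symm))) h.ne
  · exact Or.inl e
  · exact Or.inr e

omit [Finite G] in
theorem commute_of_conj_eq {x u : G} (e : x * u * x⁻¹ = u) : Commute x u :=
  mul_inv_eq_iff_eq_mul.1 e

omit [Finite G] in
theorem conj_eq_of_commute {x u : G} (e : Commute x u) : x * u * x⁻¹ = u :=
  mul_inv_eq_iff_eq_mul.2 e.eq

theorem swaps (h : Hyp z a) {x : G} (hx : x ∈ centralizer ({z} : Set G)) (hn : ¬ Commute x a) :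
    x * a * x⁻¹ = a * z :=
  (parity h hx).resolve_left fun e => hn (commute_of_conj_eq e)

theorem sq_fix (h : Hyp z a) {x : G} (hx : x ∈ centralizer ({z} : Set G)) :
    Commute (x * x) a := by
  refine commute_of_conj_eq ?_
  have hxz : x * z * x⁻¹ = z := by
    rw [mem_centralizer_singleton_iff.1 hx, mul_inv_cancel_right]
  rw [show x * x * a * (x * x)⁻¹ = x * (x * a * x⁻¹) * x⁻¹ by group]
  rcases parity h hx with e | e <;> rw [e]
  · exact e
  · rw [← conjm, e, hxz, mul_assoc, h.zz, mul_one]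

/-- Fibres of conjugation of one element with two possible values. -/
theorem card_le_two_mul (T : Subgroup G) (x c : G)
    (hT : ∀ t ∈ T, t * x * t⁻¹ = x ∨ t * x * t⁻¹ = x * c) :
    Nat.card T ≤ 2 * Nat.card ↥(T ⊓ centralizer ({x} : Set G)) := by
  rw [card_fibres (fun t => t * x * t⁻¹) T (T ⊓ centralizer ({x} : Set G)) inf_le_left
    fun p hp q hq => ?_]
  · refine Nat.mul_le_mul_right _ ?_
    calc ((fun t => t * x * t⁻¹) '' (T : Set G)).ncard ≤ ({x, x * c} : Set G).ncard := by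
          refine Set.ncard_le_ncard ?_ (Set.toFinite _)
          rintro _ ⟨t, ht, rfl⟩
          simpa using hT t ht
      _ ≤ 2 := (Set.ncard_insert_le _ _).trans (by rw [Set.ncard_singleton])
  · show p * x * p⁻¹ = q * x * q⁻¹ ↔ _
    rw [Subgroup.mem_inf, mem_centralizer_singleton_iff]
    constructor
    · intro e
      refine ⟨mul_mem (inv_mem hp) hq, ?_⟩
      calc p⁻¹ * q * x = p⁻¹ * (q * x * q⁻¹) * q := by group
        _ = x * (p⁻¹ * q) := by rw [← e]; group
    · intro e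
      calc p * x * p⁻¹ = p * (x * (p⁻¹ * q)) * q⁻¹ := by group
        _ = q * x * q⁻¹ := by rw [← e.2]; group

/-- The commutator pairing bounds orders. -/
theorem pair_count (h : Hyp z a) {T : Subgroup G} (hT : T ≤ oc z) :
    ∀ S : Subgroup G, S ≤ oc z → Nat.card T * Nat.card ↥(S ⊓ centralizer (T : Set G)) ≤
      Nat.card ↥(T ⊓ centralizer (S : Set G)) * Nat.card S := by
  intro S
  induction hn : Nat.card S using Nat.strong_induction_on generalizing S with
  | _ n IH =>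
    subst hn
    intro hS
    by_cases hST : S ≤ centralizer (T : Set G)
    · refine Nat.mul_le_mul (card_le_of_le (le_inf le_rfl fun t ht => ?_)) (card_le_of_le inf_le_left)
      exact mem_centralizer_iff.2 fun s hs => (mem_centralizer_iff.1 (hST hs) t ht).symm
    obtain ⟨s, hs, hsT⟩ := SetLike.not_le_iff_exists.1 hST
    replace hs : s ∈ S := hs
    rw [mem_centralizer_iff] at hsT
    push Not at hsT
    obtain ⟨t, ht, hst⟩ := hsT
    set S0 := S ⊓ centralizer ({t} : Set G) with hS0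
    have hne : S0 ≠ S := fun e => hst (by
      have h0 : s ∈ S0 := e.symm ▸ hs
      exact (mem_centralizer_singleton_iff.1 h0.2).symm)
    have hlt : Nat.card S0 < Nat.card S :=
      lt_of_le_of_ne (card_le_of_le inf_le_left) fun e =>
        hne (eq_of_le_of_card_ge inf_le_left e.ge)
    have hhalf : 2 * Nat.card S0 ≤ Nat.card S := by
      obtain ⟨k, hk⟩ := card_dvd_of_le (inf_le_left : S0 ≤ S)
      have hpos : 0 < Nat.card S0 := Nat.card_pos
      rcases k with _ | _ | k <;> simp only [hS0] at * <;> nlinarith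
    have h1 := IH _ hlt S0 rfl (inf_le_left.trans hS)
    have e1 : S ⊓ centralizer (T : Set G) ≤ S0 ⊓ centralizer (T : Set G) := fun x hx =>
      ⟨⟨hx.1, mem_centralizer_singleton_iff.2 (mem_centralizer_iff.1 hx.2 t ht).symm⟩, hx.2⟩
    have hval : ∀ p ∈ S, p * t * p⁻¹ = t ∨ p * t * p⁻¹ = z * t := fun p hp => by
      rcases h.comm p (hS hp) t (hT ht) with e | e
      · exact Or.inl (mul_inv_eq_one.1 e)
      · exact Or.inr (mul_inv_eq_iff_eq_mul.1 e)
    have e2 : (T ⊓ centralizer (S0 : Set G)) ⊓ centralizer ({s} : Set G) ≤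
        T ⊓ centralizer (S : Set G) := by
      rintro q ⟨⟨hqT, hq0⟩, hqs⟩
      replace hqs : q * s = s * q := mem_centralizer_singleton_iff.1 hqs
      refine ⟨hqT, mem_centralizer_iff.2 fun x hx => ?_⟩
      replace hx : x ∈ S := hx
      replace hqT : q ∈ T := hqT
      by_cases hxt : Commute x t
      · exact mem_centralizer_iff.1 hq0 x ⟨hx, mem_centralizer_singleton_iff.2 hxt.eq⟩
      have e3 : s⁻¹ * x ∈ S0 := by
        refine ⟨S.mul_mem (S.inv_mem hs) hx, mem_centralizer_singleton_iff.2 ?_⟩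
        have hx' := (hval x hx).resolve_left fun e => hxt (commute_of_conj_eq e)
        have hs' := (hval s hs).resolve_left fun e => hst (commute_of_conj_eq e).symm.eq
        calc s⁻¹ * x * t = s⁻¹ * (x * t * x⁻¹) * x := by group
          _ = t * (s⁻¹ * x) := by rw [hx', ← hs']; group
      have e4 := mem_centralizer_iff.1 hq0 _ e3
      calc x * q = s * (s⁻¹ * x * q) := by group
        _ = s * q * (s⁻¹ * x) := by rw [e4]; group
        _ = q * x := by rw [← hqs]; group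
    have h2 : Nat.card ↥(T ⊓ centralizer (S0 : Set G)) ≤
        2 * Nat.card ↥(T ⊓ centralizer (S : Set G)) := by
      refine (card_le_two_mul _ s z fun q hq => ?_).trans (Nat.mul_le_mul_left _ (card_le_of_le e2))
      rcases h.comm q (hT hq.1) s (hS hs) with e | e
      · exact Or.inl (mul_inv_eq_one.1 e)
      · refine Or.inr ?_
        rw [mul_inv_eq_iff_eq_mul.1 e]
        exact (mem_centralizer_singleton_iff.1 (oc_le z (hS hs))).symm
    calc Nat.card T * Nat.card ↥(S ⊓ centralizer (T : Set G))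
        ≤ Nat.card T * Nat.card ↥(S0 ⊓ centralizer (T : Set G)) :=
          Nat.mul_le_mul_left _ (card_le_of_le e1)
      _ ≤ Nat.card ↥(T ⊓ centralizer (S0 : Set G)) * Nat.card S0 := h1
      _ ≤ 2 * Nat.card ↥(T ⊓ centralizer (S : Set G)) * Nat.card S0 := Nat.mul_le_mul_right _ h2
      _ ≤ Nat.card ↥(T ⊓ centralizer (S : Set G)) * Nat.card S := by
          rw [mul_comm 2, mul_assoc]; exact Nat.mul_le_mul_left _ hhalf

theorem pair_count_oc (h : Hyp z a) {T : Subgroup G} (hT : T ≤ oc z) :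
    Nat.card T * Nat.card ↥(oc z ⊓ centralizer (T : Set G)) ≤ 4096 := by
  refine (pair_count h hT (oc z) le_rfl).trans ?_
  have h4 : Nat.card ↥(T ⊓ centralizer ((oc z : Subgroup G) : Set G)) ≤ 4 :=
    (card_le_of_le (inf_le_inf_right _ hT)).trans (card_ctr h).le
  calc _ ≤ 4 * Nat.card ↥(oc z) := Nat.mul_le_mul_right _ h4
    _ = 4096 := by rw [h.card]

/-- The commutators of `w` with `oc z` and the subgroup where they are central. -/
theorem exists_perp (h : Hyp z a) (hw : w ∈ centralizer ({z} : Set G)) (hw2 : w * w = 1) :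
    ∃ X : Subgroup G, (∀ x, x ∈ X ↔ x ∈ oc z ∧ x * w * x⁻¹ * w ∈ ctr z) ∧ 64 ≤ Nat.card X ∧
      ∀ q ∈ oc z, (∀ x ∈ X, Commute x q) →
        ∃ j ∈ oc z, ∃ c ∈ ctr z, q = j * w * j⁻¹ * w * c := by
  have hwi : w⁻¹ = w := inv_eq_of_mul_eq_one_right hw2
  let X : Subgroup G :=
    { carrier := {x | x ∈ oc z ∧ x * w * x⁻¹ * w ∈ ctr z}
      one_mem' := ⟨one_mem _, by simp [hw2]⟩
      mul_mem' := fun {x y} hx hy => ⟨mul_mem hx.1 hy.1, by
        have e : x * y * w * (x * y)⁻¹ * w =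
            x * (y * w * y⁻¹ * w) * x⁻¹ * (x * w⁻¹ * x⁻¹ * w) := by group
        rw [e, hwi]
        exact mul_mem (ctr_norm (oc_le z hx.1) hy.2) hx.2⟩
      inv_mem' := fun {x} hx => ⟨inv_mem hx.1, by
        have e : x⁻¹ * w * x⁻¹⁻¹ * w = x⁻¹ * (x * w⁻¹ * x⁻¹ * w⁻¹)⁻¹ * x⁻¹⁻¹ := by group
        rw [e, hwi]
        exact ctr_norm (oc_le z (inv_mem hx.1)) (inv_mem hx.2)⟩ }
  have hX : ∀ x, x ∈ X ↔ x ∈ oc z ∧ x * w * x⁻¹ * w ∈ ctr z := fun x => Iff.rfl
  have hcX : ctr z ≤ X := fun c hc => ⟨hc.1, by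
    have := mul_mem hc (ctr_norm hw (inv_mem hc))
    rw [hwi] at this
    simpa [mul_assoc] using this⟩
  set mk : G → G ⧸ ctr z := fun x => (x : G ⧸ ctr z) with hmk
  set f : G → G ⧸ ctr z := fun j => mk (j * w * j⁻¹ * w) with hf
  have hfib : ∀ p ∈ oc z, ∀ q ∈ oc z, (f p = f q ↔ p⁻¹ * q ∈ X) := by
    intro p hp q hq
    have e : (p * w * p⁻¹ * w)⁻¹ * (q * w * q⁻¹ * w) =
        w⁻¹ * p * (w⁻¹ * (p⁻¹ * q) * w * (p⁻¹ * q)⁻¹) * (w⁻¹ * p)⁻¹ := by
      group
    rw [hf, hmk, QuotientGroup.eq, e, ctr_conj_iff (mul_mem (inv_mem hw) (oc_le z hp)), hX,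
      ← inv_mem_iff (x := w⁻¹ * (p⁻¹ * q) * w * (p⁻¹ * q)⁻¹), hwi]
    constructor
    · intro hh
      refine ⟨mul_mem (inv_mem hp) hq, ?_⟩
      convert hh using 1
      simp [mul_assoc, hwi]
    · rintro ⟨-, hh⟩
      convert hh using 1
      simp [mul_assoc, hwi]
  have hN := card_fibres f (oc z) X (fun x hx => hx.1) hfib
  have hmkfib : ∀ (Q : Subgroup G), ctr z ≤ Q →
      Nat.card Q = (mk '' (Q : Set G)).ncard * 4 := by
    intro Q hQ
    rw [card_fibres mk Q (ctr z) hQ fun p _ q _ => QuotientGroup.eq, card_ctr h]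
  -- the commutators
  have hmem : ∀ j ∈ oc z, j * w * j⁻¹ * w ∈ oc z := fun j hj => by
    have := mul_mem hj (oc_conj_mem hw (inv_mem hj))
    rw [hwi] at this
    simpa [mul_assoc] using this
  have hinX : ∀ j ∈ oc z, j * w * j⁻¹ * w ∈ X := fun j hj => by
    refine ⟨hmem j hj, ?_⟩
    have e : j * w * j⁻¹ * w * w * (j * w * j⁻¹ * w)⁻¹ * w =
        j * w * j⁻¹ * w * (j * w * j⁻¹ * w) := by
      rw [show (j * w * j⁻¹ * w)⁻¹ = w⁻¹ * j * w⁻¹ * j⁻¹ by group, hwi]
      simp only [mul_assoc]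
      rw [← mul_assoc w w, hw2, one_mul]
    rw [e]
    rcases h.sq _ (hmem j hj) with e' | e' <;> rw [e']
    exacts [one_mem _, z_mem_ctr h]
  have hcomm : ∀ j ∈ oc z, ∀ x ∈ X, Commute x (j * w * j⁻¹ * w) := by
    intro j hj x hx
    obtain ⟨hx1, hx2⟩ := hx
    set c := x * w * x⁻¹ * w with hc
    have hwx : w * x * w = c * x := by
      have h1 := inv_ctr h hx2
      rw [hc] at h1 ⊢
      rw [← h1]
      simp [mul_assoc, hwi]
    have hwc : w * c * w = c := by
      have h1 := inv_ctr h hx2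
      conv_rhs => rw [← h1]
      rw [hc]
      simp [mul_assoc, hwi, hw2]
    have hs : ∃ s ∈ ctr z, j⁻¹ * x * j = x * s ∧ w * s * w = s := by
      rcases h.comm j⁻¹ (inv_mem hj) x hx1 with e | e
      · refine ⟨1, one_mem _, ?_, by rw [mul_one, hw2]⟩
        rw [mul_inv_eq_one, inv_inv] at e
        rw [e, mul_one]
      · refine ⟨z, z_mem_ctr h, ?_, ?_⟩
        · rw [mul_inv_eq_iff_eq_mul, inv_inv] at e
          rw [e, (mem_centralizer_singleton_iff.1 (oc_le z hx1)).symm]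
        · rw [mem_centralizer_singleton_iff.1 hw, mul_assoc, hw2, mul_one]
    obtain ⟨s, hsc, hs, hws⟩ := hs
    refine (commute_of_conj_eq ?_).symm
    calc j * w * j⁻¹ * w * x * (j * w * j⁻¹ * w)⁻¹
        = j * w * (j⁻¹ * (w * x * w⁻¹) * j) * w⁻¹ * j⁻¹ := by group
      _ = j * w * (j⁻¹ * c * j * (j⁻¹ * x * j)) * w⁻¹ * j⁻¹ := by rw [hwi, hwx]; group
      _ = j * w * (c * (x * s)) * w⁻¹ * j⁻¹ := by
          rw [hs, ((ctr_comm hx2 (inv_mem hj)).symm).eq, mul_assoc c j⁻¹, inv_mul_cancel, mul_one]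
      _ = j * ((w * c * w⁻¹) * (w * x * w⁻¹) * (w * s * w⁻¹)) * j⁻¹ := by group
      _ = j * (c * c * (x * s)) * j⁻¹ := by rw [hwi, hwc, hwx, hws]; group
      _ = j * (j⁻¹ * x * j) * j⁻¹ := by rw [sq_ctr h hx2, one_mul, hs]
      _ = x := by group
  have h1 : (f '' (oc z : Set G)).ncard ≤ (mk '' (X : Set G)).ncard := by
    refine Set.ncard_le_ncard ?_ (Set.toFinite _)
    rintro _ ⟨j, hj, rfl⟩
    exact ⟨_, hinX j hj, rfl⟩
  have hX4 := hmkfib X hcX
  rw [h.card] at hN
  refine ⟨X, hX, by nlinarith, fun q hq hqX => ?_⟩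
  set Q := oc z ⊓ centralizer (X : Set G) with hQ
  have hcQ : ctr z ≤ Q := fun c hc => ⟨hc.1, mem_centralizer_iff.2 fun x hx =>
    (ctr_comm hc hx.1).symm.eq⟩
  have h2 : Nat.card Q * Nat.card X ≤ 4096 := by
    refine (Nat.mul_le_mul_left _ (card_le_of_le ?_)).trans (pair_count_oc h (inf_le_left : Q ≤ oc z))
    exact fun x hx => ⟨hx.1, mem_centralizer_iff.2 fun y hy =>
      (mem_centralizer_iff.1 hy.2 x hx).symm⟩
  have hQ4 := hmkfib Q hcQ
  have hsub : f '' (oc z : Set G) ⊆ mk '' (Q : Set G) := by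
    rintro _ ⟨j, hj, rfl⟩
    exact ⟨_, ⟨hmem j hj, mem_centralizer_iff.2 fun x hx => (hcomm j hj x hx).eq⟩, rfl⟩
  have hle : (mk '' (Q : Set G)).ncard ≤ (f '' (oc z : Set G)).ncard := by
    have hpos : 0 < Nat.card X := Nat.card_pos
    refine Nat.le_of_mul_le_mul_right ?_ hpos
    rw [← hN]
    rw [hQ4] at h2
    nlinarith
  obtain ⟨j, hj, e⟩ : mk q ∈ f '' (oc z : Set G) := by
    rw [Set.eq_of_subset_of_ncard_le hsub hle (Set.toFinite _)]
    exact ⟨q, ⟨hq, mem_centralizer_iff.2 fun x hx => (hqX x hx).eq⟩, rfl⟩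
  exact ⟨j, hj, (j * w * j⁻¹ * w)⁻¹ * q, QuotientGroup.eq.1 e, (mul_inv_cancel_left _ _).symm⟩

end Cfsg.Agent.Fi22Two.Swap
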