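import Cfsg.Agent.Fi22Two.Basic
import Cfsg.Agent.Fi22Two.SwapTools
import Cfsg.Agent.Fi22Two.SwapCheck

/-!
# No conjugate of `z` in `oc z` when `C z` moves `a`

For such a conjugate `y ≠ z` with partner `b` the element `b` acts on `oc z` fixing exactly 64 vectors,
and a map of order three commuting with it gives an element of `C b` moving `y` inside `C y`.
-/

set_option autoImplicit false

open Cfsg Subgroup

namespace Cfsg.Agent.Fi22Two

open Cfsg.Agent.LargeExtra Cfsg.Agent.U62Rec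

variable {G : Type*} [Group G] [Finite G] {z a : G}

namespace Swap

omit [Finite G] in
theorem conj_commute_iff {g p q : G} :
    Commute (g⁻¹ * p * g) (g⁻¹ * q * g) ↔ Commute p q := by
  simpa using Commute.conj_iff (a := p) (b := q) g⁻¹

omit [Finite G] in
theorem mem_cz_conj {g x : G} :
    x ∈ centralizer ({g * z * g⁻¹} : Set G) ↔ g⁻¹ * x * g ∈ centralizer ({z} : Set G) := by
  rw [mem_centralizer_singleton_iff, mem_centralizer_singleton_iff]
  have := conj_commute_iff (g := g) (p := x) (q := g * z * g⁻¹)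
  simp only [show g⁻¹ * (g * z * g⁻¹) * g = z by group] at this
  exact this.symm

/-- The parity for a conjugate. -/
theorem parity_conj (h : Hyp z a) {g x : G}
    (hx : x ∈ centralizer ({g * z * g⁻¹} : Set G)) :
    x * (g * a * g⁻¹) * x⁻¹ = g * a * g⁻¹ ∨
      x * (g * a * g⁻¹) * x⁻¹ = g * a * g⁻¹ * (g * z * g⁻¹) := by
  have e : x * (g * a * g⁻¹) * x⁻¹ = g * (g⁻¹ * x * g * a * (g⁻¹ * x * g)⁻¹) * g⁻¹ := by group
  rcases parity h (mem_cz_conj.1 hx) with e' | e' <;> rw [e, e']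
  · exact Or.inl rfl
  · exact Or.inr (conjm g a z).symm

theorem inv_parity (h : Hyp z a) {x : G} (hx : x ∈ centralizer ({z} : Set G)) :
    ∀ u, u = a ∨ u = a * z → x * u * x⁻¹ = a ∨ x * u * x⁻¹ = a * z := by
  have hxz : x * z * x⁻¹ = z := by
    rw [mem_centralizer_singleton_iff.1 hx, mul_inv_cancel_right]
  rintro u (rfl | rfl)
  · exact parity h hx
  · rw [← conjm, hxz]
    rcases parity h hx with e | e <;> rw [e]
    · exact Or.inr rfl
    · left; rw [mul_assoc, h.zz, mul_one]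

/-- A commutator in `C z` centralises `a`. -/
theorem comm_fix (h : Hyp z a) {x y : G} (hx : x ∈ centralizer ({z} : Set G))
    (hy : y ∈ centralizer ({z} : Set G)) : Commute (x * y * x⁻¹ * y⁻¹) a := by
  have key : ∀ p ∈ centralizer ({z} : Set G), ∀ q ∈ centralizer ({z} : Set G),
      p * q * a * (p * q)⁻¹ = q * p * a * (q * p)⁻¹ := by
    intro p hp q hq
    have hpz : p * z * p⁻¹ = z := by
      rw [mem_centralizer_singleton_iff.1 hp, mul_inv_cancel_right]
    have hqz : q * z * q⁻¹ = z := by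
      rw [mem_centralizer_singleton_iff.1 hq, mul_inv_cancel_right]
    rw [show p * q * a * (p * q)⁻¹ = p * (q * a * q⁻¹) * p⁻¹ by group,
      show q * p * a * (q * p)⁻¹ = q * (p * a * p⁻¹) * q⁻¹ by group]
    rcases parity h hp with e | e <;> rcases parity h hq with e' | e' <;> rw [e, e'] <;>
      simp only [← conjm, e, e', hpz, hqz]
  have e := key x⁻¹ (inv_mem hx) y⁻¹ (inv_mem hy)
  refine commute_of_conj_eq ?_
  calc x * y * x⁻¹ * y⁻¹ * a * (x * y * x⁻¹ * y⁻¹)⁻¹
      = x * y * (x⁻¹ * y⁻¹ * a * (x⁻¹ * y⁻¹)⁻¹) * (x * y)⁻¹ := by group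
    _ = x * y * (y⁻¹ * x⁻¹ * a * (y⁻¹ * x⁻¹)⁻¹) * (x * y)⁻¹ := by rw [e]
    _ = a := by group

variable {C : Cfg} (M : Mod2 C z a)

theorem dom_of_oc (h : Hyp z a) {x : G} (hx : x ∈ oc z) :
    x ∈ centralizer ({z} : Set G) ⊓ centralizer ({a} : Set G) :=
  ⟨oc_le z hx, mem_centralizer_singleton_iff.2 (ctr_comm (a_mem_ctr h) hx).symm.eq⟩

include M

theorem bar_inv {x : G} (hx : x ∈ oc z) : M.bar x⁻¹ = M.bar x := by
  have h1 : M.bar (1 : G) = 0 := (M.bar_eq 1 (one_mem _)).2 (Or.inl rfl)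
  have h2 := M.bar_mul x⁻¹ (inv_mem hx) x hx
  rw [inv_mul_cancel, h1] at h2
  exact Nat.xor_eq_zero_iff.1 h2.symm

theorem bar_eq_ctr (h : Hyp z a) {p q : G} (hp : p ∈ oc z) (hq : q ∈ oc z) :
    M.bar p = M.bar q ↔ p⁻¹ * q ∈ ctr z := by
  rw [mem_ctr h, ← M.bar_eq _ (mul_mem (inv_mem hp) hq), M.bar_mul _ (inv_mem hp) _ hq,
    bar_inv M hp, Nat.xor_eq_zero_iff]

theorem rho_of_oc (h : Hyp z a) {x : G} (hx : x ∈ oc z) : M.rho x = idm :=
  (M.rho_ker x (dom_of_oc h hx)).2 hx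

theorem rho_inj (h : Hyp z a) {p q : G}
    (hp : p ∈ centralizer ({z} : Set G) ⊓ centralizer ({a} : Set G))
    (hq : q ∈ centralizer ({z} : Set G) ⊓ centralizer ({a} : Set G)) :
    M.rho p = M.rho q ↔ p⁻¹ * q ∈ oc z := by
  have hone : U62Rec.cmp (M.rho p) (M.rho p⁻¹) = idm ∧ U62Rec.cmp (M.rho p⁻¹) (M.rho p) = idm := by
    rw [← M.rho_mul p hp _ (inv_mem hp), ← M.rho_mul _ (inv_mem hp) p hp, mul_inv_cancel,
      inv_mul_cancel]
    exact ⟨rho_of_oc M h (one_mem _), rho_of_oc M h (one_mem _)⟩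
  rw [← M.rho_ker _ (mul_mem (inv_mem hp) hq), M.rho_mul _ (inv_mem hp) q hq]
  constructor
  · intro e; rw [← e]; exact hone.2
  · intro e
    calc M.rho p = U62Rec.cmp (M.rho p) (U62Rec.cmp (M.rho p⁻¹) (M.rho q)) := by rw [e, cmp_idm (M.rho_code p)]
      _ = M.rho q := by rw [← cmp_assoc, hone.1, idm_cmp (M.rho_code q)]

theorem exists_rho (h : Hyp z a) {m : ℕ} (hm : Gen C.gens m) :
    ∃ x ∈ centralizer ({z} : Set G) ⊓ centralizer ({a} : Set G), M.rho x = m := by
  induction hm with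
  | one => exact ⟨1, one_mem _, rho_of_oc M h (one_mem _)⟩
  | step hg _ ih =>
    obtain ⟨p, hp, rfl⟩ := M.rho_surj _ hg
    obtain ⟨q, hq, rfl⟩ := ih
    exact ⟨p * q, mul_mem hp hq, M.rho_mul p hp q hq⟩

omit M

/-- The partner of a conjugate of `z` in `oc z`. -/
theorem partner (h : Hyp z a) (h1 : IsoIn z a) (h2 : IsoIn z (a * z)) {g : G}
    (hy : g * z * g⁻¹ ∈ oc z) (hne : g * z * g⁻¹ ≠ z) :
    g * a * g⁻¹ ∈ centralizer ({z} : Set G) ⊓ centralizer ({a} : Set G) ∧ g * a * g⁻¹ ∉ oc z ∧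
      (∀ x ∈ oc z, Commute x (g * a * g⁻¹) → Commute x (g * z * g⁻¹)) ∧
      256 ≤ Nat.card ↥(oc z ⊓ centralizer ({g * a * g⁻¹} : Set G)) := by
  set y := g * z * g⁻¹ with hydef
  set b := g * a * g⁻¹ with hbdef
  have hyH : y ∈ centralizer ({z} : Set G) := oc_le z hy
  have hzy : z ∈ centralizer ({y} : Set G) :=
    mem_centralizer_singleton_iff.2 (mem_centralizer_singleton_iff.1 hyH).symm
  set K := oc z ⊓ centralizer ({y} : Set G) with hK
  have hK512 : 512 ≤ Nat.card K := by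
    have := card_le_two_mul (oc z) y z fun t ht => by
      rcases h.comm t ht y hy with e | e
      · exact Or.inl (mul_inv_eq_one.1 e)
      · refine Or.inr ?_
        rw [mul_inv_eq_iff_eq_mul.1 e]
        exact (mem_centralizer_singleton_iff.1 hyH).symm
    rw [h.card] at this
    show 512 ≤ Nat.card ↥(oc z ⊓ centralizer ({y} : Set G))
    omega
  obtain ⟨k, hk, l, hl, hkl⟩ : ∃ k ∈ K, ∃ l ∈ K, ¬ Commute k l := by
    by_contra hc
    push Not at hc
    have h3 := pair_count_oc h (inf_le_left : K ≤ oc z)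
    have h4 : Nat.card K ≤ Nat.card ↥(oc z ⊓ centralizer (K : Set G)) :=
      card_le_of_le fun x hx => ⟨hx.1, mem_centralizer_iff.2 fun q hq => (hc q hq x hx).eq⟩
    have h5 := Nat.mul_le_mul hK512 (hK512.trans h4)
    exact absurd (h5.trans h3) (by norm_num)
  have hzc : k * l * k⁻¹ * l⁻¹ = z := (h.comm k hk.1 l hl.1).resolve_left fun e =>
    hkl (mul_inv_eq_iff_eq_mul.1 (mul_inv_eq_one.1 e))
  have hzb : Commute z b := by
    have := comm_fix h (mem_cz_conj.1 hk.2) (mem_cz_conj.1 hl.2)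
    rw [show g⁻¹ * k * g * (g⁻¹ * l * g) * (g⁻¹ * k * g)⁻¹ * (g⁻¹ * l * g)⁻¹ =
      g⁻¹ * (k * l * k⁻¹ * l⁻¹) * g by group, hzc] at this
    refine (conj_commute_iff (g := g)).1 ?_
    rwa [show g⁻¹ * b * g = a by rw [hbdef]; group]
  have hbH : b ∈ centralizer ({z} : Set G) := mem_centralizer_singleton_iff.2 hzb.symm.eq
  have hay : Commute a y := ctr_comm (a_mem_ctr h) hy
  have hba : Commute b a := by
    by_contra hn
    have e := swaps h hbH hn
    have e1 : a * b * a⁻¹ = z * b := by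
      have e2 : b * a = a * z * b := mul_inv_eq_iff_eq_mul.1 e
      have e3 : a⁻¹ = a := inv_eq_of_mul_eq_one_right h.aa
      calc a * b * a⁻¹ = a * (b * a) := by rw [e3, mul_assoc]
        _ = z * b := by rw [e2, mul_assoc a z b, ← mul_assoc, h.aa, one_mul]
    rcases parity_conj h (g := g) (x := a) (mem_centralizer_singleton_iff.2 hay.eq) with e2 | e2
    · exact hn (commute_of_conj_eq e2).symm
    · rw [← hbdef, ← hydef, e1, hzb.eq] at e2
      exact hne (mul_left_cancel e2).symm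
  have hgH : g⁻¹ * z * g⁻¹⁻¹ ∈ centralizer ({z} : Set G) := by
    rw [inv_inv]; exact mem_cz_conj.1 hzy
  have hoc : ∀ x ∈ oc z, g⁻¹ * x * g ∈ oc (g⁻¹ * z * g⁻¹⁻¹) := fun x hx => by
    simpa using conj_mem_oc (g := g⁻¹) hx
  have hfl : ∀ x ∈ oc z, Commute x b → Commute x y := by
    intro x hx hxb
    have := fix_le h h.comm_za h1 hgH (by
      rw [inv_inv]
      have := (conj_commute_iff (g := g)).2 hzb
      rwa [show g⁻¹ * b * g = a by rw [hbdef]; group] at this) _ (hoc x hx) (by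
      have := (conj_commute_iff (g := g)).2 hxb
      rwa [show g⁻¹ * b * g = a by rw [hbdef]; group] at this)
    refine (conj_commute_iff (g := g)).1 ?_
    rwa [show g⁻¹ * y * g = z by rw [hydef]; group]
  have hfl2 : ∀ x ∈ oc z, Commute x (b * y) → Commute x y := by
    intro x hx hxb
    have he : g⁻¹ * (b * y) * g = a * z := by rw [hbdef, hydef]; group
    have := fix_le h (h.comm_za.mul_right (Commute.refl z))
      h2 hgH (by
      rw [inv_inv]
      have := (conj_commute_iff (g := g)).2 (hzb.mul_right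
        (mem_centralizer_singleton_iff.1 hzy : Commute z y))
      rwa [he] at this) _ (hoc x hx) (by
      have := (conj_commute_iff (g := g)).2 hxb
      rwa [he] at this)
    refine (conj_commute_iff (g := g)).1 ?_
    rwa [show g⁻¹ * y * g = z by rw [hydef]; group]
  refine ⟨⟨hbH, mem_centralizer_singleton_iff.2 hba.eq⟩, fun hbJ => ?_, hfl, ?_⟩
  · have hnc : ¬ ∀ x ∈ oc z, Commute y x := fun hc => hne (h.eq_z_of_central hc)
    push Not at hnc
    obtain ⟨x, hx, hxy⟩ := hnc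
    have hxy' : ¬ Commute x y := fun e => hxy e.symm
    have hxb : ¬ Commute x b := fun e => hxy' (hfl x hx e)
    refine hxy' (hfl2 x hx (commute_of_conj_eq ?_))
    have ey := (h.comm x hx y hy).resolve_left fun e =>
      hxy' (mul_inv_eq_iff_eq_mul.1 (mul_inv_eq_one.1 e))
    have eb := (h.comm x hx b hbJ).resolve_left fun e =>
      hxb (mul_inv_eq_iff_eq_mul.1 (mul_inv_eq_one.1 e))
    rw [mul_inv_eq_iff_eq_mul] at ey eb
    rw [← conjm, eb, ey, hzb.eq, mul_assoc, ← mul_assoc z, h.zz, one_mul]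
  · have h3 := card_le_two_mul K b y fun t ht => parity_conj h (g := g) ht.2
    have h4 : Nat.card ↥(K ⊓ centralizer ({b} : Set G)) ≤
        Nat.card ↥(oc z ⊓ centralizer ({b} : Set G)) :=
      card_le_of_le (inf_le_inf_right _ inf_le_left)
    omega

theorem false_of_fact (h : Hyp z a) (M : Mod2 C z a) (h1 : IsoIn z a) (h2 : IsoIn z (a * z)) {g : G}
    (hy : g * z * g⁻¹ ∈ oc z) (hne : g * z * g⁻¹ ≠ z)
    (hF : SwapFact C.gens C.l (M.rho (g * a * g⁻¹))) : False := by
  obtain ⟨hbd, -, hfl, h256⟩ := partner h h1 h2 hy hne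
  set y := g * z * g⁻¹ with hydef
  set b := g * a * g⁻¹ with hbdef
  set p := M.rho b with hp
  have hbb : b * b = 1 := by rw [hbdef, conjm, h.aa]; group
  have hbi : b⁻¹ = b := inv_eq_of_mul_eq_one_right hbb
  obtain ⟨X, hX, -, hperp⟩ := exists_perp h hbd.1 hbb
  have hCX : oc z ⊓ centralizer ({b} : Set G) ≤ X := fun x hx => by
    refine (hX x).2 ⟨hx.1, ?_⟩
    rw [mem_centralizer_singleton_iff.1 hx.2, mul_inv_cancel_right, hbb]
    exact one_mem _
  have hfix : ∀ x ∈ oc z, (x ∈ X ↔ app p (M.bar x) = M.bar x) := by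
    intro x hx
    rw [hp, ← M.rho_act b hbd x hx, eq_comm, bar_eq_ctr M h hx (oc_conj_mem hbd.1 hx), hX,
      and_iff_right hx, show x * b * x⁻¹ * b = x * (x⁻¹ * (b * x * b⁻¹))⁻¹ * x⁻¹ by
        conv_lhs => arg 2; rw [← hbi]
        group,
      ctr_conj_iff (oc_le z hx), inv_mem_iff]
  have hcX : ctr z ≤ X := fun x hx => (hfix x hx.1).2 (by
    rw [(M.bar_eq x hx.1).2 ((mem_ctr h).1 hx), app_zero])
  have hcard : Nat.card X = (fixL p).length * 4 := by
    rw [card_fibres M.bar X (ctr z) hcX fun s hs t ht =>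
      bar_eq_ctr M h ((hX s).1 hs).1 ((hX t).1 ht).1, card_ctr h]
    congr 1
    have e : M.bar '' (X : Set G) = ↑(fixL p).toFinset := by
      ext v
      simp only [Set.mem_image, SetLike.mem_coe, List.coe_toFinset, Set.mem_ofPred_eq, fixL,
        List.mem_filter, List.mem_range, Nat.beq_eq]
      constructor
      · rintro ⟨x, hx, rfl⟩
        exact ⟨M.bar_lt x, (hfix x ((hX x).1 hx).1).1 hx⟩
      · rintro ⟨hv, hvp⟩
        obtain ⟨x, hx, rfl⟩ := M.bar_surj v hv
        exact ⟨x, (hfix x hx).2 hvp, rfl⟩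
    rw [e, Set.ncard_coe_finset]
    exact List.toFinset_card_of_nodup (List.nodup_range.filter _)
  have hle := card_le_of_le hCX
  obtain ⟨h64, hmove⟩ := hF (show 64 ≤ (fixL p).length by omega)
  have hXC : oc z ⊓ centralizer ({b} : Set G) = X := eq_of_le_of_card_ge hCX (by omega)
  have hXb : ∀ x ∈ X, Commute x b := fun x hx =>
    mem_centralizer_singleton_iff.1 (hXC.symm ▸ hx : x ∈ oc z ⊓ centralizer ({b} : Set G)).2
  have hyb : Commute y b := by
    rw [hydef, hbdef]; exact (Commute.conj_iff g).2 h.comm_za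
  have hyX : y ∈ X := hCX ⟨hy, mem_centralizer_singleton_iff.2 hyb.eq⟩
  have hyl : M.bar y ∈ fixL p := by
    simp only [fixL, List.mem_filter, List.mem_range, Nat.beq_eq]
    exact ⟨M.bar_lt y, (hfix y hy).1 hyX⟩
  have hy0 : M.bar y ≠ 0 := fun e => hne (h.eq_z_of_central fun x hx =>
    ctr_comm ((mem_ctr h).2 ((M.bar_eq y hy).1 e)) hx)
  have hq0 : ∀ v ∈ fixL p, (∀ u ∈ fixL p, fv v u = false) → qv C.l v = false := by
    intro v hv hvp
    simp only [fixL, List.mem_filter, List.mem_range, Nat.beq_eq] at hv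
    obtain ⟨x, hx, rfl⟩ := M.bar_surj v hv.1
    obtain ⟨j, hj, c, hc, hxc⟩ := hperp x hx fun q hq => by
      have hq1 := ((hX q).1 hq).1
      refine (commute_of_conj_eq ?_).symm
      have h3 := M.comm x hx q hq1
      rw [hvp _ (by
        simp only [fixL, List.mem_filter, List.mem_range, Nat.beq_eq]
        exact ⟨M.bar_lt q, (hfix q hq1).1 hq⟩)] at h3
      exact mul_inv_eq_one.1 (by simpa using h3)
    set k := j * b * j⁻¹ * b with hk
    have hkJ : k ∈ oc z := by
      rw [show k = x * c⁻¹ by rw [hxc, mul_inv_cancel_right]]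
      exact mul_mem hx (inv_mem hc.1)
    have hkk : k * k = 1 := by
      have h4 : Commute x b := hXb x ((hfix x hx).2 hv.2)
      have h5 : Commute c b := by
        rcases (mem_ctr h).1 hc with rfl | rfl | rfl | rfl
        · exact Commute.one_left b
        · exact Commute.symm (mem_centralizer_singleton_iff.1 hbd.1)
        · exact Commute.symm (mem_centralizer_singleton_iff.1 hbd.2)
        · exact Commute.symm (Commute.mul_right (mem_centralizer_singleton_iff.1 hbd.2)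
            (mem_centralizer_singleton_iff.1 hbd.1))
      have h6 : Commute k b := by
        rw [show k = x * c⁻¹ by rw [hxc, mul_inv_cancel_right]]
        exact h4.mul_left h5.inv_left
      have h7 : b * k * b = k⁻¹ := by rw [hk]; simp [mul_assoc, hbi, hbb]
      rw [← h6.eq, mul_assoc, hbb, mul_one] at h7
      conv_lhs => arg 2; rw [h7]
      rw [mul_inv_cancel]
    have h8 : x * x = 1 := by
      rw [hxc, (ctr_comm hc hkJ).mul_mul_mul_comm, hkk, sq_ctr h hc, one_mul]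
    have h9 := M.sq x hx
    rw [h8] at h9
    cases hf : qv C.l (M.bar x) with
    | false => rfl
    | true => rw [hf] at h9; exact absurd h9.symm (ne_one h)
  obtain ⟨d, hd, hdp, hdv, hd3⟩ := hmove hq0 _ hyl hy0 fun u hu => by
    simp only [fixL, List.mem_filter, List.mem_range, Nat.beq_eq] at hu
    obtain ⟨x, hx, rfl⟩ := M.bar_surj u hu.1
    have hxy := (hfl x hx (hXb x ((hfix x hx).2 hu.2))).symm
    have hc := M.comm y hy x hx
    rw [hxy.eq, mul_inv_cancel_right, mul_inv_cancel] at hc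
    cases hf : fv (M.bar y) (M.bar x) with
    | false => rfl
    | true => rw [hf] at hc; exact absurd hc.symm (ne_one h)
  obtain ⟨h0, hh0, rfl⟩ := exists_rho M h hd
  -- the commutator of the lift with `b`
  set e := h0 * b * h0⁻¹ * b⁻¹ with he
  have heJ : e ∈ oc z := by
    have h3 : (b * h0)⁻¹ * (h0 * b) ∈ oc z := by
      refine (rho_inj M h (mul_mem hbd hh0) (mul_mem hh0 hbd)).1 ?_
      rw [M.rho_mul b hbd h0 hh0, M.rho_mul h0 hh0 b hbd, ← hp, hdp]
    have h4 := oc_conj_mem (mul_mem hbd.1 hh0.1) h3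
    rw [he]
    convert h4 using 1
    group
  have hbe : h0 * b * h0⁻¹ = e * b := by rw [he]; group
  obtain ⟨j, hj, c, hc, hjc⟩ := hperp e heJ fun x hx => by
    have hx1 := ((hX x).1 hx).1
    have hxb := hXb x hx
    set x' := h0⁻¹ * x * h0 with hx'
    have hx'J : x' ∈ oc z := by
      have := oc_conj_mem (inv_mem hh0.1) hx1
      rwa [inv_inv] at this
    have hx'X : x' ∈ X := by
      refine (hX x').2 ⟨hx'J, (ctr_conj_iff hh0.1).1 ?_⟩
      have e1 : h0 * (x' * b * x'⁻¹ * b) * h0⁻¹ = x * e * (b * x⁻¹ * b⁻¹) * e⁻¹ := by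
        calc h0 * (x' * b * x'⁻¹ * b) * h0⁻¹ = h0 * (x' * b * x'⁻¹ * b⁻¹) * h0⁻¹ := by rw [hbi]
          _ = x * (h0 * b * h0⁻¹) * x⁻¹ * (h0 * b * h0⁻¹)⁻¹ := by rw [hx']; group
          _ = _ := by rw [hbe]; group
      rw [e1, conj_eq_of_commute hxb.symm.inv_right]
      rcases h.comm x hx1 e heJ with e2 | e2 <;> rw [e2]
      exacts [one_mem _, z_mem_ctr h]
    have h5 : Commute x (h0 * b * h0⁻¹) := by
      have := (Commute.conj_iff h0).2 (hXb x' hx'X)
      rwa [show h0 * x' * h0⁻¹ = x by rw [hx']; group] at this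
    rw [hbe] at h5
    have := h5.mul_right hxb.inv_right
    rwa [mul_inv_cancel_right] at this
  have hcb : Commute b c := by
    rcases (mem_ctr h).1 hc with rfl | rfl | rfl | rfl
    · exact Commute.one_right b
    · exact mem_centralizer_singleton_iff.1 hbd.1
    · exact mem_centralizer_singleton_iff.1 hbd.2
    · exact Commute.mul_right (mem_centralizer_singleton_iff.1 hbd.2)
        (mem_centralizer_singleton_iff.1 hbd.1)
  set gg := j⁻¹ * h0 with hgg
  have hggd : gg ∈ centralizer ({z} : Set G) ⊓ centralizer ({a} : Set G) :=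
    mul_mem (dom_of_oc h (inv_mem hj)) hh0
  have hrho : M.rho gg = M.rho h0 := by
    rw [hgg, M.rho_mul _ (dom_of_oc h (inv_mem hj)) _ hh0, rho_of_oc M h (inv_mem hj),
      idm_cmp (M.rho_code h0)]
  have hggb : gg * b * gg⁻¹ = b * c := by
    have e1 : h0 * b * h0⁻¹ = j * b * j⁻¹ * c := by
      rw [hbe, hjc, mul_assoc (j * b * j⁻¹ * b), ← hcb.eq, ← mul_assoc,
        mul_assoc (j * b * j⁻¹) b b, hbb, mul_one]
    calc gg * b * gg⁻¹ = j⁻¹ * (h0 * b * h0⁻¹) * j := by rw [hgg]; group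
      _ = b * (j⁻¹ * (c * j)) := by rw [e1]; group
      _ = b * c := by rw [(ctr_comm hc hj).eq, inv_mul_cancel_left]
  have hggc : gg * c * gg⁻¹ = c := by
    refine conj_eq_of_commute ?_
    rcases (mem_ctr h).1 hc with rfl | rfl | rfl | rfl
    · exact Commute.one_right gg
    · exact mem_centralizer_singleton_iff.1 hggd.1
    · exact mem_centralizer_singleton_iff.1 hggd.2
    · exact Commute.mul_right (mem_centralizer_singleton_iff.1 hggd.2)
        (mem_centralizer_singleton_iff.1 hggd.1)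
  have hc1 : c = 1 := by
    set k := gg * (gg * gg) with hk
    have hkJ : k ∈ oc z := by
      refine (M.rho_ker k (mul_mem hggd (mul_mem hggd hggd))).1 ?_
      rw [hk, M.rho_mul gg hggd _ (mul_mem hggd hggd), M.rho_mul gg hggd gg hggd, hrho, hd3]
    have hkb : k * b * k⁻¹ = b * c := by
      calc k * b * k⁻¹ = gg * (gg * (gg * b * gg⁻¹) * gg⁻¹) * gg⁻¹ := by rw [hk]; group
        _ = b * c := by
            rw [hggb, ← conjm gg b c, hggb, hggc, mul_assoc b c c, sq_ctr h hc, mul_one, hggb]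
    have hkX : k ∈ X := by
      refine (hX k).2 ⟨hkJ, ?_⟩
      rw [hkb, hcb.eq, mul_assoc, hbb, mul_one]
      exact hc
    have := conj_eq_of_commute (hXb k hkX)
    rw [hkb] at this
    exact mul_eq_left.1 this
  have hcom : Commute gg b := commute_of_conj_eq (by rw [hggb, hc1, mul_one])
  have hy'b : Commute (gg * y * gg⁻¹) b := by
    have := (Commute.conj_iff gg).2 hyb
    rwa [conj_eq_of_commute hcom] at this
  have hy'y := hfl _ (oc_conj_mem hggd.1 hy) hy'b
  have hg0 : g⁻¹ * gg * g * z * (g⁻¹ * gg * g)⁻¹ = g⁻¹ * (gg * y * gg⁻¹) * g := by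
    rw [hydef]; group
  have h6 := h1 (g⁻¹ * gg * g) (by
    have := (conj_commute_iff (g := g)).2 hcom
    rwa [show g⁻¹ * b * g = a by rw [hbdef]; group] at this) (by
    rw [hg0]
    have := (conj_commute_iff (g := g)).2 hy'y
    rwa [show g⁻¹ * y * g = z by rw [hydef]; group] at this)
  refine hdv ?_
  rw [← hrho, ← M.rho_act gg hggd y hy]
  congr 1
  rw [hg0] at h6
  calc gg * y * gg⁻¹ = g * (g⁻¹ * (gg * y * gg⁻¹) * g) * g⁻¹ := by group
    _ = y := by rw [h6]

end Swap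

open Swap in
/-- No conjugate of `z` in `oc z` but `z`. -/
theorem eq_of_mem_swap (h : Hyp z a) (_hnf : ¬ Fixed z a) {c : List ℕ × ℕ} (hc : c ∈ innerCfgs)
    (M : Mod2 ⟨c.1, c.2⟩ z a) (h1 : IsoIn z a) (h2 : IsoIn z (a * z)) (g : G)
    (hy : g * z * g⁻¹ ∈ oc z) : g * z * g⁻¹ = z := by
  by_contra hne
  obtain ⟨hbd, hbJ, -⟩ := partner h h1 h2 hy hne
  set b := g * a * g⁻¹ with hbdef
  have hbb : b * b = 1 := by rw [hbdef, conjm, h.aa]; group
  obtain ⟨p, m, hcode, hm, e, hF⟩ := exists_swapFact hc (M.rho_gen b hbd)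
    (fun e => hbJ ((M.rho_ker b hbd).1 e))
    (by rw [← M.rho_mul b hbd b hbd, hbb, rho_of_oc M h (one_mem _)])
  obtain ⟨h0, hh0, rfl⟩ := exists_rho M h hm
  have hg1 : h0⁻¹ * g * z * (h0⁻¹ * g)⁻¹ = h0⁻¹ * (g * z * g⁻¹) * h0⁻¹⁻¹ := by group
  refine false_of_fact h M h1 h2 (g := h0⁻¹ * g) (hg1 ▸ oc_conj_mem (inv_mem hh0.1) hy) ?_ ?_
  · rw [hg1]
    intro e'
    apply hne
    calc g * z * g⁻¹ = h0 * (h0⁻¹ * (g * z * g⁻¹) * h0⁻¹⁻¹) * h0⁻¹ := by group
      _ = h0 * z * h0⁻¹ := by rw [e']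
      _ = z := by rw [mem_centralizer_singleton_iff.1 hh0.1, mul_inv_cancel_right]
  · rw [show h0⁻¹ * g * a * (h0⁻¹ * g)⁻¹ = h0⁻¹ * (b * h0) by rw [hbdef]; group,
      M.rho_mul _ (inv_mem hh0) _ (mul_mem hbd hh0), M.rho_mul b hbd h0 hh0, e, ← cmp_assoc,
      ← M.rho_mul _ (inv_mem hh0) h0 hh0, inv_mul_cancel, rho_of_oc M h (one_mem _)]
    rw [idm_cmp hcode]
    exact hF

end Cfsg.Agent.Fi22Two
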