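import Cfsg.Agent.Fi22Two.Conj
import Cfsg.Agent.Fi22Two.SwapMain
import Cfsg.Agent.Fi22Two.IsolatedTriple

/-!
# A twisted triple is impossible

An element over the map of order three can be chosen to centralise the first involution; it then
either centralises the second one or moves `z` to a conjugate whose product with `z` has a
non-trivial two-part, against isolation.
-/

set_option autoImplicit false

open Cfsg Subgroup

namespace Cfsg.Agent.Fi22Two

open Cfsg.Agent.LargeExtra Cfsg.Agent.U62Rec Swap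

variable {G : Type*} [Group G] [Finite G] {z a : G}

/-- If `z` is isolated in `C u`, its product with a conjugate under `C u` has odd order. -/
theorem odd_orderOf_mul_iso {u d : G} (hz : z * z = 1) (hzu : Commute z u) (hiso : IsoIn z u)
    (hd : Commute d u) : Odd (orderOf (d * z * d⁻¹ * z)) := by
  set t := d * z * d⁻¹ * z with ht
  rcases Nat.even_or_odd (orderOf t) with ⟨m, hm⟩ | ho
  swap
  · exact ho
  exfalso
  have hn : 0 < orderOf t := orderOf_pos t
  have hm1 : t ^ m ≠ 1 := pow_ne_one_of_lt_orderOf (by omega) (by omega)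
  have hm2 : t ^ m * t ^ m = 1 := by rw [← pow_add, ← hm, pow_orderOf_eq_one]
  have hzi : z⁻¹ = z := inv_eq_of_mul_eq_one_right hz
  have hzt : z * t * z⁻¹ = t⁻¹ := by
    rw [ht]; simp [mul_assoc, hzi, hz]
  have hzp : ∀ k : ℕ, z * t ^ k = (t ^ k)⁻¹ * z := by
    intro k
    have := map_pow (MulAut.conj z) t k
    simp only [MulAut.conj_apply, hzt, inv_pow] at this
    rw [← this, inv_mul_cancel_right]
  have hcomm : Commute (t ^ m * z) z := by
    show t ^ m * z * z = z * (t ^ m * z)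
    rw [← mul_assoc z, hzp m, inv_eq_of_mul_eq_one_right hm2]
  have htu : Commute t u :=
    (((hd.mul_left hzu).mul_left hd.inv_left).mul_left hzu)
  have hconj : ∃ s, Commute s u ∧ s * z * s⁻¹ = t ^ m * z := by
    rcases Nat.even_or_odd' m with ⟨k, hk | hk⟩
    · refine ⟨t ^ k, htu.pow_left k, ?_⟩
      calc t ^ k * z * (t ^ k)⁻¹ = t ^ k * (z * (t ^ k)⁻¹) := mul_assoc _ _ _
        _ = t ^ m * z := by
          have h1 : z * (t ^ k)⁻¹ = t ^ k * z := by
            rw [mul_inv_eq_iff_eq_mul, mul_assoc, hzp k, mul_inv_cancel_left]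
          rw [h1, ← mul_assoc, ← pow_add, hk, two_mul]
    · refine ⟨t ^ k * d, (htu.pow_left k).mul_left hd, ?_⟩
      have h1 : z * (t ^ k)⁻¹ = t ^ k * z := by
        rw [mul_inv_eq_iff_eq_mul, mul_assoc, hzp k, mul_inv_cancel_left]
      calc t ^ k * d * z * (t ^ k * d)⁻¹ = t ^ k * (d * z * d⁻¹) * (t ^ k)⁻¹ := by group
        _ = t ^ k * (t * z) * (t ^ k)⁻¹ := by rw [ht, mul_assoc (d * z * d⁻¹) z z, hz, mul_one]
        _ = t ^ k * t * (z * (t ^ k)⁻¹) := by group
        _ = t ^ m * z := by rw [h1, hk, two_mul, pow_succ, pow_add]; group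
  obtain ⟨s, hsu, hs⟩ := hconj
  have := hiso s hsu (hs ▸ hcomm)
  rw [hs] at this
  exact hm1 (mul_eq_right.1 this)

/-- The twisted case of the check does not occur. -/
theorem twisted_absurd (h : Hyp z a) (hia : IsoIn z a) (hib : IsoIn z (a * z)) {C : Cfg} {w b : G}
    (hw : Hyp w b) (N : Mod2 C w b)
    (hz : z ∈ centralizer ({w} : Set G) ⊓ centralizer ({b} : Set G))
    (ha : a ∈ centralizer ({w} : Set G) ⊓ centralizer ({b} : Set G)) {U : List ℕ}
    (hU : ∀ y ∈ oc w, N.bar y ∈ U → Commute y z ∧ Commute y a) {u v : G}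
    (hu : u = z ∨ u = a ∨ u = a * z) (hv : v = z ∨ v = a ∨ v = a * z)
    (hT : Twisted C (N.rho u) (N.rho v) U) : False := by
  obtain ⟨hfixU, c, hcg, hc3, hcq, hy1, hy4⟩ := hT
  have hdom : ∀ x, x = z ∨ x = a ∨ x = a * z →
      x ∈ centralizer ({w} : Set G) ⊓ centralizer ({b} : Set G) ∧ x * x = 1 ∧ Commute x z ∧
        ∀ y, Commute y z → Commute y a → Commute y x := by
    rintro x (rfl | rfl | rfl)
    · exact ⟨hz, h.zz, Commute.refl _, fun y h1 _ => h1⟩
    · exact ⟨ha, h.aa, h.comm_za.symm, fun y _ h2 => h2⟩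
    · exact ⟨mul_mem ha hz, by rw [h.comm_za.mul_mul_mul_comm, h.aa, h.zz, one_mul],
        h.comm_za.symm.mul_left (Commute.refl z), fun y h1 h2 => h2.mul_right h1⟩
  obtain ⟨hud, huu, huz, hcu⟩ := hdom u hu
  obtain ⟨hvd, hvv, hvz, hcv⟩ := hdom v hv
  obtain ⟨d, hd, rfl⟩ := exists_rho N hw hcg
  set q := N.rho u with hq
  -- vectors fixed by `q` lie over elements centralising `z` and `a`
  have hfixC : ∀ y ∈ oc w, app q (N.bar y) = N.bar y → Commute y z ∧ Commute y a :=
    fun y hy hyq => hU y hy (hfixU _ (N.bar_lt y) hyq).1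
  set e := d * u * d⁻¹ * u⁻¹ with he
  have heJ : e ∈ oc w := by
    have h3 : (u * d)⁻¹ * (d * u) ∈ oc w := by
      refine (rho_inj N hw (mul_mem hud hd) (mul_mem hd hud)).1 ?_
      rw [N.rho_mul u hud d hd, N.rho_mul d hd u hud, ← hq, hcq]
    have h4 := oc_conj_mem (mul_mem hud.1 hd.1) h3
    rw [he]
    convert h4 using 1
    group
  have hui : u⁻¹ = u := inv_eq_of_mul_eq_one_right huu
  have hefix : app q (N.bar e) = N.bar e := by
    rw [hq, ← N.rho_act u hud e heJ, ← bar_inv N heJ]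
    congr 1
    rw [he]; simp [mul_assoc, hui, huu]
  obtain ⟨x0, hx0, hx0e⟩ := (hfixU _ (N.bar_lt e) hefix).2
  obtain ⟨j, hj, rfl⟩ := N.bar_surj x0 hx0
  have huj : u * j * u⁻¹ ∈ oc w := oc_conj_mem hud.1 hj
  rw [hq, ← N.rho_act u hud j hj, ← bar_inv N huj, ← N.bar_mul _ (inv_mem huj) _ hj] at hx0e
  have hbb : N.bar e = N.bar (j * (u * j * u⁻¹)⁻¹) := by
    rw [N.bar_mul _ hj _ (inv_mem huj), ← hx0e, N.bar_mul _ (inv_mem huj) _ hj, Nat.xor_comm]
  set c0 := (j * (u * j * u⁻¹)⁻¹)⁻¹ * e with hc0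
  have hc0m : c0 ∈ ctr w :=
    (bar_eq_ctr N hw (mul_mem hj (inv_mem huj)) heJ).1 hbb.symm
  have hdu : d * u * d⁻¹ = j * u * j⁻¹ * c0 := by
    have e1 : d * u * d⁻¹ = j * (u * j * u⁻¹)⁻¹ * (c0 * u) := by rw [hc0, he]; group
    have hcu0 : Commute c0 u := by
      rcases (mem_ctr hw).1 hc0m with e2 | e2 | e2 | e2 <;> rw [e2]
      · exact Commute.one_left u
      · exact (mem_centralizer_singleton_iff.1 hud.1 : u * w = w * u).symm
      · exact (mem_centralizer_singleton_iff.1 hud.2 : u * b = b * u).symm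
      · exact (Commute.mul_right (mem_centralizer_singleton_iff.1 hud.2)
          (mem_centralizer_singleton_iff.1 hud.1)).symm
    rw [e1, hcu0.eq, ← mul_assoc]
    congr 1
    group
  set gg := j⁻¹ * d with hgg
  have hjd := dom_of_oc hw (inv_mem hj)
  have hggd : gg ∈ centralizer ({w} : Set G) ⊓ centralizer ({b} : Set G) := mul_mem hjd hd
  have hrho : N.rho gg = N.rho d := by
    rw [hgg, N.rho_mul _ hjd _ hd, rho_of_oc N hw (inv_mem hj), idm_cmp (N.rho_code d)]
  have hggu : gg * u * gg⁻¹ = u * c0 := by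
    calc gg * u * gg⁻¹ = j⁻¹ * (d * u * d⁻¹) * j := by rw [hgg]; group
      _ = u * (j⁻¹ * (c0 * j)) := by rw [hdu]; group
      _ = u * c0 := by rw [(ctr_comm hc0m hj).eq, inv_mul_cancel_left]
  have hggc : gg * c0 * gg⁻¹ = c0 := by
    refine conj_eq_of_commute ?_
    rcases (mem_ctr hw).1 hc0m with e2 | e2 | e2 | e2 <;> rw [e2]
    · exact Commute.one_right gg
    · exact mem_centralizer_singleton_iff.1 hggd.1
    · exact mem_centralizer_singleton_iff.1 hggd.2
    · exact Commute.mul_right (mem_centralizer_singleton_iff.1 hggd.2)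
        (mem_centralizer_singleton_iff.1 hggd.1)
  set k := gg * (gg * gg) with hk
  have hkJ : k ∈ oc w := by
    refine (N.rho_ker k (mul_mem hggd (mul_mem hggd hggd))).1 ?_
    rw [hk, N.rho_mul gg hggd _ (mul_mem hggd hggd), N.rho_mul gg hggd gg hggd, hrho, hc3]
  have hku : k * u * k⁻¹ = u * c0 := by
    calc k * u * k⁻¹ = gg * (gg * (gg * u * gg⁻¹) * gg⁻¹) * gg⁻¹ := by rw [hk]; group
      _ = u * c0 := by
        rw [hggu, ← conjm gg u c0, hggu, hggc, mul_assoc u c0 c0, sq_ctr hw hc0m, mul_one, hggu]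
  have hkq : app q (N.bar k) = N.bar k := by
    rw [hq, ← N.rho_act u hud k hkJ, eq_comm, bar_eq_ctr N hw hkJ (oc_conj_mem hud.1 hkJ)]
    have e1 : k⁻¹ * (u * k * u⁻¹) = k⁻¹ * (k * u * k⁻¹ * u⁻¹)⁻¹ * k := by group
    have e2 : k * u * k⁻¹ * u⁻¹ ∈ ctr w := by
      rw [hku]
      exact ctr_norm hud.1 hc0m
    rw [e1]
    have := ctr_norm (oc_le w (inv_mem hkJ)) (inv_mem e2)
    rwa [inv_inv] at this
  obtain ⟨hkz, hka⟩ := hfixC k hkJ hkq
  have hc01 : c0 = 1 := by
    have := conj_eq_of_commute (hcu k hkz hka)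
    rw [hku] at this
    exact mul_eq_left.1 this
  have hgu : Commute gg u := commute_of_conj_eq (by rw [hggu, hc01, mul_one])
  -- the map moving the second involution
  set t := gg * v * gg⁻¹ * v with ht
  have htd : t ∈ centralizer ({w} : Set G) ⊓ centralizer ({b} : Set G) :=
    mul_mem (mul_mem (mul_mem hggd hvd) (inv_mem hggd)) hvd
  have htrho : N.rho t = U62Rec.cmp (U62Rec.cmp (U62Rec.cmp (N.rho d) (N.rho v))
      (U62Rec.cmp (N.rho d) (N.rho d))) (N.rho v) := by
    have hinv : N.rho gg⁻¹ = U62Rec.cmp (N.rho gg) (N.rho gg) := by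
      calc N.rho gg⁻¹ = U62Rec.cmp (N.rho gg⁻¹)
            (U62Rec.cmp (N.rho gg) (U62Rec.cmp (N.rho gg) (N.rho gg))) := by
            rw [hrho, hc3, cmp_idm (N.rho_code _)]
        _ = _ := by
            rw [← cmp_assoc, ← N.rho_mul _ (inv_mem hggd) gg hggd, inv_mul_cancel,
              rho_of_oc N hw (one_mem _), idm_cmp (isCode_cmp _ _)]
    rw [ht, N.rho_mul _ (mul_mem (mul_mem hggd hvd) (inv_mem hggd)) v hvd,
      N.rho_mul _ (mul_mem hggd hvd) _ (inv_mem hggd), N.rho_mul gg hggd v hvd, hinv, hrho]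
  rw [← htrho] at hy1 hy4
  have ht1 : ¬ t ∈ oc w := fun e2 => hy1 (rho_of_oc N hw e2)
  have ht4 : t * t * (t * t) ∈ oc w := (N.rho_ker _ (mul_mem (mul_mem htd htd) (mul_mem htd htd))).1
    (by rw [N.rho_mul _ (mul_mem htd htd) _ (mul_mem htd htd), N.rho_mul t htd t htd]; exact hy4)
  have hfixv : Commute gg v → False := fun e2 => ht1 (by
    rw [ht, conj_eq_of_commute e2, hvv]; exact one_mem _)
  by_cases huzz : u = z
  · refine hfixv (hcv gg (huzz ▸ hgu) ?_)
    have hgz : gg ∈ centralizer ({z} : Set G) := mem_centralizer_singleton_iff.2 (huzz ▸ hgu).eq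
    by_contra hn
    have e2 := swaps h hgz hn
    have hgzz : gg * z * gg⁻¹ = z := conj_eq_of_commute (huzz ▸ hgu)
    have e3 : k * a * k⁻¹ = a * z := by
      calc k * a * k⁻¹ = gg * (gg * (gg * a * gg⁻¹) * gg⁻¹) * gg⁻¹ := by rw [hk]; group
        _ = a * z := by
          rw [e2, ← conjm gg a z, e2, hgzz, mul_assoc a z z, h.zz, mul_one, e2]
    rw [conj_eq_of_commute hka] at e3
    exact ne_one h (mul_eq_left.1 e3.symm)
  · have hiso : IsoIn z u := by
      rcases hu with e2 | e2 | e2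
      · exact absurd e2 huzz
      all_goals rw [e2]; assumption
    set t' := gg * z * gg⁻¹ * z with ht'
    have hteq : t = t' := by
      have hgcu : gg * u * gg⁻¹ = u := conj_eq_of_commute hgu
      have ha' : a⁻¹ = a := inv_eq_of_mul_eq_one_right h.aa
      rcases hv with e2 | e2 | e2
      · rw [ht, ht', e2]
      all_goals
        rcases hu with e3 | e3 | e3
        · exact absurd e3 huzz
        all_goals first
          | exact absurd (hfixv (e2 ▸ e3 ▸ hgu)) id
          | skip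
      · -- `v = a`, `u = a z`
        have hzu : Commute z u := huz.symm
        have hva : v = u * z := by rw [e2, e3, mul_assoc, h.zz, mul_one]
        rw [ht, ht', hva, ← conjm, hgcu, mul_assoc u (gg * z * gg⁻¹), ← mul_assoc (gg * z * gg⁻¹)]
        have hcom : Commute u (gg * z * gg⁻¹ * u * z) := by
          have : Commute u (gg * z * gg⁻¹) := by
            have := (Commute.conj_iff gg).2 huz
            rwa [hgcu] at this
          exact (this.mul_right (Commute.refl u)).mul_right huz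
        rw [hcom.eq, mul_assoc _ z u, hzu.eq, ← mul_assoc, mul_assoc _ u u, huu, mul_one]
      · -- `v = a z`, `u = a`
        have hva : v = u * z := by rw [e2, e3]
        rw [ht, ht', hva, ← conjm, hgcu, mul_assoc u (gg * z * gg⁻¹), ← mul_assoc (gg * z * gg⁻¹)]
        have hcom : Commute u (gg * z * gg⁻¹ * u * z) := by
          have : Commute u (gg * z * gg⁻¹) := by
            have := (Commute.conj_iff gg).2 huz
            rwa [hgcu] at this
          exact (this.mul_right (Commute.refl u)).mul_right huz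
        rw [hcom.eq, mul_assoc _ z u, huz.symm.eq, ← mul_assoc, mul_assoc _ u u, huu, mul_one]
    have hodd := odd_orderOf_mul_iso h.zz huz.symm hiso hgu
    rw [← ht', ← hteq] at hodd
    apply ht1
    obtain ⟨i, hi⟩ := exists_pow_eq_self_of_coprime (x := t) (n := 4)
      ((Nat.coprime_two_left.2 hodd).pow_left 2)
    rw [← hi]
    refine pow_mem ?_ i
    rw [show t ^ 4 = t * t * (t * t) by simp [pow_succ, mul_assoc]]
    exact ht4

/-- Isolation is carried by conjugation. -/
theorem IsoIn.conj {u : G} (hiso : IsoIn z u) (g : G) :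
    IsoIn (g * z * g⁻¹) (g * u * g⁻¹) := by
  intro s hs hcz
  have e : s * (g * z * g⁻¹) * s⁻¹ = g * (g⁻¹ * s * g * z * (g⁻¹ * s * g)⁻¹) * g⁻¹ := by group
  rw [e] at hcz ⊢
  rw [hiso _ (commute_back.1 hs) ((Commute.conj_iff g).1 hcz)]

/-- The twisted case does not occur for a commuting pair of conjugates. -/
theorem Good.not_twisted {g : G} (h : Standing z a) (P : Good z a g) {C : Cfg} (M : Mod2 C z a)
    {u v : G} (hu : Tr z a g u) (hv : Tr z a g v) :
    ¬ Twisted C (M.rho u) (M.rho v) (ulist M g) := by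
  have eaz : g * (a * z) * g⁻¹ = g * a * g⁻¹ * (g * z * g⁻¹) := (conjm g a z).symm
  have hib : IsoIn (g * z * g⁻¹) (g * a * g⁻¹ * (g * z * g⁻¹)) := eaz ▸ h.iso_az.conj g
  unfold Tr at hu hv
  rw [eaz] at hu hv
  refine twisted_absurd (h.hyp.conj g) (h.iso_a.conj g) hib h.hyp M (P.tr_mem h (Or.inl rfl))
    (P.tr_mem h (Or.inr (Or.inl rfl))) (fun y hy hyU => ?_) hu hv
  exact ⟨Iso.com_eq_one.1 ((P.mem_u_iff h M (Or.inl rfl) hy).1 hyU) |>.symm,
    Iso.com_eq_one.1 ((P.mem_u_iff h M (Or.inr (Or.inl rfl)) hy).1 hyU) |>.symm⟩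

end Cfsg.Agent.Fi22Two
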