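import Cfsg.Agent.AutPSp.Aut
import Cfsg.Agent.U62Rec.Setup

/-!
# The 2-rank of the automorphism group of `PSp₄(3)`

A Sylow 2-subgroup comes from pairs of elements of the semidihedral group of order 16 in `GL₂(3)` with equal
determinants, and the exchange of the two planes. In it only three involutions commute with more than 30.
-/

set_option autoImplicit false
set_option maxRecDepth 100000

open Matrix Subgroup Cfsg.Agent.AutPSp

namespace Cfsg.Agent.Fi22Two.Rank

local notation "Z3" => ZMod 3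
local notation "M4" => Matrix (Fin 2 ⊕ Fin 2) (Fin 2 ⊕ Fin 2) (ZMod 3)

local instance : Fact (Nat.Prime 3) := ⟨by norm_num⟩

/-- The sixteen matrices. -/
def m2 : Fin 16 → Matrix (Fin 2) (Fin 2) Z3 :=
  ![!![0, 1; 2, 0], !![0, 2; 1, 0], !![1, 0; 0, 1], !![1, 1; 1, 2],
    !![1, 2; 2, 2], !![2, 0; 0, 2], !![2, 1; 1, 1], !![2, 2; 2, 1],
    !![0, 1; 1, 0], !![0, 2; 2, 0], !![1, 0; 0, 2], !![1, 1; 2, 1],
    !![1, 2; 1, 1], !![2, 0; 0, 1], !![2, 1; 2, 2], !![2, 2; 1, 2]]

/-- A nibble. -/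
def nib (n : ℕ) (k : ℕ) : Fin 16 := Fin.ofNat 16 (n >>> (4 * k))

/-- Products. -/
def tm (a b : Fin 16) : Fin 16 :=
  nib 0x15420637d8b9afec503127649dca8ebf34267501bcaefd89217053468aed9cfb02651473a9f8dbce76543210fedcba9863174025cf8be9da47036152eb9fc8ad9dca8ebf50312764d8b9afec15420637bcaefd8934267501a9f8dbce026514738aed9cfb21705346fedcba9876543210eb9fc8ad47036152cf8be9da63174025
    (16 * a.val + b.val)

/-- Negatives. -/
def ng (a : Fin 16) : Fin 16 := nib 0xbcaefd8934267501 a.val

/-- Inverses. -/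
def ii (a : Fin 16) : Fin 16 := nib 0xcbdfea9834567201 a.val

theorem tm_spec : ∀ a b, m2 (tm a b) = m2 a * m2 b := by decide +kernel

/-- A code: whether the planes are exchanged and the two blocks. -/
abbrev El := Bool × Fin 16 × Fin 16

/-- The blocks have the same determinant. -/
def ok (e : El) : Bool := decide (e.2.1.val < 8 ↔ e.2.2.val < 8)

/-- The product of codes. -/
def mulc : El → El → El
  | (s, a, b), (t, c, d) => (s != t, tm a (if s then d else c), tm b (if s then c else d))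

/-- The inverse code. -/
def invc : El → El
  | (s, a, b) => (s, if s then ii b else ii a, if s then ii a else ii b)

/-- The code of one. -/
def onec : El := (false, 2, 2)

/-- A code of a scalar. -/
def kerc (e : El) : Bool := e == onec || e == (false, 5, 5)

/-- Two codes commute up to sign. -/
def commc (x y : El) : Bool := kerc (mulc (invc (mulc x y)) (mulc y x))

/-- The codes. -/
def els : List El :=
  ([false, true].flatMap fun s => (List.finRange 16).flatMap fun a =>
    (List.finRange 16).map fun b => (s, a, b)).filter ok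

/-- One code of each class modulo sign. -/
def reps : List El :=
  els.filter fun e => decide (e.2.1.val < (ng e.2.1).val)

/-- The involutions. -/
def invs : List El := reps.filter fun e => kerc (mulc e e) && !kerc e

theorem reps_len : reps.length = 128 := by decide +kernel

theorem reps_inj : ∀ x ∈ reps, ∀ y ∈ reps, kerc (mulc (invc x) y) = true → x = y := by decide +kernel

theorem reps_cover : ∀ e ∈ els, ∃ r ∈ reps, kerc (mulc (invc r) e) = true := by decide +kernel

theorem els_closed : ∀ x ∈ els, ∀ y ∈ els, mulc x y ∈ els := by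
  have h : ∀ e : El, ok e = true → e ∈ els := by decide +kernel
  have h2 : ∀ a b : Fin 16, ((tm a b).val < 8 ↔ (a.val < 8 ↔ b.val < 8)) := by decide +kernel
  intro x hx y hy
  refine h _ ?_
  obtain ⟨s, a, b⟩ := x
  obtain ⟨t, c, d⟩ := y
  have ha := (List.mem_filter.1 hx).2
  have hc := (List.mem_filter.1 hy).2
  simp only [ok, decide_eq_true_eq] at ha hc ⊢
  cases s <;> simp only [mulc, Bool.false_eq_true, if_false, if_true, h2] <;> tauto

theorem els_inv : ∀ x ∈ els, invc x ∈ els ∧ mulc (invc x) x = onec ∧ mulc x (invc x) = onec := by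
  decide +kernel

/-- Only three involutions commute with more than 30. -/
theorem few : (invs.filter fun x => decide (31 ≤ (invs.filter fun y => commc x y).length)).length ≤ 3 := by
  decide +kernel

/-- Two blocks on the planes `(e₁, f₁)` and `(e₂, f₂)`. -/
def pairM (A B : Matrix (Fin 2) (Fin 2) Z3) : M4 :=
  Matrix.fromBlocks !![A 0 0, 0; 0, B 0 0] !![A 0 1, 0; 0, B 0 1] !![A 1 0, 0; 0, B 1 0]
    !![A 1 1, 0; 0, B 1 1]

/-- The exchange of the planes. -/
def swM : M4 := Matrix.fromBlocks !![0, 1; 1, 0] 0 0 !![0, 1; 1, 0]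

theorem pairM_mul (A B C D : Matrix (Fin 2) (Fin 2) Z3) :
    pairM A B * pairM C D = pairM (A * C) (B * D) := by
  ext i j
  rcases i with i | i <;> rcases j with j | j <;> fin_cases i <;> fin_cases j <;>
    simp [pairM, Matrix.mul_apply, Fintype.sum_sum_type, Fin.sum_univ_two]

theorem swM_pairM (A B : Matrix (Fin 2) (Fin 2) Z3) : swM * pairM A B = pairM B A * swM := by
  ext i j
  rcases i with i | i <;> rcases j with j | j <;> fin_cases i <;> fin_cases j <;>
    simp [pairM, swM, Matrix.mul_apply, Fintype.sum_sum_type, Fin.sum_univ_two]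

/-- The matrix of a code. -/
def emb : El → M4
  | (s, a, b) => pairM (m2 a) (m2 b) * if s then swM else 1

theorem emb_mul (x y : El) : emb (mulc x y) = emb x * emb y := by
  obtain ⟨s, a, b⟩ := x
  obtain ⟨t, c, d⟩ := y
  have hs : swM * swM = 1 := by decide +kernel
  show pairM (m2 _) (m2 _) * _ = pairM (m2 a) (m2 b) * _ * (pairM (m2 c) (m2 d) * _)
  rw [tm_spec, tm_spec, ← pairM_mul]
  cases s <;> cases t <;> simp only [bne_self_eq_false, Bool.bne_false, Bool.false_bne, Bool.true_bne,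
    Bool.bne_true, Bool.not_false, Bool.not_true, Bool.false_eq_true, if_false, if_true, mul_one, one_mul] <;>
    simp only [Matrix.mul_assoc]
  · rw [swM_pairM]
  · rw [← Matrix.mul_assoc swM (pairM _ _), swM_pairM, Matrix.mul_assoc (pairM _ _) swM swM, hs, mul_one]

theorem emb_one : emb onec = 1 := by decide +kernel

theorem emb_scalar : ∀ e ∈ els, emb e = emb e (Sum.inl 0) (Sum.inl 0) • (1 : M4) → kerc e = true := by
  decide +kernel

theorem emb_ker : ∀ e : El, kerc e = true → emb e = emb e (Sum.inl 0) (Sum.inl 0) • (1 : M4) := by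
  decide +kernel

theorem emb_form : ∀ e ∈ els, ∀ u v, ((emb e)ᵀ * Matrix.J (Fin 2) Z3 * emb e) u v =
    (if e.2.1.val < 8 then 1 else -1) * Matrix.J (Fin 2) Z3 u v := by decide +kernel

/-- The matrices as units. -/
def glOf (e : El) (h : e ∈ els) : GL (Fin 2 ⊕ Fin 2) Z3 :=
  ⟨emb e, emb (invc e), by rw [← emb_mul, (els_inv e h).2.2, emb_one],
    by rw [← emb_mul, (els_inv e h).2.1, emb_one]⟩

theorem glOf_mem (e : El) (h : e ∈ els) : glOf e h ∈ Cfsg.GSp 2 Z3 := by
  refine mem_GSp_iff.2 ⟨if e.2.1.val < 8 then 1 else -1, fun u v => ?_⟩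
  show fB 2 Z3 (emb e *ᵥ u) (emb e *ᵥ v) = _
  have hf : (emb e)ᵀ * Matrix.J (Fin 2) Z3 * emb e =
      (if e.2.1.val < 8 then (1 : Z3) else -1) • Matrix.J (Fin 2) Z3 :=
    Matrix.ext fun i j => by rw [emb_form e h i j]; rfl
  rw [fB, Classical.sympB_apply, Classical.sympB_apply, Cfsg.sympForm, Cfsg.sympForm,
    Matrix.dotProduct_mulVec, Matrix.vecMul_mulVec, ← Matrix.dotProduct_mulVec,
    Matrix.mulVec_mulVec, hf]
  split_ifs <;> simp [Matrix.smul_mulVec, Matrix.neg_mulVec, dotProduct_smul]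

/-- The automorphism of a code. -/
def aut (e : El) (h : e ∈ els) : MulAut (Cfsg.PSp 2 Z3) := conjA ⟨glOf e h, glOf_mem e h⟩

theorem aut_mul {x y : El} (hx : x ∈ els) (hy : y ∈ els) :
    aut x hx * aut y hy = aut (mulc x y) (els_closed x hx y hy) := by
  rw [aut, aut, aut, ← map_mul]
  exact congrArg conjA (Subtype.ext (Units.ext (emb_mul x y).symm))

theorem aut_one_iff {e : El} (h : e ∈ els) : aut e h = 1 ↔ kerc e = true := by
  rw [aut, conjA_eq_one_iff 3 (by norm_num), Cfsg.Geo.mem_scalars_iff]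
  constructor
  · rintro ⟨c, hc⟩
    refine emb_scalar e h ?_
    have hij : emb e = (c : Z3) • (1 : M4) := hc
    rw [hij]
    simp [Matrix.one_apply]
  · intro hk
    have hne : emb e (Sum.inl 0) (Sum.inl 0) ≠ 0 := by
      intro h0
      have : (glOf e h : M4) = 0 := (emb_ker e hk).trans (by rw [h0, zero_smul])
      exact (glOf e h).ne_zero this
    exact ⟨Units.mk0 _ hne, emb_ker e hk⟩

theorem aut_onec : aut onec (by decide +kernel) = 1 := (aut_one_iff _).2 (by decide +kernel)

theorem aut_inv {x : El} (hx : x ∈ els) : (aut x hx)⁻¹ = aut (invc x) (els_inv x hx).1 := by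
  refine inv_eq_of_mul_eq_one_right ?_
  rw [aut_mul]
  refine (aut_one_iff _).2 ?_
  rw [(els_inv x hx).2.2]; decide

theorem aut_eq_iff {x y : El} (hx : x ∈ els) (hy : y ∈ els) :
    aut x hx = aut y hy ↔ kerc (mulc (invc x) y) = true := by
  rw [← inv_mul_eq_one, aut_inv, aut_mul, aut_one_iff]

/-- The Sylow 2-subgroup. -/
def syl : Subgroup (MulAut (Cfsg.PSp 2 Z3)) where
  carrier := {g | ∃ e h, aut e h = g}
  mul_mem' := by rintro _ _ ⟨x, hx, rfl⟩ ⟨y, hy, rfl⟩; exact ⟨_, _, (aut_mul hx hy).symm⟩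
  one_mem' := ⟨_, _, aut_onec⟩
  inv_mem' := by rintro _ ⟨x, hx, rfl⟩; exact ⟨_, _, (aut_inv hx).symm⟩

theorem reps_els {r : El} (h : r ∈ reps) : r ∈ els := (List.mem_filter.1 h).1

theorem exists_rep {g : MulAut (Cfsg.PSp 2 Z3)} (hg : g ∈ syl) :
    ∃ r, ∃ h : r ∈ reps, aut r (reps_els h) = g := by
  obtain ⟨e, he, rfl⟩ := hg
  obtain ⟨r, hr, hk⟩ := reps_cover e he
  exact ⟨r, hr, (aut_eq_iff _ _).2 hk⟩

theorem syl_card : Nat.card ↥syl = 128 := by
  have hnd : reps.Nodup := by decide +kernel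
  let f : {r // r ∈ reps} → ↥syl := fun r => ⟨aut r.1 (reps_els r.2), _, _, rfl⟩
  have hf : Function.Bijective f := by
    refine ⟨fun x y e => Subtype.ext (reps_inj _ x.2 _ y.2 ((aut_eq_iff _ _).1 (congrArg Subtype.val e))),
      fun g => ?_⟩
    obtain ⟨r, hr, e⟩ := exists_rep g.2
    exact ⟨⟨r, hr⟩, Subtype.ext e⟩
  rw [← Nat.card_congr (Equiv.ofBijective f hf), Nat.card_congr (hnd.getEquiv reps).symm, Nat.card_fin,
    reps_len]

theorem card_aut : Nat.card (MulAut (Cfsg.PSp 2 Z3)) = 51840 := by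
  rw [AutPSp.card_mulAut 3 le_rfl, U62Rec.card_psp_three,
    AutPSp.index_inndiag 3 le_rfl (fun _ => by norm_num), Nat.card_zmod]
  have : Subsingleton (ZMod 3 ≃+* ZMod 3) := ⟨fun f g => RingEquiv.ext fun x => by
    exact RingHom.congr_fun (RingHom.ext_zmod (f : ZMod 3 →+* ZMod 3) g) x⟩
  rw [Nat.card_eq_one_iff_unique.2 ⟨this, ⟨RingEquiv.refl _⟩⟩]
  rfl

theorem card_le_in_syl (X : Subgroup (MulAut (Cfsg.PSp 2 Z3))) (hX : X ≤ syl)
    (h : ∀ x ∈ X, x * x = 1) : Nat.card ↥X ≤ 16 := by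
  classical
  haveI : Finite (MulAut (Cfsg.PSp 2 Z3)) := Nat.finite_of_card_ne_zero (by rw [card_aut]; norm_num)
  haveI : Fintype ↥X := Fintype.ofFinite _
  choose r hr he using fun x : ↥X => exists_rep (hX x.2)
  have hinj : Function.Injective r := fun x y e => Subtype.ext (by
    rw [← he x, ← he y]; exact (aut_eq_iff _ _).2 (by
      rw [e]; exact (aut_one_iff (els_closed _ (els_inv _ (reps_els (hr y))).1 _ (reps_els (hr y)))).1 (by
        rw [← aut_mul (els_inv _ (reps_els (hr y))).1 (reps_els (hr y)), ← aut_inv (reps_els (hr y)),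
          inv_mul_cancel])))
  have hinv : ∀ x : ↥X, x ≠ 1 → r x ∈ invs := fun x hx => by
    refine List.mem_filter.2 ⟨hr x, ?_⟩
    rw [Bool.and_eq_true, Bool.not_eq_true', ← Bool.not_eq_true]
    constructor
    · rw [← aut_one_iff (els_closed _ (reps_els (hr x)) _ (reps_els (hr x))),
        ← aut_mul (reps_els (hr x)) (reps_els (hr x)), he]
      exact h _ x.2
    · rw [← aut_one_iff (reps_els (hr x)), he]
      exact fun e => hx (Subtype.ext e)
  have hcomm : ∀ x y : ↥X, commc (r x) (r y) = true := fun x y => by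
    have hc : (x : MulAut (Cfsg.PSp 2 Z3)) * y = y * x := by
      have hi : ∀ g ∈ X, g⁻¹ = g := fun g hg => inv_eq_of_mul_eq_one_right (h g hg)
      rw [← hi _ (mul_mem x.2 y.2), _root_.mul_inv_rev, hi _ y.2, hi _ x.2]
    rw [commc, ← aut_eq_iff (els_closed _ (reps_els (hr x)) _ (reps_els (hr y)))
      (els_closed _ (reps_els (hr y)) _ (reps_els (hr x))), ← aut_mul (reps_els (hr x)) (reps_els (hr y)),
      ← aut_mul (reps_els (hr y)) (reps_els (hr x)), he, he, hc]
  let S : Finset ↥X := Finset.univ.erase 1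
  have hS : S.card = Nat.card ↥X - 1 := by
    rw [Finset.card_erase_of_mem (Finset.mem_univ _), Finset.card_univ, Nat.card_eq_fintype_card]
  by_contra hgt
  obtain ⟨k, hk⟩ : ∃ k, Nat.card ↥X = 2 ^ k := by
    obtain ⟨k, _, hk⟩ := (Nat.dvd_prime_pow Nat.prime_two).1
      ((Subgroup.card_dvd_of_le hX).trans (dvd_of_eq (syl_card.trans (by norm_num : (128 : ℕ) = 2 ^ 7))))
    exact ⟨k, hk⟩
  have h32 : 32 ≤ Nat.card ↥X := by
    rw [hk] at hgt ⊢
    have : 4 < k := by
      by_contra hle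
      exact hgt (le_trans (Nat.pow_le_pow_right (by norm_num) (not_lt.1 hle)) le_rfl)
    exact le_trans (by norm_num) (Nat.pow_le_pow_right (by norm_num : 1 ≤ 2) this)
  have hbig : ∀ x ∈ S, r x ∈ (invs.filter fun x => decide (31 ≤ (invs.filter fun y => commc x y).length)) := by
    intro x hx
    refine List.mem_filter.2 ⟨hinv x (Finset.ne_of_mem_erase hx), decide_eq_true ?_⟩
    refine le_trans ?_ (List.toFinset_card_le _)
    refine le_trans (by omega : 31 ≤ S.card) ?_
    refine Finset.card_le_card_of_injOn r (fun y hy => ?_) hinj.injOn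
    exact List.mem_toFinset.2 (List.mem_filter.2 ⟨hinv y (Finset.ne_of_mem_erase hy), hcomm x y⟩)
  have := (Finset.card_le_card_of_injOn r (fun y hy => List.mem_toFinset.2 (hbig y hy)) hinj.injOn).trans
    ((List.toFinset_card_le _).trans few)
  omega

end Cfsg.Agent.Fi22Two.Rank

namespace Cfsg.Agent.Fi22Two

/-- The 2-rank of the automorphism group of `PSp₄(3)` is at most 4. -/
theorem card_le_of_elementary (X : Subgroup (MulAut (Cfsg.PSp 2 (ZMod 3))))
    (h : ∀ x ∈ X, x * x = 1) : Nat.card ↥X ≤ 16 := by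
  haveI : Finite (MulAut (Cfsg.PSp 2 (ZMod 3))) :=
    Nat.finite_of_card_ne_zero (by rw [Rank.card_aut]; norm_num)
  haveI : Fact (Nat.Prime 2) := ⟨Nat.prime_two⟩
  have hX : IsPGroup 2 ↥X := fun x => ⟨1, Subtype.ext (by simpa [pow_two] using h x x.2)⟩
  obtain ⟨Q, hQ⟩ := hX.exists_le_sylow
  let T : Sylow 2 (MulAut (Cfsg.PSp 2 (ZMod 3))) := Sylow.ofCard Rank.syl (by
    rw [Rank.syl_card, Rank.card_aut, show (51840 : ℕ) = 2 ^ 7 * 405 by norm_num,
      Nat.factorization_mul (by norm_num) (by norm_num), Finsupp.add_apply,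
      Nat.Prime.factorization_pow Nat.prime_two, Finsupp.single_eq_same,
      Nat.factorization_eq_zero_of_not_dvd (by norm_num : ¬ 2 ∣ 405)]
    norm_num)
  obtain ⟨g, hg⟩ := MulAction.exists_smul_eq (MulAut (Cfsg.PSp 2 (ZMod 3))) Q T
  let Y : Subgroup (MulAut (Cfsg.PSp 2 (ZMod 3))) := X.map (MulAut.conj g).toMonoidHom
  have hY : Y ≤ Rank.syl := by
    have : ((T : Subgroup _)) = Rank.syl := rfl
    rw [← this, ← hg, Sylow.coe_subgroup_smul]
    exact Subgroup.map_mono hQ
  rw [Nat.card_congr (Subgroup.equivMapOfInjective X (MulAut.conj g).toMonoidHom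
    (MulAut.conj g).injective).toEquiv]
  refine Rank.card_le_in_syl Y hY ?_
  rintro _ ⟨x, hx, rfl⟩
  rw [← map_mul, h x hx, map_one]

end Cfsg.Agent.Fi22Two
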