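import Cfsg.Agent.Fi22Two.SwapMain
import Cfsg.Agent.Fi22Two.Inner
import Cfsg.Agent.Fi22Two.Rank

/-!
# Conjugates of `z` in `C z` do not move `a`

A conjugate `w` moving `a` would centralise an elementary abelian subgroup of order at least 32 of
`oc z` meeting `oc w` trivially; the automorphism group of `PSp₄(3)` has none.
-/

set_option autoImplicit false

open Cfsg Subgroup

namespace Cfsg.Agent.Fi22Two

open Cfsg.Agent.LargeExtra Cfsg.Agent.U62Rec

variable {G : Type*} [Group G] [Finite G] {z a : G}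

namespace Swap

/-- If a conjugate `g z g⁻¹` in `C z` fixes `a`, then `z` fixes `g a g⁻¹`. -/
theorem fixes_symm (h : Hyp z a) (h1 : IsoIn z a) (h2 : IsoIn z (a * z)) {g : G}
    (hw : g * z * g⁻¹ ∈ centralizer ({z} : Set G)) (hwa : Commute (g * z * g⁻¹) a) :
    Commute z (g * a * g⁻¹) := by
  by_contra hn
  set w := g * z * g⁻¹ with hwdef
  set b := g * a * g⁻¹ with hbdef
  have hbJ : b ∈ oc w := conj_mem_oc h.a_mem
  have hwz : Commute w z := mem_centralizer_singleton_iff.1 hw
  have hz : z * b * z⁻¹ = b * w :=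
    (parity_conj h (g := g) (mem_centralizer_singleton_iff.2 hwz.symm.eq)).resolve_left
      fun e => hn (commute_of_conj_eq e)
  have hzw : z * w * z⁻¹ = w := conj_eq_of_commute hwz.symm
  rcases parity_conj h (g := g) (x := a) (mem_centralizer_singleton_iff.2 hwa.symm.eq) with e | e
  · exact hn ((fix_le h h.comm_za h1 hw hwa b hbJ (commute_of_conj_eq e).symm).symm)
  · rw [← hwdef, ← hbdef] at e
    have hazb : Commute (a * z) b := by
      refine commute_of_conj_eq ?_
      rw [show a * z * b * (a * z)⁻¹ = a * (z * b * z⁻¹) * a⁻¹ by group, hz, ← conjm, e,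
        conj_eq_of_commute hwa.symm, mul_assoc, show w * w = 1 by rw [hwdef, conjm, h.zz]; group,
        mul_one]
    exact hn ((fix_le h (h.comm_za.mul_right (Commute.refl z)) h2 hw (hwa.mul_right hwz) b hbJ
      hazb.symm).symm)

theorem inner_conj (h : Hyp z a) (hnf : ¬ Fixed z a) {g x : G}
    (hx : x ∈ centralizer ({g * z * g⁻¹} : Set G)) (hb : Commute x (g * a * g⁻¹)) :
    x ∈ inner (g * z * g⁻¹) := by
  have h0 : g⁻¹ * x * g ∈ inner z := by
    rw [← h.inf_centralizer hnf]
    refine ⟨mem_cz_conj.1 hx, mem_centralizer_singleton_iff.2 ?_⟩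
    have := (conj_commute_iff (g := g)).2 hb
    rw [show g⁻¹ * (g * a * g⁻¹) * g = a by group] at this
    exact this.eq
  have hmap : ∀ u : G, u ∈ centralizer ({z} : Set G) →
      g * u * g⁻¹ ∈ centralizer ({g * z * g⁻¹} : Set G) := fun u hu => mem_cz_conj.2 (by
    rw [show g⁻¹ * (g * u * g⁻¹) * g = u by group]; exact hu)
  obtain ⟨⟨u, hu⟩, hu', e⟩ := h0
  let φ : ↥(centralizer ({z} : Set G)) →* ↥(centralizer ({g * z * g⁻¹} : Set G)) :=
    MonoidHom.mk' (fun v => ⟨g * v * g⁻¹, hmap v v.2⟩) fun p q => Subtype.ext (conjm g p q).symm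
  have hφ : Function.Surjective φ := fun q => ⟨⟨g⁻¹ * q * g, mem_cz_conj.1 q.2⟩,
    Subtype.ext (by show g * (g⁻¹ * (q : G) * g) * g⁻¹ = q; group)⟩
  refine ⟨φ ⟨u, hu⟩, ?_, ?_⟩
  · have hle : (commutator ↥(centralizer ({z} : Set G)) ⊔ pCore 2 ↥(centralizer ({z} : Set G))).map φ ≤
        commutator ↥(centralizer ({g * z * g⁻¹} : Set G)) ⊔
          pCore 2 ↥(centralizer ({g * z * g⁻¹} : Set G)) := by
      rw [Subgroup.map_sup]
      refine sup_le_sup ?_ ?_
      · rw [_root_.commutator_def, _root_.commutator_def, map_commutator]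
        exact commutator_mono le_top le_top
      · rintro _ ⟨v, hv, rfl⟩
        obtain ⟨v', hv', e'⟩ := conj_mem_oc (g := g) (x := z) (c := (v : G)) ⟨v, hv, rfl⟩
        have : v' = φ v := Subtype.ext e'
        exact this ▸ hv'
    exact hle ⟨_, hu', rfl⟩
  · show g * u * g⁻¹ = x
    change u = g⁻¹ * x * g at e
    rw [e]; group

end Swap

open Swap

/-- If a conjugate `w` of `z` lies in `inner z` then `z` lies in `inner w`. -/
theorem z_inner (h : Hyp z a) (hnf : ¬ Fixed z a) (h1 : IsoIn z a) (h2 : IsoIn z (a * z)) (g : G)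
    (hw : g * z * g⁻¹ ∈ inner z) : z ∈ inner (g * z * g⁻¹) :=
  inner_conj h hnf
    (mem_centralizer_singleton_iff.2 (mem_centralizer_singleton_iff.1 (inner_le z hw)).symm)
    (fixes_symm h h1 h2 (inner_le z hw)
      (mem_centralizer_singleton_iff.1 (h.inner_le_centralizer hw)))

/-- No conjugate of `z` in `C z` moves `a`. -/
theorem no_swapper (h : Hyp z a) (hnf : ¬ Fixed z a) {c : List ℕ × ℕ} (hc : c ∈ innerCfgs)
    (M : Mod2 ⟨c.1, c.2⟩ z a) (h1 : IsoIn z a) (h2 : IsoIn z (a * z)) (g : G)
    (hw : g * z * g⁻¹ ∈ centralizer ({z} : Set G)) : g * z * g⁻¹ ∈ inner z := by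
  rw [← h.inf_centralizer hnf]
  refine ⟨hw, mem_centralizer_singleton_iff.2 ?_⟩
  by_contra hn
  set w := g * z * g⁻¹ with hwdef
  set b := g * a * g⁻¹ with hbdef
  have hwz : Commute w z := mem_centralizer_singleton_iff.1 hw
  have hww : w * w = 1 := by rw [hwdef, conjm, h.zz]; group
  have hwi : w⁻¹ = w := inv_eq_of_mul_eq_one_right hww
  have hwa : w * a * w⁻¹ = a * z := swaps h hw fun e => hn e.eq
  have hzw : z ∈ centralizer ({w} : Set G) := mem_centralizer_singleton_iff.2 hwz.symm.eq
  -- `z` moves `b`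
  have hzb : ¬ Commute z b := fun e => hn (by
    have h3 := fixes_symm h h1 h2 (g := g⁻¹) (by rw [inv_inv]; exact mem_cz_conj.1 hzw) (by
      rw [inv_inv]
      have := (conj_commute_iff (g := g)).2 e
      rwa [show g⁻¹ * b * g = a by rw [hbdef]; group] at this)
    rw [inv_inv] at h3
    have := (Commute.conj_iff g).2 h3
    rw [show g * (g⁻¹ * a * g) * g⁻¹ = a by group] at this
    exact this.eq)
  have hzJ : z ∉ oc w := fun e => hzb (by
    have e' : g⁻¹ * z * g ∈ oc z := oc_conj_back e
    refine (conj_commute_iff (g := g)).1 ?_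
    rw [show g⁻¹ * b * g = a by rw [hbdef]; group]
    exact h.comm_mem_a e')
  set R := oc z ⊓ centralizer ({w} : Set G) with hR
  obtain ⟨X, hX, hX64, hperp⟩ := exists_perp h hw hww
  -- commutators on `X` lie in `⟨z⟩`
  have hval : ∀ x ∈ X, x * w * x⁻¹ = w ∨ x * w * x⁻¹ = z * w := by
    intro x hx
    obtain ⟨hx1, hx2⟩ := (hX x).1 hx
    set d := x * w * x⁻¹ * w with hd
    have hd' : x * w * x⁻¹ = d * w := by rw [hd, mul_assoc _ w w, hww, mul_one]
    have hwd : w * d * w⁻¹ = d := by
      conv_rhs => rw [← inv_ctr h hx2]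
      rw [hd]
      simp [mul_assoc, hwi, hww]
    rcases (mem_ctr h).1 hx2 with e | e | e | e
    · left; rw [hd', e, one_mul]
    · right; rw [hd', e]
    · rw [e, hwa] at hwd
      exact absurd (mul_eq_left.1 hwd) (ne_one h)
    · rw [e, ← conjm, hwa, conj_eq_of_commute hwz, mul_assoc, h.zz, mul_one] at hwd
      exact absurd (mul_eq_left.1 hwd.symm) (ne_one h)
  have hR32 : 32 ≤ Nat.card R := by
    have h3 := card_le_two_mul X w z fun x hx => by
      rcases hval x hx with e | e
      · exact Or.inl e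
      · exact Or.inr (e.trans hwz.symm.eq)
    have h4 : Nat.card ↥(X ⊓ centralizer ({w} : Set G)) ≤ Nat.card R :=
      card_le_of_le fun x hx => ⟨((hX x).1 hx.1).1, hx.2⟩
    omega
  -- `oc z` and `oc w` meet trivially
  have hI : ∀ i ∈ oc z, i ∈ oc w → i = 1 := by
    intro i hi hiw
    have hiwc : Commute i w := mem_centralizer_singleton_iff.1 (oc_le w hiw)
    have hRi : ∀ r ∈ R, Commute r i := by
      intro r hr
      have h3 : r * i * r⁻¹ * i⁻¹ ∈ oc w := mul_mem (oc_conj_mem hr.2 hiw) (inv_mem hiw)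
      rcases h.comm r hr.1 i hi with e | e
      · exact mul_inv_eq_iff_eq_mul.1 (mul_inv_eq_one.1 e)
      · exact absurd (e ▸ h3) hzJ
    obtain ⟨j, hj, d, hd, hid⟩ := hperp i hi fun x hx => by
      have hx1 := ((hX x).1 hx).1
      rcases hval x hx with e | e
      · exact hRi x ⟨hx1, mem_centralizer_singleton_iff.2 (commute_of_conj_eq e).eq⟩
      · have hxa : x * a ∈ R := by
          refine ⟨mul_mem hx1 h.a_mem, mem_centralizer_singleton_iff.2 (commute_of_conj_eq ?_).eq⟩
          have ha : a * w * a⁻¹ = z * w := by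
            calc a * w * a⁻¹ = a * (w * a⁻¹ * w⁻¹) * w := by group
              _ = a * (w * a * w⁻¹)⁻¹ * w := by group
              _ = z * w := by
                rw [hwa, mul_inv_rev, ← mul_assoc a, inv_eq_of_mul_eq_one_right h.zz,
                  h.comm_za.symm.eq, mul_assoc z, mul_inv_cancel, mul_one]
          have hxz : x * z * x⁻¹ = z :=
            conj_eq_of_commute (mem_centralizer_singleton_iff.1 (oc_le z hx1))
          rw [show x * a * w * (x * a)⁻¹ = x * (a * w * a⁻¹) * x⁻¹ by group, ha, ← conjm, hxz, e,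
            ← mul_assoc, h.zz, one_mul]
        have h3 := (hRi _ hxa).mul_left ((ctr_comm (a_mem_ctr h) hi).inv_left)
        rwa [mul_inv_cancel_right] at h3
    have hii : i * i = 1 := by
      rcases h.sq i hi with e | e
      · exact e
      · exact absurd (e ▸ mul_mem hiw hiw) hzJ
    -- make the central factor trivial
    obtain ⟨j, hj, hid⟩ : ∃ j ∈ oc z, i = j * w * j⁻¹ * w := by
      set e := j * w * j⁻¹ * w with he
      have hde : Commute d e := ctr_comm hd (by
        rw [show e = i * d⁻¹ by rw [hid, mul_inv_cancel_right]]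
        exact mul_mem hi (inv_mem hd.1))
      have hee : e * e = 1 := by
        rw [hid, hde.mul_mul_mul_comm, sq_ctr h hd, mul_one] at hii
        exact hii
      have hwe : w * e * w = e := by
        conv_rhs => rw [← inv_eq_of_mul_eq_one_right hee]
        rw [he]
        simp [mul_assoc, hwi, hww]
      have hwd : w * d * w⁻¹ = d := by
        have h3 : w * i * w⁻¹ = i := conj_eq_of_commute hiwc.symm
        rw [hid, ← conjm, show w * e * w⁻¹ = e by rw [hwi]; exact hwe] at h3
        exact mul_left_cancel h3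
      rcases (mem_ctr h).1 hd with e' | e' | e' | e'
      · exact ⟨j, hj, by rw [hid, e', mul_one]⟩
      · refine ⟨j * a, mul_mem hj h.a_mem, ?_⟩
        have hai : a⁻¹ = a := inv_eq_of_mul_eq_one_right h.aa
        have hwaw : a * w * a⁻¹ = z * w := by
          calc a * w * a⁻¹ = a * (w * a * w⁻¹) * w := by rw [hai]; group
            _ = z * w := by rw [hwa, ← mul_assoc a a z, h.aa, one_mul]
        have hje : z * j = j * z :=
          (mem_centralizer_singleton_iff.1 (oc_le z hj)).symm
        calc i = e * z := by rw [hid, e']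
          _ = z * e := ctr_comm (z_mem_ctr h) (by
              rw [show e = i * d⁻¹ by rw [hid, mul_inv_cancel_right]]
              exact mul_mem hi (inv_mem hd.1)) |>.symm.eq
          _ = j * z * (w * j⁻¹ * w) := by rw [he, ← hje]; group
          _ = j * a * w * (j * a)⁻¹ * w := by
              rw [show j * a * w * (j * a)⁻¹ = j * (a * w * a⁻¹) * j⁻¹ by group, hwaw]; group
      · rw [e', hwa] at hwd
        exact absurd (mul_eq_left.1 hwd) (ne_one h)
      · rw [e', ← conjm, hwa, conj_eq_of_commute hwz, mul_assoc, h.zz, mul_one] at hwd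
        exact absurd (mul_eq_left.1 hwd.symm) (ne_one h)
    have hjw : j * w * j⁻¹ ∈ oc w := by
      have hwo : w ∈ oc w := conj_mem_oc h.z_mem
      have := mul_mem hiw hwo
      rwa [hid, mul_assoc, hww, mul_one] at this
    have h4 := eq_of_mem_swap h hnf hc M h1 h2 (g⁻¹ * j * g) (by
      rw [show g⁻¹ * j * g * z * (g⁻¹ * j * g)⁻¹ = g⁻¹ * (j * w * j⁻¹) * g by rw [hwdef]; group]
      exact oc_conj_back hjw)
    have h5 : j * w * j⁻¹ = w := by
      calc j * w * j⁻¹ = g * (g⁻¹ * j * g * z * (g⁻¹ * j * g)⁻¹) * g⁻¹ := by rw [hwdef]; group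
        _ = w := by rw [h4]
    rw [hid, h5, hww]
  -- the elementary abelian group
  have hsq : ∀ r ∈ R, r * r = 1 := by
    intro r hr
    rcases h.sq r hr.1 with e | e
    · exact e
    · exfalso
      have h3 := sq_fix h (mem_cz_conj.1 hr.2)
      rw [show g⁻¹ * r * g * (g⁻¹ * r * g) = g⁻¹ * (r * r) * g by group, e] at h3
      refine hzb ((conj_commute_iff (g := g)).1 ?_)
      rwa [show g⁻¹ * b * g = a by rw [hbdef]; group]
  obtain ⟨E⟩ := h.quot
  let φ : ↥R →* MulAut (Cfsg.PSp 2 (ZMod 3)) :=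
    (E.toMonoidHom.comp (QuotientGroup.mk' _)).comp
      (MonoidHom.mk' (fun r : ↥R => (⟨g⁻¹ * (r : G) * g, mem_cz_conj.1 r.2.2⟩ :
        ↥(centralizer ({z} : Set G)))) fun p q => Subtype.ext (by simp [mul_assoc]))
  have hinj : Function.Injective φ := by
    refine (injective_iff_map_eq_one φ).2 fun r hr => Subtype.ext ?_
    have h3 : g⁻¹ * (r : G) * g ∈ oc z := by
      have h4 : (⟨g⁻¹ * (r : G) * g, mem_cz_conj.1 r.2.2⟩ : ↥(centralizer ({z} : Set G))) ∈
          pCore 2 ↥(centralizer ({z} : Set G)) :=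
        (QuotientGroup.eq_one_iff _).1 ((MulEquiv.map_eq_one_iff E).1 hr)
      exact ⟨_, h4, rfl⟩
    have h5 := conj_mem_oc (g := g) h3
    rw [show g * (g⁻¹ * (r : G) * g) * g⁻¹ = r by group] at h5
    exact hI r r.2.1 h5
  have h16 := card_le_of_elementary φ.range fun x hx => by
    obtain ⟨r, rfl⟩ := hx
    rw [← map_mul, show r * r = 1 from Subtype.ext (hsq r r.2), map_one]
  rw [← Nat.card_congr (MonoidHom.ofInjective hinj).toEquiv] at h16
  omega

end Cfsg.Agent.Fi22Two
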