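import Cfsg.Agent.Fi22Two.TripleData
import Cfsg.Agent.U62Rec.Check.RedBM
import Cfsg.Agent.U62Rec.Check.RedBP
import Cfsg.Agent.U62Rec.Check.RedIP

/-!
# The check of commuting triples: the configurations RedBP, RedBM
-/

set_option autoImplicit false
set_option maxRecDepth 65536
set_option maxHeartbeats 4000000
set_option Elab.async false

namespace Cfsg.Agent.Fi22Two

open Cfsg.Agent.U62Rec

theorem redBP_qOK : QOK ⟨RedBP.gens, RedBP.lin⟩ := by
  show (RedBP.gens.all fun g => (List.range 256).all fun v =>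
    qv RedBP.lin (app g v) == qv RedBP.lin v) = true
  decide +kernel

theorem redBP_none : noCand RedBP.lin (triRedP1 RedBP.ct3) = true := by decide +kernel

theorem redBP_check : checkOK RedBP.lin (triRedP0 RedBP.ct0) RedIP.ct1.ts
    (triRedP1 RedBP.ct3).c = true := by
  decide +kernel

/-- The verdict in the configuration RedBP. -/
theorem redBP_verdict {p x : ℕ} {U : List ℕ} (T : Triple ⟨RedBP.gens, RedBP.lin⟩ p x U)
    (hp : InnerCode ⟨RedBP.gens, RedBP.lin⟩ p) : Verdict ⟨RedBP.gens, RedBP.lin⟩ p x U := by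
  refine verdict_of_classes redBP_qOK (gI := RedIP.gens) (ginvI := RedIP.ginv) (by decide +kernel)
    (by decide +kernel) (outOK_tab RedIP.out1)
    (dataOK_of_outOK (D := (triRedP1 RedBP.ct3)) RedBP.out3 rfl (by decide +kernel))
    (dataOK_of_outOK (D := (triRedP0 RedBP.ct0)) RedBP.out0 rfl (by decide +kernel))
    redBP_none (by decide +kernel) redBP_check (fun m a b d => ?_) T hp
  obtain ⟨o, ho, h, hh, e⟩ := RedIP.facts.cls m a b d
  simp only [List.mem_cons, List.not_mem_nil, or_false] at ho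
  rcases ho with rfl | rfl
  · exact ⟨_, Or.inr rfl, h, hh, e⟩
  · exact ⟨_, Or.inl rfl, h, hh, e⟩

theorem redBM_qOK : QOK ⟨RedBM.gens, RedBM.lin⟩ := by
  show (RedBM.gens.all fun g => (List.range 256).all fun v =>
    qv RedBM.lin (app g v) == qv RedBM.lin v) = true
  decide +kernel

theorem redBM_none : noCand RedBM.lin (triRedM1 RedBM.ct3) = true := by decide +kernel

theorem redBM_check : checkOK RedBM.lin (triRedM0 RedBM.ct0) RedIP.ct1.ts
    (triRedM1 RedBM.ct3).c = true := by
  decide +kernel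

/-- The verdict in the configuration RedBM. -/
theorem redBM_verdict {p x : ℕ} {U : List ℕ} (T : Triple ⟨RedBM.gens, RedBM.lin⟩ p x U)
    (hp : InnerCode ⟨RedBM.gens, RedBM.lin⟩ p) : Verdict ⟨RedBM.gens, RedBM.lin⟩ p x U := by
  refine verdict_of_classes redBM_qOK (gI := RedIP.gens) (ginvI := RedIP.ginv) (by decide +kernel)
    (by decide +kernel) (outOK_tab RedIP.out1)
    (dataOK_of_outOK (D := (triRedM1 RedBM.ct3)) RedBM.out3 rfl (by decide +kernel))
    (dataOK_of_outOK (D := (triRedM0 RedBM.ct0)) RedBM.out0 rfl (by decide +kernel))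
    redBM_none (by decide +kernel) redBM_check (fun m a b d => ?_) T hp
  obtain ⟨o, ho, h, hh, e⟩ := RedIP.facts.cls m a b d
  simp only [List.mem_cons, List.not_mem_nil, or_false] at ho
  rcases ho with rfl | rfl
  · exact ⟨_, Or.inr rfl, h, hh, e⟩
  · exact ⟨_, Or.inl rfl, h, hh, e⟩

end Cfsg.Agent.Fi22Two
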