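import Cfsg.Agent.Fi22Two.TripleData
import Cfsg.Agent.U62Rec.Check.RedIM
import Cfsg.Agent.U62Rec.Check.RedIP

/-!
# The check of commuting triples: the configurations RedIP, RedIM
-/

set_option autoImplicit false
set_option maxRecDepth 65536
set_option maxHeartbeats 4000000
set_option Elab.async false

namespace Cfsg.Agent.Fi22Two

open Cfsg.Agent.U62Rec

theorem redIP_qOK : QOK ⟨RedIP.gens, RedIP.lin⟩ := by
  show (RedIP.gens.all fun g => (List.range 256).all fun v =>
    qv RedIP.lin (app g v) == qv RedIP.lin v) = true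
  decide +kernel

theorem redIP_none : noCand RedIP.lin (triRedP1 RedIP.ct1) = true := by decide +kernel

theorem redIP_check : checkOK RedIP.lin (triRedP0 RedIP.ct0) RedIP.ct1.ts
    (triRedP1 RedIP.ct1).c = true := by
  decide +kernel

/-- The verdict in the configuration RedIP. -/
theorem redIP_verdict {p x : ℕ} {U : List ℕ} (T : Triple ⟨RedIP.gens, RedIP.lin⟩ p x U)
    (hp : InnerCode ⟨RedIP.gens, RedIP.lin⟩ p) : Verdict ⟨RedIP.gens, RedIP.lin⟩ p x U := by
  refine verdict_of_classes redIP_qOK (gI := RedIP.gens) (ginvI := RedIP.ginv) (by decide +kernel)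
    (by decide +kernel) (outOK_tab RedIP.out1)
    (dataOK_of_outOK (D := (triRedP1 RedIP.ct1)) RedIP.out1 rfl (by decide +kernel))
    (dataOK_of_outOK (D := (triRedP0 RedIP.ct0)) RedIP.out0 rfl (by decide +kernel))
    redIP_none (by decide +kernel) redIP_check (fun m a b d => ?_) T hp
  obtain ⟨o, ho, h, hh, e⟩ := RedIP.facts.cls m a b d
  simp only [List.mem_cons, List.not_mem_nil, or_false] at ho
  rcases ho with rfl | rfl
  · exact ⟨_, Or.inr rfl, h, hh, e⟩
  · exact ⟨_, Or.inl rfl, h, hh, e⟩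

theorem redIM_qOK : QOK ⟨RedIM.gens, RedIM.lin⟩ := by
  show (RedIM.gens.all fun g => (List.range 256).all fun v =>
    qv RedIM.lin (app g v) == qv RedIM.lin v) = true
  decide +kernel

theorem redIM_none : noCand RedIM.lin (triRedM1 RedIM.ct1) = true := by decide +kernel

theorem redIM_check : checkOK RedIM.lin (triRedM0 RedIM.ct0) RedIP.ct1.ts
    (triRedM1 RedIM.ct1).c = true := by
  decide +kernel

/-- The verdict in the configuration RedIM. -/
theorem redIM_verdict {p x : ℕ} {U : List ℕ} (T : Triple ⟨RedIM.gens, RedIM.lin⟩ p x U)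
    (hp : InnerCode ⟨RedIM.gens, RedIM.lin⟩ p) : Verdict ⟨RedIM.gens, RedIM.lin⟩ p x U := by
  refine verdict_of_classes redIM_qOK (gI := RedIP.gens) (ginvI := RedIP.ginv) (by decide +kernel)
    (by decide +kernel) (outOK_tab RedIP.out1)
    (dataOK_of_outOK (D := (triRedM1 RedIM.ct1)) RedIM.out1 rfl (by decide +kernel))
    (dataOK_of_outOK (D := (triRedM0 RedIM.ct0)) RedIM.out0 rfl (by decide +kernel))
    redIM_none (by decide +kernel) redIM_check (fun m a b d => ?_) T hp
  obtain ⟨o, ho, h, hh, e⟩ := RedIP.facts.cls m a b d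
  simp only [List.mem_cons, List.not_mem_nil, or_false] at ho
  rcases ho with rfl | rfl
  · exact ⟨_, Or.inr rfl, h, hh, e⟩
  · exact ⟨_, Or.inl rfl, h, hh, e⟩

end Cfsg.Agent.Fi22Two
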