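import Cfsg.Agent.Fi22Two.TripleNat
import Cfsg.Agent.Fi22Two.TripleRedI
import Cfsg.Agent.Fi22Two.TripleRedA
import Cfsg.Agent.Fi22Two.TripleRedB
import Cfsg.Agent.U62Rec.ResultInner
import Cfsg.Agent.U62Rec.ResultOuter

/-!
# The finite check of commuting triples of involutory maps
-/

set_option autoImplicit false

namespace Cfsg.Agent.Fi22Two

open Cfsg.Agent.U62Rec

/-- In every configuration a commuting triple with an inner map is small or twisted. -/
theorem triple_verdict {c : List ℕ × ℕ} (hc : c ∈ outerCfgs ∨ c ∈ innerCfgs) {p x : ℕ}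
    {U : List ℕ} (T : Triple ⟨c.1, c.2⟩ p x U) (hp : InnerCode ⟨c.1, c.2⟩ p) :
    Verdict ⟨c.1, c.2⟩ p x U := by
  rw [outer_lists, inner_lists] at hc
  simp only [List.mem_cons, List.not_mem_nil, or_false] at hc
  rcases hc with (rfl | rfl | rfl | rfl | rfl) | rfl | rfl | rfl
  · exact natO_verdict T hp
  · exact redAP_verdict T hp
  · exact redAM_verdict T hp
  · exact redBP_verdict T hp
  · exact redBM_verdict T hp
  · exact natI_verdict T hp
  · exact redIP_verdict T hp
  · exact redIM_verdict T hp

end Cfsg.Agent.Fi22Two
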