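import Cfsg.Agent.Fi22Two.TripleDef
import Cfsg.Agent.U62Rec.Check.NatI
import Cfsg.Agent.U62Rec.Check.RedIP
import Cfsg.Agent.U62Rec.Setup

/-!
# No functional on the fixed space of an inner involution

The fixed space is spanned by the moved vectors, the differences under maps commuting with the
involution and the vectors fixed by all inner maps.
-/

set_option autoImplicit false
set_option maxRecDepth 65536

namespace Cfsg.Agent.Fi22Two

open Cfsg.Agent.U62Rec

namespace TripleFunctional

/-- The spanning vectors of a class. -/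
def spanners (gens : List ℕ) (o : OutCase) : List ℕ :=
  (List.range 256).map (fun u => app o.c u ^^^ u) ++
    o.A.flatMap (fun g => o.K.map fun w => app g w ^^^ w) ++
    (List.range 256).filter (fun v => gens.all fun g => Nat.beq (app g v) v)

/-- The fixed space of a class lies in the span, and the listed maps preserve it. -/
def classOK (gens : List ℕ) (o : OutCase) : Bool :=
  o.K.all (fun v => mem v ((spanners gens o).foldl adj [0])) && decide (o.c < 2 ^ 64)

theorem check_N : classOK NatI.gens NatI.oc0 = true ∧ classOK NatI.gens NatI.oc1 = true := by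
  decide +kernel

theorem check_R : classOK RedIP.gens RedIP.oc0 = true ∧ classOK RedIP.gens RedIP.oc1 = true := by
  decide +kernel

theorem take_eight : ∀ c ∈ outerCfgs ++ innerCfgs,
    c.1.take 8 = NatI.gens ∨ c.1.take 8 = RedIP.gens := by
  decide +kernel

/-- A set closed under sums contains the span. -/
theorem foldl_adj {P : ℕ → Prop} (hx : ∀ a b, P a → P b → P (a ^^^ b)) :
    ∀ (Z L : List ℕ), (∀ v ∈ Z, P v) → (∀ v ∈ L, P v) → ∀ v ∈ Z.foldl adj L, P v
  | [], L, _, hL => hL
  | i :: Z, L, hZ, hL => by
    refine foldl_adj hx Z (adj L i) (fun v hv => hZ v (List.mem_cons_of_mem _ hv)) fun v hv => ?_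
    unfold adj at hv
    cases hm : mem i L <;> rw [hm] at hv
    · simp only [cond_false, List.mem_append, List.mem_map] at hv
      rcases hv with hv | ⟨w, hw, rfl⟩
      · exact hL v hv
      · exact hx _ _ (hL w hw) (hZ i List.mem_cons_self)
    · exact hL v hv

theorem gen_fix {gens : List ℕ} {v : ℕ} (hv : v < 256) (h : ∀ g ∈ gens, app g v = v) {m : ℕ}
    (hm : Gen gens m) : app m v = v := by
  induction hm with
  | one => exact app_idm hv
  | step hg _ ih => rw [app_cmp, ih, h _ hg]

/-- The functional vanishes in one group of maps. -/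
theorem zero_of_check {gens ginv : List ℕ} {l : ℕ} {outs : List (OutCase × (ℕ × ℕ × ℕ × ℕ))}
    (hF : Facts ⟨gens, l⟩ outs) (hcode : ∀ g ∈ gens, IsCode g) (hinv : invOK gens ginv = true)
    (hok : ∀ o ∈ outs, classOK gens o.1 = true) {p m : ℕ} (hp : Gen gens p) (hne : p ≠ idm)
    (hsq : U62Rec.cmp p p = idm) (hmoved : ∀ v < 256, Moved p v → lv m v = false)
    (hstable : ∀ c, Gen gens c → U62Rec.cmp c p = U62Rec.cmp p c →
      ∀ v < 256, app p v = v → lv m (app c v) = lv m v)
    (hfixed : ∀ v < 256, app p v = v → (∀ g ∈ gens, app g v = v) → lv m v = false) :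
    ∀ v < 256, app p v = v → lv m v = false := by
  obtain ⟨o, ho, h, hh, e⟩ := hF.cls p hp hne hsq
  obtain ⟨n, hn, hhn⟩ := hh.exists_inv hcode hinv
  have hnh := left_inv_of_right hn.isCode hh.isCode hhn
  have hck := hok o ho
  simp only [classOK, Bool.and_eq_true, List.all_eq_true, mem_iff, decide_eq_true_eq] at hck
  obtain ⟨hspan, hcc⟩ := hck
  set c := o.1.c with hc
  -- transport along `h`
  have hpc : ∀ v, app p (app h v) = app h (app c v) := fun v => by rw [← app_cmp, ← app_cmp, e]
  have hgood : ∀ v ∈ spanners gens o.1, v < 256 ∧ app c v = v → lv m (app h v) = false := by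
    intro v hv ⟨hv256, hvfix⟩
    have hhv : app p (app h v) = app h v := by rw [hpc, hvfix]
    simp only [spanners, List.mem_append, List.mem_map, List.mem_flatMap, List.mem_filter,
      List.mem_range, List.all_eq_true, Nat.beq_eq] at hv
    rcases hv with (⟨u, hu, rfl⟩ | ⟨g, hg, w, hw, rfl⟩) | ⟨-, hall⟩
    · refine hmoved _ (app_lt _ _) ⟨app h u, app_lt _ _, ?_⟩
      rw [hpc, app_xor]
    · obtain ⟨hgg, hgc⟩ := (hF.hyp o ho).A_gen g hg
      simp only [OutCase.K, List.mem_filter, List.mem_range, Nat.beq_eq] at hw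
      obtain ⟨hw1, hw2⟩ := hw
      have hpg : U62Rec.cmp (U62Rec.cmp h (U62Rec.cmp g n)) p =
          U62Rec.cmp p (U62Rec.cmp h (U62Rec.cmp g n)) := by
        refine code_ext (isCode_cmp _ _) (isCode_cmp _ _) fun u hu => ?_
        simp only [app_cmp]
        rw [hpc]
        congr 1
        have e1 : app p u = app h (app c (app n u)) := by
          rw [← hpc, ← app_cmp h n, hhn, app_idm hu]
        rw [e1, ← app_cmp n h, hnh, app_idm (app_lt _ _), ← app_cmp g c, hgc, app_cmp]
      have h2 := hstable _ (hh.mul (hgg.mul hn)) hpg (app h w) (app_lt _ _) (by rw [hpc, hw2])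
      rw [app_cmp, app_cmp, ← app_cmp n h, hnh, app_idm hw1] at h2
      rw [app_xor, lv_xor, h2, Bool.xor_self]
    · rw [gen_fix hv256 hall hh]
      exact hfixed v hv256 (gen_fix hv256 hall hp) hall
  have hsp : ∀ v ∈ spanners gens o.1, v < 256 ∧ app c v = v := by
    intro v hv
    simp only [spanners, List.mem_append, List.mem_map, List.mem_flatMap, List.mem_filter,
      List.mem_range, List.all_eq_true, Nat.beq_eq] at hv
    rcases hv with (⟨u, hu, rfl⟩ | ⟨g, hg, w, hw, rfl⟩) | ⟨hv, hall⟩
    · refine ⟨Nat.xor_lt_two_pow (n := 8) (app_lt _ _) hu, ?_⟩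
      have hcc' : U62Rec.cmp c c = idm := by
        refine code_ext (isCode_cmp _ _) isCode_idm fun u hu => ?_
        rw [app_idm hu, app_cmp]
        refine app_inj hhn (app_lt _ _) hu ?_
        rw [← hpc, ← hpc, ← app_cmp p p, hsq, app_idm (app_lt _ _)]
      rw [app_xor, ← app_cmp c c, hcc', app_idm hu, Nat.xor_comm]
    · obtain ⟨hgg, hgc⟩ := (hF.hyp o ho).A_gen g hg
      simp only [OutCase.K, List.mem_filter, List.mem_range, Nat.beq_eq] at hw
      refine ⟨Nat.xor_lt_two_pow (n := 8) (app_lt _ _) hw.1, ?_⟩
      rw [app_xor, ← app_cmp c g, ← hgc, app_cmp, hw.2]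
    · refine ⟨hv, ?_⟩
      have hcg : Gen gens c := by
        have : c = U62Rec.cmp n (U62Rec.cmp p h) := by rw [e, ← cmp_assoc, hnh, idm_cmp hcc]
        rw [this]
        exact hn.mul (hp.mul hh)
      exact gen_fix hv hall hcg
  intro v hv hpv
  set w := app n v with hw
  have hwv : app h w = v := by rw [hw, ← app_cmp, hhn, app_idm hv]
  have hwK : w ∈ o.1.K := by
    simp only [OutCase.K, List.mem_filter, List.mem_range, Nat.beq_eq]
    refine ⟨app_lt _ _, app_inj hhn (app_lt _ _) (app_lt _ _) ?_⟩
    rw [← hpc, hwv, hpv]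
  have key := foldl_adj (P := fun x => lv m (app h x) = false)
    (fun a b ha hb => by simp only [app_xor, lv_xor, ha, hb]; rfl) _ [0]
    (fun x hx => hgood x hx (hsp x hx))
    (fun x hx => by
      rw [List.mem_singleton.1 hx, app_zero]
      simp [lv, par, Nat.land, Nat.xor, Nat.shiftRight]
      rfl) w (hspan w hwK)
  rwa [hwv] at key

end TripleFunctional

open TripleFunctional in
/-- A functional on the fixed space of an inner involution that vanishes on the moved vectors, is
stable and vanishes on the fixed vectors of all inner maps is zero. -/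
theorem functional_zero {c : List ℕ × ℕ} (hc : c ∈ outerCfgs ∨ c ∈ innerCfgs) {p m : ℕ}
    (h : InnerFunctional ⟨c.1, c.2⟩ p m) : ∀ v < 256, app p v = v → lv m v = false := by
  have hin : Gen (c.1.take 8) p := h.inner
  have hst := h.stable
  have hfx := h.fixed
  simp only [InnerCode] at hst
  rcases take_eight c (List.mem_append.2 hc) with e | e <;> rw [e] at hin hst hfx
  · refine zero_of_check (l := NatI.lin) (ginv := NatI.ginv) NatI.facts
      (Tab.spec_of_ok NatI.vt0_ok).code ?_ ?_ hin h.inv.ne h.inv.sq h.moved hst hfx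
    · decide +kernel
    · intro o ho
      fin_cases ho
      exacts [check_N.1, check_N.2]
  · refine zero_of_check (l := RedIP.lin) (ginv := RedIP.ginv) RedIP.facts
      (Tab.spec_of_ok RedIP.vt0_ok).code ?_ ?_ hin h.inv.ne h.inv.sq h.moved hst hfx
    · decide +kernel
    · intro o ho
      fin_cases ho
      exacts [check_R.1, check_R.2]

end Cfsg.Agent.Fi22Two
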