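import Cfsg.Agent.Fi22Two.IsolatedMain
import Cfsg.Agent.Fi22Two.IsolatedTwisted
import Cfsg.Agent.Fi22Two.Conj
import Cfsg.Agent.Fi22Two.Swap
import Cfsg.Agent.Fi22Two.TripleCheck
import Cfsg.Agent.Fi22Two.TripleFunctional

/-!
# `z` is isolated in its centraliser
-/

set_option autoImplicit false

open Cfsg Subgroup

namespace Cfsg.Agent.Fi22Two

open Cfsg.Agent.LargeExtra Cfsg.Agent.U62Rec

variable {G : Type*} [Group G] [Finite G] {z a : G}

/-- No other conjugate of `z` lies in `C z` when `a` is central there. -/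
theorem isolated_fixed (h : Hyp z a) (hf : Fixed z a) {c : List ℕ × ℕ} (hcm : c ∈ outerCfgs)
    (M : Mod2 ⟨c.1, c.2⟩ z a) (hz : ∀ g : G, g * z * g⁻¹ ∈ oc z → g * z * g⁻¹ = z)
    (hia : IsoIn z a) (hib : IsoIn z (a * z)) (g : G)
    (hg : g * z * g⁻¹ ∈ centralizer ({z} : Set G)) : g * z * g⁻¹ = z := by
  by_contra hne
  have S : Standing z a := ⟨h, hz, hia, hib⟩
  have hwz : Commute (g * z * g⁻¹) z := mem_cz.1 hg
  have P : Good z a g := ⟨hwz, hne, hf _ hg, hf.conj g z (mem_cz.2 hwz.symm)⟩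
  exact P.absurd S M (fun p x U T hp => triple_verdict (Or.inl hcm) T hp)
    (fun p m hm => functional_zero (Or.inl hcm) hm)
    (fun y hy => innerCode_iff hcm h hf M hy.1)
    (fun g' P' u v hu hv _ _ => P'.not_twisted S M hu hv)

/-- No other conjugate of `z` lies in `C z` when `a` is moved there. -/
theorem isolated_swap (h : Hyp z a) (hnf : ¬ Fixed z a) {c : List ℕ × ℕ} (hcm : c ∈ innerCfgs)
    (M : Mod2 ⟨c.1, c.2⟩ z a) (hz : ∀ g : G, g * z * g⁻¹ ∈ oc z → g * z * g⁻¹ = z)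
    (hia : IsoIn z a) (hib : IsoIn z (a * z)) (g : G)
    (hg : g * z * g⁻¹ ∈ centralizer ({z} : Set G)) : g * z * g⁻¹ = z := by
  by_contra hne
  have S : Standing z a := ⟨h, hz, hia, hib⟩
  have hwz : Commute (g * z * g⁻¹) z := mem_cz.1 hg
  have hwi := no_swapper h hnf hcm M hia hib g hg
  have hzi := z_inner h hnf hia hib g hwi
  have P : Good z a g := ⟨hwz, hne,
    mem_centralizer_singleton_iff.1 (h.inner_le_centralizer hwi),
    mem_centralizer_singleton_iff.1 ((h.conj g).inner_le_centralizer hzi)⟩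
  exact P.absurd S M (fun p x U T hp => triple_verdict (Or.inr hcm) T hp)
    (fun p m hm => functional_zero (Or.inr hcm) hm)
    (fun y hy => iff_of_true (innerCode_of_swap hcm M hy) (h.inf_centralizer hnf ▸ hy))
    (fun g' P' u v hu hv _ _ => P'.not_twisted S M hu hv)

end Cfsg.Agent.Fi22Two
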