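import Cfsg.Agent.Fi22Two.IsolatedSmall

/-!
# A triple cannot exist on both sides
-/

set_option autoImplicit false
set_option linter.unusedSectionVars false

open Cfsg Subgroup

namespace Cfsg.Agent.Fi22Two

open Cfsg.Agent.LargeExtra Cfsg.Agent.U62Rec Iso

variable {G : Type*} [Group G] [Finite G] {z a : G}

variable (h : Standing z a) {C : Cfg} (M : Mod2 C z a)
  (hVer : ∀ p x U, Triple C p x U → InnerCode C p → Verdict C p x U)
  (hFun : ∀ p m, InnerFunctional C p m → ∀ v < 256, app p v = v → lv m v = false)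
  (hbr : ∀ y ∈ cza z a, InnerCode C (M.rho y) ↔ y ∈ inner z)
  (hTw : ∀ (g : G), Good z a g → ∀ u v, Tr z a g u → Tr z a g v → u ≠ v →
    InnerCode C (M.rho u) → ¬ Twisted C (M.rho u) (M.rho v) (ulist M g))
include h hVer hFun hbr hTw

/-- Too few maps centralise the triple. -/
theorem Good.small {g : G} (P : Good z a g) : ∃ x y, Tr z a g x ∧ Tr z a g y ∧
    Small C (M.rho x) (M.rho y) (ulist M g) := by
  obtain ⟨x, y, hx, hy, hne, hxi⟩ : ∃ x y, Tr z a g x ∧ Tr z a g y ∧ x ≠ y ∧ x ∈ inner z := by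
    have hw : Tr z a g (g * z * g⁻¹) := Or.inl rfl
    have ha : Tr z a g (g * a * g⁻¹) := Or.inr (Or.inl rfl)
    have hne : g * z * g⁻¹ ≠ g * a * g⁻¹ := fun e =>
      h.hyp.ne (mul_left_cancel (mul_right_cancel e)).symm
    by_cases h1 : g * z * g⁻¹ ∈ inner z
    · exact ⟨_, _, hw, ha, hne, h1⟩
    by_cases h2 : g * a * g⁻¹ ∈ inner z
    · exact ⟨_, _, ha, hw, hne.symm, h2⟩
    refine ⟨g * z * g⁻¹ * (g * a * g⁻¹), _, P.tr_third h hw ha hne, hw, fun e => ?_,
      (h.hyp.mul_mem_inner_iff (P.tr_mem h hw).1 (P.tr_mem h ha).1).2 (iff_of_false h1 h2)⟩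
    exact h.hyp.a_ne_one (conj_eq_one_iff.1 (mul_eq_left.1 e))
  have hxm := P.tr_mem h hx
  have hym := P.tr_mem h hy
  have hT := P.triple h M hFun hbr hx hy hne
  refine ⟨x, y, hx, hy, (hVer _ _ _ hT ((hbr x hxm).2 hxi)).resolve_right ?_⟩
  rintro ⟨q, r, hq, hr, hqr, hqi, htw⟩
  have hthird : ∀ q, q = M.rho x ∨ q = M.rho y ∨ q = U62Rec.cmp (M.rho x) (M.rho y) →
      ∃ u, Tr z a g u ∧ q = M.rho u := by
    rintro q (rfl | rfl | rfl)
    exacts [⟨x, hx, rfl⟩, ⟨y, hy, rfl⟩, ⟨x * y, P.tr_third h hx hy hne, (M.rho_mul x hxm y hym).symm⟩]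
  obtain ⟨u, hu, rfl⟩ := hthird q hq
  obtain ⟨v, hv, rfl⟩ := hthird r hr
  exact hTw g P u v hu hv (fun e => hqr (by rw [e])) hqi htw

/-- No conjugate is seen from both sides. -/
theorem Good.absurd {g : G} (P : Good z a g) : False := by
  obtain ⟨x, y, hx, hy, L, hL, hmem, hlt⟩ := P.small h M hVer hFun hbr hTw
  obtain ⟨x', y', hx', hy', L', hL', hmem', hlt'⟩ := P.inv.small h M hVer hFun hbr hTw
  have h1 := P.card_le h M hx' hy' hL' hmem'
  have h2 := P.inv.card_le h M (x := x) (y := y) (by rw [inv_inv]; exact hx)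
    (by rw [inv_inv]; exact hy) hL hmem
  have h3 := Nat.mul_le_mul h1 h2
  have h4 := Nat.mul_lt_mul'' hlt hlt'
  have e : (radU (ulist M g)).length * Nat.gcd L'.length 256 *
        ((radU (ulist M g⁻¹)).length * Nat.gcd L.length 256) =
      (radU (ulist M g)).length * Nat.gcd L.length 256 *
        ((radU (ulist M g⁻¹)).length * Nat.gcd L'.length 256) := by ring
  omega

end Cfsg.Agent.Fi22Two
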