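import Cfsg.Agent.Fi22Two.IsolatedTools

/-!
# A commuting pair of conjugates: the three involutions seen from the other side
-/

set_option autoImplicit false
set_option linter.unusedSectionVars false

open Cfsg Subgroup

namespace Cfsg.Agent.Fi22Two

open Cfsg.Agent.LargeExtra Cfsg.Agent.U62Rec

variable {G : Type*} [Group G] [Finite G] {z a g : G}

/-- The standing hypotheses. -/
structure Standing (z a : G) : Prop where
  hyp : Hyp z a
  inJ : ∀ g : G, g * z * g⁻¹ ∈ oc z → g * z * g⁻¹ = z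
  iso_a : IsoIn z a
  iso_az : IsoIn z (a * z)

/-- A conjugate of `z` centralising `z` and `a`, seen in the same way from its own side. -/
structure Good (z a g : G) : Prop where
  cz : Commute (g * z * g⁻¹) z
  ne : g * z * g⁻¹ ≠ z
  ca : Commute (g * z * g⁻¹) a
  za : Commute z (g * a * g⁻¹)

/-- The three involutions of the other side. -/
def Tr (z a g x : G) : Prop := x = g * z * g⁻¹ ∨ x = g * a * g⁻¹ ∨ x = g * (a * z) * g⁻¹

theorem commute_conj_iff {x y : G} :
    Commute (g * x * g⁻¹) (g * y * g⁻¹) ↔ Commute x y := by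
  simp only [Commute, SemiconjBy, conjm]
  exact ⟨fun e => mul_left_cancel (mul_right_cancel e), fun e => by rw [e]⟩

theorem commute_back {x y : G} : Commute x (g * y * g⁻¹) ↔ Commute (g⁻¹ * x * g) y := by
  conv_lhs => rw [show x = g * (g⁻¹ * x * g) * g⁻¹ by group, commute_conj_iff]

theorem Good.inv (P : Good z a g) : Good z a g⁻¹ := by
  have e : ∀ x : G, g⁻¹ * x * g⁻¹⁻¹ = g⁻¹ * x * g := fun x => by rw [inv_inv]
  refine ⟨?_, fun e' => P.ne ?_, ?_, ?_⟩
  · rw [e]; exact commute_back.1 P.cz.symm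
  · rw [e] at e'
    calc g * z * g⁻¹ = g * (g⁻¹ * z * g) * g⁻¹ := by rw [e']
      _ = z := by group
  · rw [e]; exact commute_back.1 P.za
  · rw [e]
    exact (commute_back.1 P.ca.symm).symm

variable (h : Standing z a) (P : Good z a g)
include h P

theorem Good.z_notMem : z ∉ oc (g * z * g⁻¹) := fun hm => P.inv.ne (by
  have h1 : g⁻¹ * z * g⁻¹⁻¹ ∈ oc z := by rw [inv_inv]; exact oc_conj_back hm
  exact h.inJ g⁻¹ h1)

/-- On the other `oc`, the centralisers of `z`, `a`, `a * z` agree. -/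
theorem Good.same {y : G} (hy : y ∈ oc (g * z * g⁻¹)) :
    (Commute y z ↔ Commute y a) ∧ (Commute y z ↔ Commute y (a * z)) := by
  have hwH : g * z * g⁻¹ ∈ centralizer ({z} : Set G) := mem_cz.2 P.cz
  have h1 : Commute y z → Commute y a := by
    intro hyz
    rcases h.hyp.a_conj (mem_cz.2 hyz) with e | e
    · exact mul_inv_eq_iff_eq_mul.1 e
    · exfalso
      apply P.z_notMem h
      have haw : a ∈ centralizer ({g * z * g⁻¹} : Set G) :=
        mem_centralizer_singleton_iff.2 P.ca.symm.eq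
      have hm : y * (a * y⁻¹ * a⁻¹) ∈ oc (g * z * g⁻¹) :=
        mul_mem hy (oc_conj_mem haw (inv_mem hy))
      rwa [show y * (a * y⁻¹ * a⁻¹) = y * a * y⁻¹ * a⁻¹ by group, e,
        h.hyp.comm_za.symm.eq, mul_inv_cancel_right] at hm
  refine ⟨⟨h1, fun hya => ?_⟩, ⟨fun hyz => (h1 hyz).mul_right hyz, fun hyaz => ?_⟩⟩
  · exact fix_le h.hyp h.hyp.comm_za h.iso_a hwH P.ca y hy hya
  · exact fix_le h.hyp (h.hyp.comm_za.mul_right (Commute.refl z)) h.iso_az hwH (P.ca.mul_right P.cz)
      y hy hyaz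

/-- On `oc z` the centralisers of the three involutions agree. -/
theorem Good.tr_commute {x j : G} (hx : Tr z a g x) (hj : j ∈ oc z) :
    Commute j x ↔ Commute j (g * z * g⁻¹) := by
  have hy : g⁻¹ * j * g ∈ oc (g⁻¹ * z * g⁻¹⁻¹) := by
    have := conj_mem_oc (g := g⁻¹) hj
    rwa [inv_inv] at this ⊢
  obtain ⟨h1, h2⟩ := P.inv.same h hy
  rcases hx with rfl | rfl | rfl
  · exact Iff.rfl
  · rw [commute_back, commute_back]; exact h1.symm
  · rw [commute_back, commute_back]; exact h2.symm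

theorem Good.a_commute : Commute (g * a * g⁻¹) a :=
  (P.same h (conj_mem_oc h.hyp.a_mem)).1.1 P.za.symm

theorem Good.tr_mem {x : G} (hx : Tr z a g x) : x ∈ cza z a := by
  rcases hx with rfl | rfl | rfl
  · exact ⟨mem_cz.2 P.cz, mem_centralizer_singleton_iff.2 P.ca.eq⟩
  · exact ⟨mem_cz.2 P.za.symm, mem_centralizer_singleton_iff.2 (P.a_commute h).eq⟩
  · rw [show g * (a * z) * g⁻¹ = g * a * g⁻¹ * (g * z * g⁻¹) by group]
    exact mul_mem ⟨mem_cz.2 P.za.symm, mem_centralizer_singleton_iff.2 (P.a_commute h).eq⟩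
      ⟨mem_cz.2 P.cz, mem_centralizer_singleton_iff.2 P.ca.eq⟩

theorem Good.tr_sq {x : G} (hx : Tr z a g x) : x * x = 1 := by
  rcases hx with rfl | rfl | rfl <;> rw [conjm]
  · rw [h.hyp.zz]; group
  · rw [h.hyp.aa]; group
  · rw [h.hyp.other.aa]; group

theorem Good.tr_pair {x y : G} (hx : Tr z a g x) (hy : Tr z a g y) : Commute x y := by
  have hza := h.hyp.comm_za
  have haz : Commute (a * z) z := hza.symm.mul_left (Commute.refl z)
  have haza : Commute (a * z) a := (Commute.refl a).mul_left hza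
  rcases hx with rfl | rfl | rfl <;> rcases hy with rfl | rfl | rfl <;> rw [commute_conj_iff]
  exacts [hza, haz.symm, hza.symm, haza.symm, haz, haza]

theorem Good.tr_third {x y : G} (hx : Tr z a g x) (hy : Tr z a g y) (hne : x ≠ y) :
    Tr z a g (x * y) := by
  have hza := h.hyp.comm_za.eq
  have e1 : a * z * z = a := by rw [mul_assoc, h.hyp.zz, mul_one]
  have e2 : z * (a * z) = a := by rw [← mul_assoc, hza, e1]
  have e3 : a * (a * z) = z := by rw [← mul_assoc, h.hyp.aa, one_mul]
  have e4 : a * z * a = z := by rw [mul_assoc, hza, e3]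
  rcases hx with rfl | rfl | rfl <;> rcases hy with rfl | rfl | rfl
  all_goals first
    | exact absurd rfl hne
    | (rw [conjm]; first
        | exact Or.inr (Or.inr (by rw [hza]))
        | exact Or.inr (Or.inr rfl)
        | exact Or.inr (Or.inl (by first | rw [e2] | rw [e1]))
        | exact Or.inl (by first | rw [e3] | rw [e4]))

/-- The three involutions are outside `oc z`. -/
theorem Good.tr_notMem {x : G} (hx : Tr z a g x) : x ∉ oc z := by
  intro hxJ
  have hwH : g * z * g⁻¹ ∈ centralizer ({z} : Set G) := mem_cz.2 P.cz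
  rcases hx with rfl | hx
  · exact P.ne (h.inJ g hxJ)
  by_cases hc : ∀ j ∈ oc z, Commute x j
  · have hiso : ∀ u, IsoIn z u → g * u * g⁻¹ = u → False := fun u hu e =>
      P.ne (hu g (mul_inv_eq_iff_eq_mul.1 e) P.cz)
    have hswap : ∀ u v, (u = a ∧ v = a * z) ∨ (u = a * z ∧ v = a) → g * u * g⁻¹ = v → False := by
      intro u v huv e
      by_cases hf : Fixed z a
      · rcases huv with ⟨rfl, rfl⟩ | ⟨rfl, rfl⟩
        · exact fixed_not_conj h.hyp hf (isConj_iff.2 ⟨g, e⟩)
        · exact fixed_not_conj h.hyp hf (isConj_iff.2 ⟨g, e⟩).symm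
      · obtain ⟨s, hs, hsa⟩ : ∃ s ∈ centralizer ({z} : Set G), ¬ Commute s a := by
          simp only [Fixed, not_forall] at hf
          obtain ⟨s, hs, hsa⟩ := hf
          exact ⟨s, hs, hsa⟩
        have e1 : s * a * s⁻¹ = a * z :=
          (h.hyp.a_conj hs).resolve_left fun e' => hsa (mul_inv_eq_iff_eq_mul.1 e')
        have e2 : s * (a * z) * s⁻¹ = a := by
          rw [show s * (a * z) * s⁻¹ = s * a * s⁻¹ * (s * z * s⁻¹) by group, e1, (mem_cz.1 hs).eq,
            mul_inv_cancel_right, mul_assoc, h.hyp.zz, mul_one]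
        have key : s * (g * z * g⁻¹) * s⁻¹ = z := by
          have hcz : Commute (s * g * z * (s * g)⁻¹) z := by
            have := (commute_conj_iff (g := s)).2 P.cz
            rwa [(mem_cz.1 hs).eq, mul_inv_cancel_right,
              show s * (g * z * g⁻¹) * s⁻¹ = s * g * z * (s * g)⁻¹ by group] at this
          have e0 : s * g * u * (s * g)⁻¹ = u := by
            rw [show s * g * u * (s * g)⁻¹ = s * (g * u * g⁻¹) * s⁻¹ by group, e]
            rcases huv with ⟨rfl, rfl⟩ | ⟨rfl, rfl⟩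
            exacts [e2, e1]
          rw [show s * (g * z * g⁻¹) * s⁻¹ = s * g * z * (s * g)⁻¹ by group]
          rcases huv with ⟨rfl, -⟩ | ⟨rfl, -⟩
          · exact h.iso_a _ (mul_inv_eq_iff_eq_mul.1 e0) hcz
          · exact h.iso_az _ (mul_inv_eq_iff_eq_mul.1 e0) hcz
        refine P.ne ?_
        calc g * z * g⁻¹ = s⁻¹ * (s * (g * z * g⁻¹) * s⁻¹) * s := by group
          _ = s⁻¹ * (z * s) := by rw [key, mul_assoc]
          _ = z := by rw [← (mem_cz.1 hs).eq, inv_mul_cancel_left]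
    rcases h.hyp.central_cases hc with e | e | e | e <;> rcases hx with rfl | rfl
    · exact h.hyp.a_ne_one (conj_eq_one_iff.1 e)
    · exact h.hyp.other.a_ne_one (conj_eq_one_iff.1 e)
    · exact not_conj h.hyp (isConj_iff.2 ⟨g, e⟩).symm
    · exact not_conj_az h.hyp (isConj_iff.2 ⟨g, e⟩).symm
    · exact hiso a h.iso_a e
    · exact hswap (a * z) a (Or.inr ⟨rfl, rfl⟩) e
    · exact hswap a (a * z) (Or.inl ⟨rfl, rfl⟩) e
    · exact hiso (a * z) h.iso_az e
  · exact P.ne (h.inJ g (mem_oc_of_fix h.hyp hwH hxJ (P.tr_sq h (Or.inr hx)) hc fun j hj hjx =>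
      (P.tr_commute h (Or.inr hx) hj).1 hjx))

theorem Good.central_notMem {x : G} (hx : x = 1 ∨ x = z ∨ x = a ∨ x = a * z)
    (hm : x ∈ oc (g * z * g⁻¹)) : x = 1 := by
  have hb := oc_conj_back hm
  rcases hx with e | e | e | e <;> subst e
  · rfl
  · exact absurd hm (P.z_notMem h)
  · exact absurd hb (P.inv.tr_notMem h (Or.inr (Or.inl (by rw [inv_inv]))))
  · exact absurd hb (P.inv.tr_notMem h (Or.inr (Or.inr (by rw [inv_inv]))))

end Cfsg.Agent.Fi22Two
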