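import Cfsg.Agent.Fi22Two.Basic
import Cfsg.Agent.Fi22Two.Inner
import Cfsg.Agent.Fi22Two.TripleDef

/-!
# Coordinates: the elementary consequences, and functionals on subspaces
-/

set_option autoImplicit false
set_option linter.unusedSectionVars false

open Cfsg Subgroup

namespace Cfsg.Agent.Fi22Two

open Cfsg.Agent.LargeExtra Cfsg.Agent.U62Rec

namespace Iso

theorem lv_xor_left (l m v : ℕ) : lv (l ^^^ m) v = (lv l v ^^ lv m v) := by
  show Nat.beq (par (((l ^^^ m) &&& 255) &&& v)) 1 = _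
  rw [Nat.and_xor_distrib_right, Nat.and_xor_distrib_right, parB_xor]
  rfl

theorem lv_zero : ∀ v < 256, lv 0 v = false := by decide +kernel

theorem lv_bit : ∀ n < 8, ∀ v < 256, v < 2 ^ (n + 1) → lv (2 ^ n) v = decide (2 ^ n ≤ v) := by
  decide +kernel

theorem top_xor : ∀ n < 8, ∀ v < 256, ∀ w < 256, v < 2 ^ (n + 1) → w < 2 ^ (n + 1) → 2 ^ n ≤ v →
    2 ^ n ≤ w → v ^^^ w < 2 ^ n := by
  intro n hn v _ w _ hv1 hw1 hv hw
  have hbit : ∀ u, u < 2 ^ (n + 1) → 2 ^ n ≤ u → u / 2 ^ n = 1 := fun u h1 h2 =>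
    Nat.div_eq_of_lt_le (by omega) (by rw [pow_succ] at h1; omega)
  have h : (v ^^^ w) / 2 ^ n = 0 := by
    rw [Nat.xor_div_two_pow, hbit v hv1 hv, hbit w hw1 hw, Nat.xor_self]
  exact (Nat.div_eq_zero_iff.1 h).resolve_left (by positivity)

/-- An additive function on a subspace is given by coefficients. -/
theorem exists_lv (S : ℕ → Prop) (f : ℕ → Bool) (hS : ∀ v w, S v → S w → S (v ^^^ w))
    (hf : ∀ v w, S v → S w → f (v ^^^ w) = (f v ^^ f w)) :
    ∃ m < 256, ∀ v < 256, S v → lv m v = f v := by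
  classical
  suffices ∀ n, n ≤ 8 → ∃ m < 256, ∀ v < 256, v < 2 ^ n → S v → lv m v = f v by
    obtain ⟨m, hm, hmv⟩ := this 8 le_rfl
    exact ⟨m, hm, fun v hv hSv => hmv v hv (by simpa using hv) hSv⟩
  intro n
  induction n with
  | zero =>
    intro _
    refine ⟨0, by norm_num, fun v hv hv1 hSv => ?_⟩
    obtain rfl : v = 0 := by simpa using hv1
    have := hf 0 0 hSv hSv
    rw [Nat.xor_self] at this
    rw [lv_zero 0 hv]
    cases h0 : f 0 <;> simp_all
  | succ n ih =>
    intro hn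
    obtain ⟨m, hm, hmv⟩ := ih (by omega)
    by_cases hex : ∃ s < 256, s < 2 ^ (n + 1) ∧ 2 ^ n ≤ s ∧ S s
    · obtain ⟨s, hs, hs1, hs2, hSs⟩ := hex
      set m' := if lv m s = f s then m else m ^^^ 2 ^ n with hm'
      have hlow : ∀ v < 256, v < 2 ^ n → lv m' v = lv m v := fun v hv hv1 => by
        rw [hm']; split
        · rfl
        · rw [lv_xor_left, lv_bit n (by omega) v hv (hv1.trans_le (Nat.pow_le_pow_right two_pos (by omega)))]
          simp [Nat.not_le.2 hv1]
      have htop : lv m' s = f s := by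
        rw [hm']; split
        · assumption
        · rename_i hne
          rw [lv_xor_left, lv_bit n (by omega) s hs hs1]
          simp only [hs2, decide_true]
          cases h1 : lv m s <;> cases h2 : f s <;> simp_all
      refine ⟨m', ?_, fun v hv hv1 hSv => ?_⟩
      · rw [hm']; split
        · exact hm
        · exact Nat.xor_lt_two_pow (n := 8) hm (Nat.pow_lt_pow_right one_lt_two (by omega))
      · by_cases hvn : v < 2 ^ n
        · rw [hlow v hv hvn]; exact hmv v hv hvn hSv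
        · have hx := top_xor n (by omega) v hv s hs hv1 hs1 (Nat.le_of_not_lt hvn) hs2
          have hxl : v ^^^ s < 256 := Nat.xor_lt_two_pow (n := 8) hv hs
          have e1 : lv m' (v ^^^ s) = f (v ^^^ s) := by
            rw [hlow _ hxl hx]; exact hmv _ hxl hx (hS v s hSv hSs)
          rw [lv_xor, htop, hf v s hSv hSs] at e1
          exact Bool.xor_left_inj.1 e1
    · push Not at hex
      refine ⟨m, hm, fun v hv hv1 hSv => hmv v hv ?_ hSv⟩
      by_contra hc
      exact hex v hv hv1 (Nat.le_of_not_lt hc) hSv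

end Iso

variable {G : Type*} [Group G] [Finite G] {z a : G}

/-- The centraliser of `z` and `a`. -/
abbrev cza (z a : G) : Subgroup G := centralizer ({z} : Set G) ⊓ centralizer ({a} : Set G)

namespace Mod2

variable {C : Cfg} (M : Mod2 C z a)

theorem bone : M.bar 1 = 0 := (M.bar_eq 1 (one_mem _)).2 (Or.inl rfl)

theorem binv {x : G} (hx : x ∈ oc z) : M.bar x⁻¹ = M.bar x := by
  have h1 := M.bar_mul x⁻¹ (inv_mem hx) x hx
  rw [inv_mul_cancel, M.bone] at h1
  exact Nat.xor_eq_zero_iff.1 h1.symm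

theorem bcong {x y : G} (hx : x ∈ oc z) (hy : y ∈ oc z) (e : M.bar x = M.bar y) :
    x⁻¹ * y = 1 ∨ x⁻¹ * y = z ∨ x⁻¹ * y = a ∨ x⁻¹ * y = a * z :=
  (M.bar_eq _ (mul_mem (inv_mem hx) hy)).1 (by
    rw [M.bar_mul _ (inv_mem hx) _ hy, M.binv hx, e, Nat.xor_self])

theorem rone : M.rho 1 = idm := (M.rho_ker 1 (one_mem _)).2 (one_mem _)

theorem rcancel {x : G} (hx : x ∈ cza z a) : U62Rec.cmp (M.rho x) (M.rho x⁻¹) = idm := by
  rw [← M.rho_mul x hx _ (inv_mem hx), mul_inv_cancel, M.rone]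

theorem rinj {x y : G} (hx : x ∈ cza z a) (hy : y ∈ cza z a) : M.rho x = M.rho y ↔ x⁻¹ * y ∈ oc z := by
  rw [← M.rho_ker _ (mul_mem (inv_mem hx) hy), M.rho_mul _ (inv_mem hx) y hy]
  constructor
  · intro e
    rw [← e, ← M.rho_mul _ (inv_mem hx) x hx, inv_mul_cancel, M.rone]
  · intro e
    calc M.rho x = U62Rec.cmp (M.rho x) (U62Rec.cmp (M.rho x⁻¹) (M.rho y)) := by
          rw [e, cmp_idm (M.rho_code x)]
      _ = M.rho y := by rw [← cmp_assoc, M.rcancel hx, idm_cmp (M.rho_code y)]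

theorem lift {m : ℕ} (hm : Gen C.gens m) : ∃ x ∈ cza z a, M.rho x = m := by
  induction hm with
  | one => exact ⟨1, one_mem _, M.rone⟩
  | @step g m hg _ ih =>
    obtain ⟨x, hx, rfl⟩ := ih
    obtain ⟨y, hy, rfl⟩ := M.rho_surj g hg
    exact ⟨y * x, mul_mem hy hx, M.rho_mul y hy x hx⟩

theorem qv_iff (h : Hyp z a) {x : G} (hx : x ∈ oc z) : qv C.l (M.bar x) = false ↔ x * x = 1 := by
  rw [M.sq x hx]
  cases qv C.l (M.bar x) <;> simp [h.z_ne_one]

theorem fv_iff (h : Hyp z a) {x y : G} (hx : x ∈ oc z) (hy : y ∈ oc z) :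
    fv (M.bar x) (M.bar y) = false ↔ Commute x y := by
  constructor
  · intro e
    have h1 := M.comm x hx y hy
    rw [e] at h1
    exact mul_inv_eq_iff_eq_mul.1 (mul_inv_eq_one.1 (by simpa using h1))
  · intro e
    have h1 := M.comm x hx y hy
    rw [e.eq, mul_inv_cancel_right, mul_inv_cancel] at h1
    cases hfv : fv (M.bar x) (M.bar y)
    · rfl
    · rw [hfv] at h1; exact absurd h1.symm h.z_ne_one

end Mod2

end Cfsg.Agent.Fi22Two
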