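import Cfsg.Agent.Fi22Two.NatFacts
import Cfsg.Agent.U62Rec.Points.NatO

/-!
# The permutation of the transvections
-/

set_option autoImplicit false
set_option maxRecDepth 65536

namespace Cfsg.Agent.Fi22Two.OuterCheck

open Cfsg.Agent.U62Rec

/-- The transvections. -/
def pcodes : List ℕ := NatO.pts.map (·.1)

/-- The transvection with the given number. -/
def pc (i : Fin 45) : ℕ := pcodes.getD i 0

/-- The number of a transvection. -/
def pos (q : ℕ) : Fin 45 := Fin.ofNat 45 (pcodes.findIdx fun p => Nat.beq p q)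

theorem pc_mem (i : Fin 45) : pc i ∈ pcodes := by
  have h : ∀ j : Fin 45, mem (pc j) pcodes = true := by decide +kernel
  exact mem_iff.1 (h i)

theorem pos_pc : ∀ i : Fin 45, pos (pc i) = i := by decide +kernel

theorem pc_pos : ∀ q ∈ pcodes, pc (pos q) = q := by decide +kernel

theorem pcodes_code : ∀ q ∈ pcodes, q < 2 ^ 64 := by decide +kernel

theorem gens_perm : ∀ g ∈ NatO.gens, ∀ p ∈ pcodes, ∃ q ∈ pcodes, U62Rec.cmp g p = U62Rec.cmp q g := by
  decide +kernel

/-- Generated maps permute the transvections. -/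
theorem gen_perm {m : ℕ} (hm : Gen NatO.gens m) :
    ∀ p ∈ pcodes, ∃ q ∈ pcodes, U62Rec.cmp m p = U62Rec.cmp q m := by
  induction hm with
  | one => exact fun p hp => ⟨p, hp, by rw [idm_cmp (pcodes_code p hp), cmp_idm (pcodes_code p hp)]⟩
  | @step g m hg _ ih =>
    intro p hp
    obtain ⟨q, hq, e⟩ := ih p hp
    obtain ⟨q', hq', e'⟩ := gens_perm g hg q hq
    exact ⟨q', hq', by rw [cmp_assoc, e, ← cmp_assoc, e', cmp_assoc]⟩

/-- The permutation of the transvections given by `sOut`. -/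
def fs (i : Fin 45) : Fin 45 := pos (U62Rec.cmp (U62Rec.cmp NatFacts.sOut (pc i)) NatFacts.sOut)

theorem fs_inv : ∀ i : Fin 45, fs (fs i) = i := by decide +kernel

/-- The same as a permutation. -/
def sig : Equiv.Perm (Fin 45) := ⟨fs, fs, fs_inv, fs_inv⟩

theorem sign_sig : Equiv.Perm.sign sig = -1 := by decide +kernel

theorem perp_fix : ∀ b < 256, (∀ v ∈ NatFacts.W16, fv b v = false) → app NatFacts.sOut b = b := by
  decide +kernel

/-- The eighth power of `cFive`. -/
def cd : ℕ :=
  U62Rec.cmp NatFacts.cFive (U62Rec.cmp NatFacts.cFive NatFacts.cFive)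

theorem cd_facts : cd ≠ idm ∧ NatFacts.pow5 cd = idm ∧
    (let c := NatFacts.cFive
     U62Rec.cmp c (U62Rec.cmp c (U62Rec.cmp c (U62Rec.cmp c (U62Rec.cmp c (U62Rec.cmp c
      (U62Rec.cmp c c))))))) = cd ∧
    (∀ b < 256, ∃ v < 256, app cd v ^^^ v = b) := by
  decide +kernel

end Cfsg.Agent.Fi22Two.OuterCheck
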