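import Cfsg.Agent.Fi22Two.Basic
import Cfsg.Agent.Fi22Two.Eval
import Cfsg.Agent.Fi22Two.Inner
import Cfsg.Agent.Fi22Two.OuterCheck

/-!
# A subgroup of index two when `C z` fixes `a`

The transfer of the outer character of `C z` is evaluated at a lift `s` of the involution with
centraliser `2 × S₆`.
-/

set_option autoImplicit false

open Cfsg Subgroup

namespace Cfsg.Agent.Fi22Two

open Cfsg.Agent.LargeExtra Cfsg.Agent.U62Rec NatFacts OuterCheck

variable {G : Type*} [Group G] [Finite G] {z a : G}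

namespace Outer

theorem cpow (g x : G) (k : ℕ) : (g⁻¹ * x * g) ^ k = g⁻¹ * x ^ k * g := by
  simpa using conj_pow (a := g⁻¹) (b := x) (i := k)

variable (h : Hyp z a) (hf : Fixed z a) (M : Mod2 ⟨NatO.gens, NatO.lin⟩ z a)

include hf in
theorem both {x : G} (hx : x ∈ centralizer ({z} : Set G)) :
    x ∈ centralizer ({z} : Set G) ⊓ centralizer ({a} : Set G) :=
  ⟨hx, mem_centralizer_singleton_iff.2 (hf x hx).eq⟩

section
include hf

theorem rmul {x y : G} (hx : x ∈ centralizer ({z} : Set G)) (hy : y ∈ centralizer ({z} : Set G)) :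
    M.rho (x * y) = U62Rec.cmp (M.rho x) (M.rho y) := M.rho_mul x (both hf hx) y (both hf hy)

theorem ract {x y : G} (hx : x ∈ centralizer ({z} : Set G)) (hy : y ∈ oc z) :
    M.bar (x * y * x⁻¹) = app (M.rho x) (M.bar y) := M.rho_act x (both hf hx) y hy

theorem rker {x : G} (hx : x ∈ centralizer ({z} : Set G)) : M.rho x = idm ↔ x ∈ oc z :=
  M.rho_ker x (both hf hx)

theorem rgen {x : G} (hx : x ∈ centralizer ({z} : Set G)) : Gen NatO.gens (M.rho x) :=
  M.rho_gen x (both hf hx)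

theorem rone : M.rho 1 = idm := (rker hf M (one_mem _)).2 (one_mem _)

theorem rinv {x : G} (hx : x ∈ centralizer ({z} : Set G)) :
    U62Rec.cmp (M.rho x) (M.rho x⁻¹) = idm := by
  rw [← rmul hf M hx (inv_mem hx), mul_inv_cancel, rone hf M]

theorem rlift {m : ℕ} (hm : Gen NatO.gens m) :
    ∃ x ∈ centralizer ({z} : Set G), M.rho x = m := by
  induction hm with
  | one => exact ⟨1, one_mem _, rone hf M⟩
  | @step g m hg _ ih =>
    obtain ⟨x, hx, rfl⟩ := ih
    obtain ⟨y, hy, rfl⟩ := M.rho_surj g hg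
    exact ⟨y * x, mul_mem hy.1 hx, rmul hf M hy.1 hx⟩

end

theorem bone : M.bar 1 = 0 := (M.bar_eq 1 (one_mem _)).2 (Or.inl rfl)

theorem binv {x : G} (hx : x ∈ oc z) : M.bar x⁻¹ = M.bar x := by
  have h1 := M.bar_mul x⁻¹ (inv_mem hx) x hx
  rw [inv_mul_cancel, bone M] at h1
  exact Nat.xor_eq_zero_iff.1 h1.symm

include h hf in
theorem central {x : G} (hx : x ∈ oc z) (hb : M.bar x = 0) :
    (∀ g ∈ centralizer ({z} : Set G), Commute g x) ∧ x * x = 1 := by
  rcases (M.bar_eq x hx).1 hb with e | e | e | e <;> subst e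
  · exact ⟨fun g _ => Commute.one_right g, one_mul 1⟩
  · exact ⟨fun g hg => mem_cz.1 hg, h.zz⟩
  · exact ⟨hf, h.aa⟩
  · exact ⟨fun g hg => (hf g hg).mul_right (mem_cz.1 hg),
      by rw [h.comm_za.mul_mul_mul_comm, h.aa, h.zz, one_mul]⟩

include h in
theorem oc_four {x : G} (hx : x ∈ oc z) : x ^ 4 = 1 := by
  rw [show 4 = 2 * 2 from rfl, pow_mul, sq, sq]
  rcases h.sq x hx with e | e <;> rw [e]
  exacts [one_mul 1, h.zz]

/-- A lift of the outer involution with central square. -/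
structure Lift (s : G) : Prop where
  mem : s ∈ centralizer ({z} : Set G)
  rho : M.rho s = sOut
  sq_mem : s * s ∈ oc z
  sq_bar : M.bar (s * s) = 0

include hf in
theorem rho_inv {s : G} (hs : s ∈ centralizer ({z} : Set G)) (e : M.rho s = sOut) :
    M.rho s⁻¹ = sOut := by
  have h1 := rinv hf M hs
  rw [e] at h1
  exact cancel_left sOut_sq (M.rho_code _) sOut_gen.isCode (h1.trans sOut_sq.symm)

include hf in
theorem exists_lift : ∃ s, Lift M s := by
  obtain ⟨x, hx, hxr⟩ := rlift hf M sOut_gen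
  have hxx : x * x ∈ oc z :=
    (rker hf M (mul_mem hx hx)).1 (by rw [rmul hf M hx hx, hxr, sOut_sq])
  have hfx : app sOut (M.bar (x * x)) = M.bar (x * x) := by
    rw [← hxr, ← ract hf M hx hxx]
    congr 1; group
  obtain ⟨v, hv, hve⟩ := (sOut_image (M.bar_lt _)).1 hfx
  obtain ⟨t, ht, rfl⟩ := M.bar_surj v hv
  have hu : x⁻¹ * t * x⁻¹⁻¹ ∈ oc z := oc_conj_mem (inv_mem hx) ht
  have e : x * t * (x * t) = x * x * ((x⁻¹ * t * x⁻¹⁻¹) * t) := by group
  refine ⟨x * t, mul_mem hx (oc_le z ht), ?_, e ▸ mul_mem hxx (mul_mem hu ht), ?_⟩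
  · rw [rmul hf M hx (oc_le z ht), (rker hf M (oc_le z ht)).2 ht, cmp_idm (M.rho_code x), hxr]
  · rw [e, M.bar_mul _ hxx _ (mul_mem hu ht), M.bar_mul _ hu _ ht, ract hf M (inv_mem hx) ht,
      rho_inv hf M hx hxr, hve, Nat.xor_self]

section
variable {s : G} (hs : Lift M s)
include h hf hs

theorem s_four : s ^ 4 = 1 := by
  rw [show 4 = 2 * 2 from rfl, pow_mul, sq, sq]
  exact (central h hf M hs.sq_mem hs.sq_bar).2

/-- Conjugates of `s` under `oc z`. -/
theorem conj_lift {j : G} (hj : j ∈ oc z) (hjf : app sOut (M.bar j) = M.bar j) :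
    ∃ y ∈ oc z, ∃ c ∈ oc z, M.bar c = 0 ∧ y * s * y⁻¹ = s * j * c := by
  obtain ⟨v, hv, hve⟩ := (sOut_image (M.bar_lt _)).1 hjf
  obtain ⟨y, hy, rfl⟩ := M.bar_surj v hv
  have hu : s⁻¹ * y * s⁻¹⁻¹ ∈ oc z := oc_conj_mem (inv_mem hs.mem) hy
  refine ⟨y, hy, j⁻¹ * ((s⁻¹ * y * s⁻¹⁻¹) * y⁻¹),
    mul_mem (inv_mem hj) (mul_mem hu (inv_mem hy)), ?_, by group⟩
  rw [M.bar_mul _ (inv_mem hj) _ (mul_mem hu (inv_mem hy)), M.bar_mul _ hu _ (inv_mem hy),
    binv M hy, binv M hj, ract hf M (inv_mem hs.mem) hy, rho_inv hf M hs.mem hs.rho, hve,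
    Nat.xor_self]

theorem comm_iff {x : G} (hx : x ∈ oc z) : Commute x s ↔ app sOut (M.bar x) = M.bar x := by
  constructor
  · intro e
    rw [← hs.rho, ← ract hf M hs.mem hx, ← e.eq, mul_inv_cancel_right]
  · intro e
    obtain ⟨v, hv, hve⟩ := (sOut_image (M.bar_lt _)).1 e
    obtain ⟨y, hy, rfl⟩ := M.bar_surj v hv
    set x0 := s * y * s⁻¹ * y⁻¹ with hx0
    have hx0m : x0 ∈ oc z := mul_mem (oc_conj_mem hs.mem hy) (inv_mem hy)
    have hb : M.bar x0 = M.bar x := by
      rw [hx0, M.bar_mul _ (oc_conj_mem hs.mem hy) _ (inv_mem hy), ract hf M hs.mem hy, binv M hy,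
        hs.rho, hve]
    have h1 : x0 * x0 = 1 := by
      rw [M.sq x0 hx0m, hb, sOut_q (M.bar_lt _) e, if_neg (by simp)]
    have hy2 : Commute (s * s) y := ((central h hf M hs.sq_mem hs.sq_bar).1 y (oc_le z hy)).symm
    have h2 : s * x0 * s⁻¹ = x0 := by
      calc s * x0 * s⁻¹ = (s * s * y) * (s * s)⁻¹ * (s * y * s⁻¹)⁻¹ * 1 := by rw [hx0]; group
        _ = y * s * y⁻¹ * s⁻¹ := by rw [hy2.eq]; group
        _ = x0⁻¹ := by rw [hx0]; group
        _ = x0 := inv_eq_of_mul_eq_one_right h1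
    have hcm : x0⁻¹ * x ∈ oc z := mul_mem (inv_mem hx0m) hx
    have hc : M.bar (x0⁻¹ * x) = 0 := by
      rw [M.bar_mul _ (inv_mem hx0m) _ hx, binv M hx0m, hb, Nat.xor_self]
    have h3 : Commute x0 s := (mul_inv_eq_iff_eq_mul.1 h2).symm
    have h4 : Commute (x0⁻¹ * x) s := ((central h hf M hcm hc).1 s hs.mem).symm
    simpa using h3.mul_left h4

theorem R_sq {x : G} (hx : x ∈ oc z ⊓ centralizer ({s} : Set G)) : x * x = 1 := by
  have e := (comm_iff h hf M hs hx.1).1 (mem_centralizer_singleton_iff.1 hx.2)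
  rw [M.sq x hx.1, sOut_q (M.bar_lt _) e, if_neg (by simp)]

/-- The centraliser of `R = C_J(s)`. -/
theorem cent_R {x : G} (hx : x ∈ centralizer ({z} : Set G))
    (hxR : ∀ r ∈ oc z ⊓ centralizer ({s} : Set G), Commute x r) :
    Commute x s ∧ (x ∈ oc z ⊓ centralizer ({s} : Set G) ∨
      ∃ r ∈ oc z ⊓ centralizer ({s} : Set G), x = s * r) := by
  have hmem : ∀ {y : G}, y ∈ oc z → app sOut (M.bar y) = M.bar y →
      y ∈ oc z ⊓ centralizer ({s} : Set G) := fun hy e =>
    ⟨hy, mem_centralizer_singleton_iff.2 ((comm_iff h hf M hs hy).2 e).eq⟩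
  have inJ : ∀ {y : G}, y ∈ oc z → (∀ r ∈ oc z ⊓ centralizer ({s} : Set G), Commute y r) →
      y ∈ oc z ⊓ centralizer ({s} : Set G) := by
    intro y hy hyR
    refine hmem hy (perp_fix _ (M.bar_lt y) fun v hv => ?_)
    obtain ⟨hv1, hv2⟩ := sOut_W.1 hv
    obtain ⟨r, hr, rfl⟩ := M.bar_surj v hv1
    have e := M.comm y hy r hr
    rw [(hyR r (hmem hr hv2)).eq, mul_inv_cancel_right, mul_inv_cancel] at e
    cases e' : fv (M.bar y) (M.bar r)
    · rfl
    · rw [e', if_pos rfl] at e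
      exact absurd e.symm h.z_ne_one
  have hW : ∀ v ∈ W16, app (M.rho x) v = v := by
    intro v hv
    obtain ⟨hv1, hv2⟩ := sOut_W.1 hv
    obtain ⟨r, hr, rfl⟩ := M.bar_surj v hv1
    rw [← ract hf M hx hr, (hxR r (hmem hr hv2)).eq, mul_inv_cancel_right]
  rcases sOut_fixW (rgen hf M hx) hW with e | e
  · have h1 := inJ ((rker hf M hx).1 e) hxR
    exact ⟨mem_centralizer_singleton_iff.1 h1.2, Or.inl h1⟩
  · have hj : s⁻¹ * x ∈ oc z := (rker hf M (mul_mem (inv_mem hs.mem) hx)).1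
      (by rw [rmul hf M (inv_mem hs.mem) hx, rho_inv hf M hs.mem hs.rho, e, sOut_sq])
    have h1 := inJ hj fun r hr =>
      (Commute.inv_left (Commute.symm (mem_centralizer_singleton_iff.1 hr.2))).mul_left (hxR r hr)
    refine ⟨?_, Or.inr ⟨_, h1, (mul_inv_cancel_left s x).symm⟩⟩
    have := (Commute.refl s).mul_left (mem_centralizer_singleton_iff.1 h1.2 : Commute (s⁻¹ * x) s)
    simpa using this

/-- An element of order five centralising `s`. -/
theorem exists_five : ∃ d ∈ centralizer ({z} : Set G), d ^ 5 = 1 ∧ M.rho d = cd ∧ Commute d s := by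
  obtain ⟨x, hx, hxr⟩ := rlift hf M cFive_gen
  have hsx : s⁻¹ * (x * s * x⁻¹) ∈ centralizer ({z} : Set G) :=
    mul_mem (inv_mem hs.mem) (mul_mem (mul_mem hx hs.mem) (inv_mem hx))
  set j := s⁻¹ * (x * s * x⁻¹) with hj
  have hjm : j ∈ oc z := by
    refine (rker hf M hsx).1 ?_
    have hi := rinv hf M hx
    rw [hxr] at hi
    rw [hj, rmul hf M (inv_mem hs.mem) (mul_mem (mul_mem hx hs.mem) (inv_mem hx)),
      rmul hf M (mul_mem hx hs.mem) (inv_mem hx), rmul hf M hx hs.mem, rho_inv hf M hs.mem hs.rho,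
      hxr, hs.rho, cFive_comm, cmp_assoc sOut cFive, hi, cmp_idm sOut_gen.isCode, sOut_sq]
  have hcx := ((central h hf M hs.sq_mem hs.sq_bar).1 x hx).eq
  have e1 : s⁻¹ * j * s⁻¹⁻¹ = j⁻¹ := by
    refine eq_inv_of_mul_eq_one_left ?_
    calc s⁻¹ * j * s⁻¹⁻¹ * j = (s * s)⁻¹ * (x * (s * s) * x⁻¹) := by rw [hj]; group
      _ = 1 := by rw [hcx, mul_inv_cancel_right, inv_mul_cancel]
  have hjf : app sOut (M.bar j) = M.bar j := by
    rw [← rho_inv hf M hs.mem hs.rho, ← ract hf M (inv_mem hs.mem) hjm, e1, binv M hjm]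
  obtain ⟨y, hy, c, hc, hcb, e⟩ := conj_lift h hf M hs hjm hjf
  obtain ⟨hcc, hc2⟩ := central h hf M hc hcb
  have hyH := oc_le z hy
  set u := y⁻¹ * x with hu
  have huH : u ∈ centralizer ({z} : Set G) := mul_mem (inv_mem hyH) hx
  have e' : x * s * x⁻¹ = y * s * y⁻¹ * c := by
    rw [e, mul_assoc _ c c, hc2, mul_one, hj]; group
  have eu : u * s * u⁻¹ = s * c := by
    calc u * s * u⁻¹ = y⁻¹ * (x * s * x⁻¹) * y := by rw [hu]; group
      _ = s * y⁻¹ * (c * y) := by rw [e']; group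
      _ = s * c := by rw [← (hcc y hyH).eq]; group
  have euu : Commute (u * u) s := by
    refine mul_inv_eq_iff_eq_mul.1 ?_
    calc u * u * s * (u * u)⁻¹ = u * (u * s * u⁻¹) * u⁻¹ := by group
      _ = u * (s * c) * u⁻¹ := by rw [eu]
      _ = u * s * u⁻¹ * (u * c * u⁻¹) := by group
      _ = s := by rw [eu, (hcc u huH).eq, mul_inv_cancel_right, mul_assoc, hc2, mul_one]
  have hur : M.rho u = cFive := by
    rw [hu, rmul hf M (inv_mem hyH) hx, (rker hf M (inv_mem hyH)).2 (inv_mem hy),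
      idm_cmp (M.rho_code x), hxr]
  have m2 := mul_mem huH huH
  have m3 := mul_mem huH m2
  have m4 := mul_mem huH m3
  have m5 := mul_mem huH m4
  have m6 := mul_mem huH m5
  have m7 := mul_mem huH m6
  refine ⟨u * (u * (u * (u * (u * (u * (u * u)))))), mul_mem huH m7, ?_, ?_, ?_⟩
  · have h5 : u * (u * (u * (u * u))) ∈ oc z := by
      refine (rker hf M m5).1 ?_
      rw [rmul hf M huH m4, rmul hf M huH m3, rmul hf M huH m2, rmul hf M huH huH, hur]
      exact cFive_pow
    calc (u * (u * (u * (u * (u * (u * (u * u))))))) ^ 5 = ((u * (u * (u * (u * u)))) ^ 4) ^ 2 := by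
          simp only [← pow_succ', ← sq, ← pow_mul]
      _ = 1 := by rw [oc_four h h5, one_pow]
  · rw [rmul hf M huH m7, rmul hf M huH m6, rmul hf M huH m5, rmul hf M huH m4, rmul hf M huH m3,
      rmul hf M huH m2, rmul hf M huH huH, hur]
    exact cd_facts.2.2.1
  · have := euu.mul_left (euu.mul_left (euu.mul_left euu))
    simpa only [mul_assoc] using this

end

/-- The action on the transvections. -/
def piF (x : ↥(centralizer ({z} : Set G))) (i : Fin 45) : Fin 45 :=
  pos (U62Rec.cmp (U62Rec.cmp (M.rho x) (pc i)) (M.rho (x : G)⁻¹))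

include hf in
theorem pc_piF (x : ↥(centralizer ({z} : Set G))) (i : Fin 45) :
    pc (piF M x i) = U62Rec.cmp (U62Rec.cmp (M.rho x) (pc i)) (M.rho (x : G)⁻¹) := by
  obtain ⟨q, hq, e⟩ := gen_perm (rgen hf M x.2) (pc i) (pc_mem i)
  rw [piF, e, cmp_assoc, rinv hf M x.2, cmp_idm (pcodes_code q hq)]
  exact pc_pos q hq

/-- The action as a homomorphism. -/
def piHom : ↥(centralizer ({z} : Set G)) →* Function.End (Fin 45) :=
    { toFun := piF M
      map_one' := funext fun i => by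
        have hc := pcodes_code _ (pc_mem i)
        show pos _ = i
        rw [show ((1 : ↥(centralizer ({z} : Set G))) : G) = 1 from rfl, inv_one, rone hf M,
          idm_cmp hc, cmp_idm hc, pos_pc]
      map_mul' := fun x y => funext fun i => by
        show piF M (x * y) i = piF M x (piF M y i)
        refine (Function.LeftInverse.injective pos_pc) ?_
        rw [pc_piF hf M, pc_piF hf M, pc_piF hf M, show ((x * y : ↥(centralizer ({z} : Set G))) : G)
          = (x : G) * y from rfl, mul_inv_rev, rmul hf M x.2 y.2,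
          rmul hf M (inv_mem y.2) (inv_mem x.2)]
        simp only [cmp_assoc] }

/-- The outer character of `C z`. -/
noncomputable def chi : ↥(centralizer ({z} : Set G)) →* ℤˣ :=
  Equiv.Perm.sign.comp (piHom hf M).toHomPerm

theorem chi_lift {s : G} (hs : Lift M s) : chi hf M ⟨s, hs.mem⟩ = -1 := by
  show Equiv.Perm.sign ((piHom hf M).toHomPerm ⟨s, hs.mem⟩) = -1
  refine Eq.trans (congrArg Equiv.Perm.sign (Equiv.ext fun i => ?_)) sign_sig
  show piF M ⟨s, hs.mem⟩ i = fs i
  rw [piF, fs, hs.rho, rho_inv hf M hs.mem hs.rho]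

theorem chi_inner {x : G} (hx : x ∈ inner z) : chi hf M ⟨x, inner_le z hx⟩ = 1 := by
  obtain ⟨y, hy, rfl⟩ := hx
  have hle : commutator ↥(centralizer ({z} : Set G)) ⊔ pCore 2 ↥(centralizer ({z} : Set G)) ≤
      (chi hf M).ker := by
    refine sup_le (Abelianization.commutator_subset_ker _) fun j hj => ?_
    have hj' : (j : G) ∈ oc z := ⟨j, hj, rfl⟩
    show Equiv.Perm.sign ((piHom hf M).toHomPerm j) = 1
    refine Eq.trans (congrArg Equiv.Perm.sign (Equiv.ext fun i => ?_)) (map_one Equiv.Perm.sign)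
    show piF M j i = i
    have hc := pcodes_code _ (pc_mem i)
    rw [piF, (rker hf M j.2).2 hj', (rker hf M (inv_mem j.2)).2 (inv_mem hj'), idm_cmp hc,
      cmp_idm hc, pos_pc]
  exact hle hy

include hf in
theorem lift_notMem_inner {s : G} (hs : Lift M s) : s ∉ inner z := fun e => by
  have h1 := (chi_lift hf M hs).symm.trans (chi_inner hf M e)
  exact absurd h1 (by decide)

include hf in
/-- A value of a character at the identity. -/
theorem chi_one {x : G} (hx : x ∈ centralizer ({z} : Set G)) (e : x = 1) :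
    chi hf M ⟨x, hx⟩ = 1 := by
  subst e; exact map_one (chi hf M)

include h hf in
theorem transfer_central {u : G} (hu : u = z ∨ u = a) :
    MonoidHom.transfer (chi hf M) u = 1 := by
  have huJ : u ∈ oc z := by rcases hu with rfl | rfl; exacts [h.z_mem, h.a_mem]
  have huu : u * u = 1 := by rcases hu with rfl | rfl; exacts [h.zz, h.aa]
  have huc : ∀ y ∈ oc z, Commute y u := fun y hy =>
    ((h.central_of_cases (by rcases hu with rfl | rfl <;> simp)).2 y hy).symm
  rw [transfer_eval (chi hf M) (oc_le z huJ) (oc z) (oc_isPGroup z) (oc_le z) huc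
    (fun _ _ _ => Int.units_mul_self _)]
  · exact chi_inner hf M (oc_le_inner z huJ)
  intro g hg n hn hmem hmin hT
  rcases (by omega : n = 1 ∨ n = 2 ∨ 2 < n) with rfl | rfl | hlt
  · exfalso
    have hall : ∀ j ∈ oc z, Commute (g * z * g⁻¹) j := by
      intro j hj
      obtain ⟨k, hk⟩ := hT j hj
      have h1 : g⁻¹ * u ^ k * g ∈ centralizer ({z} : Set G) := by
        have := pow_mem hmem k
        rwa [cpow, pow_one] at this
      have h2 := mem_cz.1 (mul_mem h1 hk)
      rw [show g⁻¹ * u ^ k * g * ((u ^ k * g)⁻¹ * j * g) = g⁻¹ * j * g by group] at h2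
      have := h2.map (MulAut.conj g)
      simpa [mul_assoc] using this.symm
    exact hg (mem_cz_of_conj_eq (h.eq_z_of_central hall))
  · exact chi_one hf M hmem (by rw [sq, huu]; group)
  · exfalso
    exact hmin 2 two_pos hlt (by rw [sq, huu]; simpa using one_mem _)

include h hf in
/-- The transfer is trivial on `oc z`. -/
theorem transfer_oc {x : G} (hx : x ∈ oc z) : MonoidHom.transfer (chi hf M) x = 1 := by
  obtain ⟨d, hd, hdr⟩ : ∃ d ∈ centralizer ({z} : Set G), M.rho d = cd := by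
    obtain ⟨s, hs⟩ := exists_lift hf M
    obtain ⟨d, hd, -, hdr, -⟩ := exists_five h hf M hs
    exact ⟨d, hd, hdr⟩
  obtain ⟨v, hv, hve⟩ := cd_facts.2.2.2 _ (M.bar_lt x)
  obtain ⟨y, hy, rfl⟩ := M.bar_surj v hv
  have hk : d * y * d⁻¹ * y⁻¹ ∈ oc z := mul_mem (oc_conj_mem hd hy) (inv_mem hy)
  have hb : M.bar ((d * y * d⁻¹ * y⁻¹)⁻¹ * x) = 0 := by
    rw [M.bar_mul _ (inv_mem hk) _ hx, binv M hk, M.bar_mul _ (oc_conj_mem hd hy) _ (inv_mem hy),
      ract hf M hd hy, binv M hy, hdr, hve, Nat.xor_self]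
  set tr := MonoidHom.transfer (chi hf M) with htr
  have hc : tr ((d * y * d⁻¹ * y⁻¹)⁻¹ * x) = 1 := by
    rcases (M.bar_eq _ (mul_mem (inv_mem hk) hx)).1 hb with e | e | e | e <;> rw [e]
    · exact map_one tr
    · exact transfer_central h hf M (Or.inl rfl)
    · exact transfer_central h hf M (Or.inr rfl)
    · rw [map_mul, transfer_central h hf M (Or.inl rfl), transfer_central h hf M (Or.inr rfl),
        one_mul]
  have hk1 : tr (d * y * d⁻¹ * y⁻¹) = 1 := by
    simp only [map_mul, map_inv]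
    rw [mul_comm (tr d) (tr y), mul_inv_cancel_right, mul_inv_cancel]
  rw [← mul_inv_cancel_left (d * y * d⁻¹ * y⁻¹) x, map_mul, hk1, hc, one_mul]

variable (hin : ∀ u : G, (u = a ∨ u = a * z) → ∀ g : G, Commute g u →
  g * z * g⁻¹ ∈ centralizer ({z} : Set G) → g * z * g⁻¹ ∈ inner z)

include h hf hin in
/-- No outer conjugate of `z` is centralised by an element of order five. -/
theorem no_five {g d : G} (hg : g ∉ centralizer ({z} : Set G))
    (hw : g * z * g⁻¹ ∈ centralizer ({z} : Set G)) (hwi : g * z * g⁻¹ ∉ inner z)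
    (hd : d ∈ centralizer ({z} : Set G)) (hd5 : d ^ 5 = 1) (hdr : M.rho d ≠ idm)
    (hdw : Commute d (g * z * g⁻¹)) : False := by
  have conjH : ∀ {x : G}, Commute x (g * z * g⁻¹) → g⁻¹ * x * g ∈ centralizer ({z} : Set G) := by
    intro x hx
    refine mem_cz.2 ?_
    have := hx.map (MulAut.conj g⁻¹)
    simpa [mul_assoc] using this
  have conjC : ∀ {x y : G}, Commute x y → Commute (g⁻¹ * x * g) (g⁻¹ * y * g) := by
    intro x y hxy
    have := hxy.map (MulAut.conj g⁻¹)
    simpa [mul_assoc] using this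
  have hdH := conjH hdw
  have hzH := conjH (x := z) (mem_cz.1 hw).symm
  have haH := conjH (x := a) (hf _ hw).symm
  set d' := g⁻¹ * d * g with hd'
  have hd'5 : d' ^ 5 = 1 := by
    rw [hd', show g⁻¹ * d * g = g⁻¹ * d * g⁻¹⁻¹ by group, conj_pow, hd5]; group
  have hd'1 : M.rho d' ≠ idm := by
    intro e
    have h4 := oc_four h ((rker hf M hdH).1 e)
    have h1 : d' = 1 := by rwa [pow_succ, h4, one_mul] at hd'5
    refine hdr ?_
    rw [show d = g * d' * g⁻¹ by rw [hd']; group, h1, mul_one, mul_inv_cancel, rone hf M]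
  have hp5 : pow5 (M.rho d') = idm := by
    have m2 := mul_mem hdH hdH
    have m3 := mul_mem hdH m2
    have m4 := mul_mem hdH m3
    rw [pow5, ← rmul hf M hdH hdH, ← rmul hf M hdH m2, ← rmul hf M hdH m3, ← rmul hf M hdH m4,
      show d' * (d' * (d' * (d' * d'))) = d' ^ 5 by simp only [← pow_succ', ← sq], hd'5, rone hf M]
  have obs : ∀ x ∈ oc z, Commute d' x → x = 1 ∨ x = z ∨ x = a ∨ x = a * z := by
    intro x hx hdx
    refine (M.bar_eq x hx).1 (five_fix (rgen hf M hdH) hd'1 hp5 (M.bar_lt x) ?_)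
    rw [← ract hf M hdH hx, hdx.eq, mul_inv_cancel_right]
  have hdz : Commute d' (g⁻¹ * z * g) := conjC (mem_cz.1 hd)
  have hda : Commute d' (g⁻¹ * a * g) := conjC (hf d hd)
  have hza : Commute (g⁻¹ * z * g) (g⁻¹ * a * g) := conjC h.comm_za
  have one : ∀ {x : G}, g⁻¹ * x * g = 1 → x = 1 := fun e => by
    rwa [show g⁻¹ * _ * g = g⁻¹ * _ * g⁻¹⁻¹ by rw [inv_inv], conj_eq_one_iff] at e
  have isc : ∀ {x y : G}, g⁻¹ * x * g = y → IsConj x y := fun e =>
    isConj_iff.2 ⟨g⁻¹, by rw [inv_inv]; exact e⟩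
  have fix : ∀ {x : G}, g⁻¹ * x * g = x → Commute g x := fun {x} e => by
    show g * x = x * g
    conv_lhs => rw [← e]
    group
  have notz : g⁻¹ * z * g ∉ oc z := fun e => by
    rcases obs _ e hdz with e | e | e | e
    · exact h.z_ne_one (one e)
    · exact hg (mem_cz.2 (fix e))
    · exact not_conj h (isc e)
    · exact not_conj_az h (isc e)
  have nota : g⁻¹ * a * g ∉ oc z := fun e => by
    rcases obs _ e hda with e | e | e | e
    · exact h.a_ne_one (one e)
    · exact not_conj h (isc e).symm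
    · exact hwi (hin a (Or.inl rfl) g (fix e) hw)
    · exact fixed_not_conj h hf (isc e)
  have eaz : g⁻¹ * a * g * (g⁻¹ * z * g) = g⁻¹ * (a * z) * g := by group
  have notaz : g⁻¹ * (a * z) * g ∉ oc z := fun e => by
    rcases obs _ e (eaz ▸ hda.mul_right hdz) with e | e | e | e
    · exact h.other.a_ne_one (one e)
    · exact not_conj_az h (isc e).symm
    · exact fixed_not_conj h hf (isc e).symm
    · exact hwi (hin _ (Or.inr rfl) g (fix e) hw)
  have rc : ∀ {x y : G}, x ∈ centralizer ({z} : Set G) → y ∈ centralizer ({z} : Set G) →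
      Commute x y → U62Rec.cmp (M.rho x) (M.rho y) = U62Rec.cmp (M.rho y) (M.rho x) := by
    intro x y hx hy e
    rw [← rmul hf M hx hy, ← rmul hf M hy hx, e.eq]
  have hzz : U62Rec.cmp (M.rho (g⁻¹ * z * g)) (M.rho (g⁻¹ * z * g)) = idm := by
    rw [← rmul hf M hzH hzH, show g⁻¹ * z * g * (g⁻¹ * z * g) = g⁻¹ * (z * z) * g by group, h.zz,
      mul_one, inv_mul_cancel, rone hf M]
  have haa : U62Rec.cmp (M.rho (g⁻¹ * a * g)) (M.rho (g⁻¹ * a * g)) = idm := by
    rw [← rmul hf M haH haH, show g⁻¹ * a * g * (g⁻¹ * a * g) = g⁻¹ * (a * a) * g by group, h.aa,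
      mul_one, inv_mul_cancel, rone hf M]
  have heq := five_pair (rgen hf M hdH) hd'1 hp5 (rgen hf M haH) (rgen hf M hzH)
    (fun e => nota ((rker hf M haH).1 e)) (fun e => notz ((rker hf M hzH).1 e)) haa hzz
    (rc haH hdH hda.symm) (rc hzH hdH hdz.symm) (rc haH hzH hza.symm)
  refine notaz (eaz ▸ (rker hf M (mul_mem haH hzH)).1 ?_)
  rw [rmul hf M haH hzH, heq, hzz]

variable (hiso : ∀ g : G, g * z * g⁻¹ ∈ oc z → g * z * g⁻¹ = z)

include h hf hin hiso in
theorem transfer_lift {s : G} (hs : Lift M s) : MonoidHom.transfer (chi hf M) s = -1 := by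
  set R := oc z ⊓ centralizer ({s} : Set G) with hR
  set T := centralizer ({z} : Set G) ⊓ centralizer (R : Set G) with hTdef
  have hTR : ∀ t ∈ T, ∀ r ∈ R, Commute t r := fun t ht r hr =>
    (mem_centralizer_iff.1 ht.2 r hr).symm
  have hT4 : ∀ t ∈ T, t ^ 4 = 1 := by
    intro t ht
    rcases (cent_R h hf M hs ht.1 (hTR t ht)).2 with hr | ⟨r, hr, rfl⟩
    · rw [show 4 = 2 * 2 from rfl, pow_mul, sq t, R_sq h hf M hs hr, one_pow]
    · rw [Commute.mul_pow (Commute.symm (mem_centralizer_singleton_iff.1 hr.2)),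
        s_four h hf M hs, show 4 = 2 * 2 from rfl, pow_mul r, sq r, R_sq h hf M hs hr, one_pow,
        one_mul]
  have hTp : IsPGroup 2 ↥T := fun t => ⟨2, Subtype.ext (by simpa using hT4 t t.2)⟩
  have hsR : ∀ r ∈ R, Commute r s := fun r hr => mem_centralizer_singleton_iff.1 hr.2
  have hsT : s ∈ T := ⟨hs.mem, mem_centralizer_iff.2 fun r hr => (hsR r hr).eq⟩
  have hRT : ∀ r ∈ R, r ∈ T := by
    intro r hr
    refine ⟨oc_le z hr.1, mem_centralizer_iff.2 fun r' hr' => ?_⟩
    have e := R_sq h hf M hs (mul_mem hr' hr)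
    have a1 := inv_eq_of_mul_eq_one_right (R_sq h hf M hs hr')
    have a2 := inv_eq_of_mul_eq_one_right (R_sq h hf M hs hr)
    calc r' * r = (r' * r)⁻¹ := eq_inv_of_mul_eq_one_left e
      _ = r * r' := by rw [mul_inv_rev, a1, a2]
  rw [transfer_eval (chi hf M) hs.mem T hTp inf_le_left
    (fun t ht => (cent_R h hf M hs ht.1 (hTR t ht)).1) (fun _ _ _ => Int.units_mul_self _)]
  · exact chi_lift hf M hs
  intro g hg n hn hmem hmin hTk
  have h4 := s_four h hf M hs
  -- `x` commutes with the conjugate if it fixes the coset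
  have hcw : ∀ x : G, g⁻¹ * x * g ∈ centralizer ({z} : Set G) → Commute x (g * z * g⁻¹) := by
    intro x hx
    have := (mem_cz.1 hx).map (MulAut.conj g)
    simpa [mul_assoc] using this
  rcases (by omega : n = 1 ∨ n = 2 ∨ n = 3 ∨ n = 4 ∨ 4 < n) with rfl | rfl | rfl | rfl | hlt
  · exfalso
    have hall : ∀ t ∈ T, Commute t (g * z * g⁻¹) := by
      intro t ht
      obtain ⟨k, hk⟩ := hTk t ht
      refine hcw t ?_
      have h1 : g⁻¹ * s ^ k * g ∈ centralizer ({z} : Set G) := by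
        have := pow_mem hmem k
        rwa [cpow, pow_one] at this
      have h2 := mul_mem h1 hk
      rwa [show g⁻¹ * s ^ k * g * ((s ^ k * g)⁻¹ * t * g) = g⁻¹ * t * g by group] at h2
    have hw : g * z * g⁻¹ ∈ centralizer ({z} : Set G) := mem_cz.2
      (hall z (hRT z ⟨h.z_mem, mem_centralizer_singleton_iff.2 (mem_cz.1 hs.mem).symm.eq⟩)).symm
    obtain ⟨-, hr | ⟨r, hr, er⟩⟩ := cent_R h hf M hs hw fun r hr => (hall r (hRT r hr)).symm
    · exact hg (mem_cz_of_conj_eq (hiso g hr.1))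
    obtain ⟨y, hy, c, hc, hcb, e⟩ := conj_lift h hf M hs hr.1
      ((comm_iff h hf M hs hr.1).1 (hsR r hr))
    obtain ⟨d, hd, hd5, hdr, hds⟩ := exists_five h hf M hs
    obtain ⟨hcc, hc2⟩ := central h hf M hc hcb
    have hyH := oc_le z hy
    have ew : g * z * g⁻¹ = y * s * y⁻¹ * c := by rw [e, mul_assoc _ c c, hc2, mul_one, er]
    refine no_five h hf M hin hg hw ?_ (d := y * d * y⁻¹) ?_ ?_ ?_ ?_
    · rw [er]
      intro hi
      have := mul_mem hi (inv_mem (oc_le_inner z hr.1))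
      rw [mul_inv_cancel_right] at this
      exact lift_notMem_inner hf M hs this
    · exact mul_mem (mul_mem hyH hd) (inv_mem hyH)
    · rw [conj_pow, hd5]; group
    · rw [rmul hf M (mul_mem hyH hd) (inv_mem hyH), rmul hf M hyH hd, (rker hf M hyH).2 hy,
        (rker hf M (inv_mem hyH)).2 (inv_mem hy), idm_cmp (M.rho_code d), cmp_idm (M.rho_code d),
        hdr]
      exact cd_facts.1
    · rw [ew]
      refine Commute.mul_right ?_ (hcc _ (mul_mem (mul_mem hyH hd) (inv_mem hyH)))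
      have := hds.map (MulAut.conj y)
      simpa using this
  · by_cases hex : ∃ r ∈ R, g⁻¹ * r * g ∉ centralizer ({z} : Set G)
    · obtain ⟨r, hr, hrg⟩ := hex
      obtain ⟨k, hk⟩ := hTk r (hRT r hr)
      rcases Nat.even_or_odd k with ⟨l, rfl⟩ | ⟨l, rfl⟩
      · exfalso
        refine hrg ?_
        have h1 := mul_mem (pow_mem hmem l) hk
        rwa [cpow, ← pow_mul, ← two_mul,
          show g⁻¹ * s ^ (2 * l) * g * ((s ^ (2 * l) * g)⁻¹ * r * g) = g⁻¹ * r * g by group] at h1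
      · have hrs : Commute r (s ^ (2 * l + 1)) := (hsR r hr).pow_right _
        have e : g⁻¹ * s ^ 2 * g =
            ((s ^ (2 * l + 1) * g)⁻¹ * r * g) * ((s ^ (2 * l + 1) * g)⁻¹ * r * g) := by
          have e1 : (s ^ (2 * l + 1))⁻¹ * r * ((s ^ (2 * l + 1))⁻¹ * r) = s ^ 2 := by
            rw [mul_assoc, ← mul_assoc r, (hrs.inv_right).eq, mul_assoc _ r r, R_sq h hf M hs hr,
              mul_one, ← mul_inv_rev, ← pow_add]
            refine inv_eq_of_mul_eq_one_left ?_
            rw [← pow_add, show 2 + (2 * l + 1 + (2 * l + 1)) = 4 * (l + 1) by ring, pow_mul, h4,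
              one_pow]
          rw [← e1]; group
        have : (⟨_, hmem⟩ : ↥(centralizer ({z} : Set G))) = ⟨_, hk⟩ * ⟨_, hk⟩ := Subtype.ext e
        rw [this, map_mul, Int.units_mul_self]
    · exfalso
      push Not at hex
      have hw : g * z * g⁻¹ ∈ centralizer ({z} : Set G) := mem_cz.2 (hcw z
        (hex z ⟨h.z_mem, mem_centralizer_singleton_iff.2 (mem_cz.1 hs.mem).symm.eq⟩)).symm
      have hws := (cent_R h hf M hs hw fun r hr => (hcw r (hex r hr)).symm).1
      refine hmin 1 one_pos one_lt_two ?_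
      rw [pow_one]
      refine mem_cz.2 ?_
      have := hws.symm.map (MulAut.conj g⁻¹)
      simpa [mul_assoc] using this
  · exfalso
    refine hmin 1 one_pos (by norm_num) ?_
    have := inv_mem hmem
    rwa [mul_inv_rev, mul_inv_rev, inv_inv, show (s ^ 3)⁻¹ = s ^ 1 from
      inv_eq_of_mul_eq_one_left (by rw [← pow_add, h4]), ← mul_assoc] at this
  · exact chi_one hf M hmem (by rw [h4]; group)
  · exfalso
    exact hmin 4 (by norm_num) hlt (by rw [h4]; simpa using one_mem _)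

end Outer

open Outer in
/-- If `C z` fixes `a`, there is a subgroup of index two meeting `C z` in `inner z`. -/
theorem exists_index_two (h : Hyp z a) (hf : Fixed z a) (M : Mod2 ⟨NatO.gens, NatO.lin⟩ z a)
    (hiso : ∀ g : G, g * z * g⁻¹ ∈ oc z → g * z * g⁻¹ = z)
    (hin : ∀ u : G, (u = a ∨ u = a * z) → ∀ g : G, Commute g u →
      g * z * g⁻¹ ∈ centralizer ({z} : Set G) → g * z * g⁻¹ ∈ inner z) :
    ∃ G0 : Subgroup G, G0.index = 2 ∧ G0 ⊓ centralizer ({z} : Set G) = inner z := by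
  obtain ⟨s, hs⟩ := exists_lift hf M
  set tr := MonoidHom.transfer (chi hf M) with htr
  have hts : tr s = -1 := transfer_lift h hf M hin hiso hs
  have hle : inner z ≤ tr.ker := by
    rintro x ⟨y, hy, rfl⟩
    have : commutator ↥(centralizer ({z} : Set G)) ⊔ pCore 2 ↥(centralizer ({z} : Set G)) ≤
        (tr.comp (centralizer ({z} : Set G)).subtype).ker :=
      sup_le (Abelianization.commutator_subset_ker _) fun j hj =>
        transfer_oc h hf M (x := (j : G)) ⟨j, hj, rfl⟩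
    exact this hy
  refine ⟨tr.ker, ?_, le_antisymm (fun x hx => ?_) (le_inf hle (inner_le z))⟩
  · have hsurj : Function.Surjective tr := fun u => by
      rcases Int.units_eq_one_or u with rfl | rfl
      exacts [⟨1, map_one tr⟩, ⟨s, hts⟩]
    rw [index_ker, MonoidHom.range_eq_top.2 hsurj, card_top, Nat.card_eq_fintype_card,
      Fintype.card_units_int]
  · by_contra hxi
    have hsi := lift_notMem_inner hf M hs
    have h1 := hle ((h.mul_mem_inner_iff hx.2 hs.mem).2 (iff_of_false hxi hsi))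
    rw [MonoidHom.mem_ker, map_mul, MonoidHom.mem_ker.1 hx.1, one_mul, hts] at h1
    exact absurd h1 (by decide)

end Cfsg.Agent.Fi22Two
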