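import Cfsg.Agent.Fi22Two.Basic
import Cfsg.Agent.Invol.IsolatedApps
import Cfsg.Agent.S5454
import Cfsg.Agent.S0283
import Cfsg.Agent.Classical.UnitaryThreeTwo
import Cfsg.Agent.Thompson.Basic

/-!
# The subgroup of index two when `a` lies in the derived group of its centraliser
-/

set_option autoImplicit false
set_option linter.unusedSectionVars false

open Cfsg Subgroup

namespace Cfsg.Agent.Fi22Two

open Cfsg.Agent.LargeExtra
open scoped commutatorElement

/-- A group with a central element in the derived group and nonabelian simple quotient. -/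
theorem quasisimple_of {X : Type*} [Group X] (c : X) (hc : c ∈ center X)
    (hcc : c ∈ commutator X) [hn : (zpowers c).Normal] (hs : IsSimpleGroup (X ⧸ zpowers c))
    (hna : ¬ IsMulCommutative (X ⧸ zpowers c)) : IsQuasisimple X := by
  haveI := hs
  have hsurj := QuotientGroup.mk'_surjective (zpowers c)
  have hcom : commutator X = ⊤ := by
    rcases ((inferInstance : (commutator X).Normal).map _ hsurj).eq_bot_or_eq_top with h | h
    · refine absurd ⟨⟨fun x y => ?_⟩⟩ hna
      obtain ⟨x, rfl⟩ := hsurj x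
      obtain ⟨y, rfl⟩ := hsurj y
      have h1 : QuotientGroup.mk' (zpowers c) (x * y * x⁻¹ * y⁻¹) = 1 := by
        rw [← mem_bot, ← h]
        exact mem_map_of_mem _ (commutator_mem_commutator (mem_top x) (mem_top y))
      simp only [map_mul, map_inv] at h1
      exact mul_inv_eq_iff_eq_mul.1 (mul_inv_eq_one.1 h1)
    · refine eq_top_iff.2 fun x _ => ?_
      have : QuotientGroup.mk' (zpowers c) x ∈ (commutator X).map (QuotientGroup.mk' (zpowers c)) :=
        h ▸ mem_top _
      obtain ⟨y, hy, he⟩ := this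
      have hk : y⁻¹ * x ∈ zpowers c := QuotientGroup.eq.1 he
      simpa using mul_mem hy (zpowers_le.2 hcc hk)
  have hcen : center X = zpowers c := by
    refine le_antisymm ?_ (zpowers_le.2 hc)
    rcases ((inferInstance : (center X).Normal).map _ hsurj).eq_bot_or_eq_top with h | h
    · exact ((Subgroup.map_eq_bot_iff _).1 h).trans_eq (QuotientGroup.ker_mk' _)
    · refine absurd ⟨⟨fun x y => ?_⟩⟩ hna
      obtain ⟨y', rfl⟩ := hsurj y
      obtain ⟨x', hx', rfl⟩ : x ∈ (center X).map (QuotientGroup.mk' (zpowers c)) := h ▸ mem_top _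
      rw [← map_mul, ← map_mul, mem_center_iff.1 hx' y']
  refine ⟨Group.isPerfect_def.2 hcom, ?_⟩
  exact (QuotientGroup.quotientMulEquivOfEq hcen).isSimpleGroup

theorem psu_not_comm {K : Type*} [Field K] [Fintype K] (hK : Fintype.card K = 4) :
    ¬ IsMulCommutative (Cfsg.PSU 6 K 2) := by
  intro hc
  haveI : IsSimpleGroup (Cfsg.PSU 6 K 2) :=
    Cfsg.Agent.S0283.result (q := 2) (by rw [hK]; norm_num) 6 (by norm_num) (by norm_num)
  letI : CommGroup (Cfsg.PSU 6 K 2) :=
    { (inferInstance : Group (Cfsg.PSU 6 K 2)) with mul_comm := fun x y => hc.1.comm x y }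
  have h1 := IsSimpleGroup.prime_card (α := Cfsg.PSU 6 K 2)
  rw [Cfsg.Agent.ThreeTrans.card_psu_six hK] at h1
  exact absurd h1 (by norm_num)

variable {G : Type*} [Group G] [Finite G] {z a : G}

/-- `a` is central when it lies in the derived group of the part of its centraliser in a
subgroup of index two. -/
theorem fixed_of_parity {K : Type*} [Field K] [Fintype K] (hK : Fintype.card K = 4) (h : Hyp z a)
    (hf : Fixed z a) {L : Subgroup G} (G0 : Subgroup G) (hidx : G0.index = 2)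
    (hmeet : G0 ⊓ centralizer ({z} : Set G) = inner z) (hB : Big K z a L)
    (hL : G0 ⊓ centralizer ({a} : Set G) = L) (haL : a ∈ ⁅L, L⁆) : ∀ g : G, Commute g a := by
  classical
  -- positions
  have hJin : oc z ≤ inner z := map_mono le_sup_right
  have hJ0 : oc z ≤ G0 := fun x hx => by
    have := hJin hx; rw [← hmeet] at this; exact this.1
  have hzL : z ∈ L := by
    have : z ∈ inner z := hJin h.z_mem
    rw [← hB.meet] at this; exact this.1
  have hLa : ∀ l ∈ L, Commute l a := fun l hl => mem_centralizer_singleton_iff.1 (hB.le hl)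
  -- the centraliser in `G0`
  set d : ↥G0 := ⟨a, hJ0 h.a_mem⟩ with hd
  set C := centralizer ({d} : Set ↥G0) with hC
  have hmem : ∀ c : ↥G0, c ∈ C ↔ (c : G) ∈ L := fun c => by
    rw [hC, mem_centralizer_singleton_iff, ← hL, Subgroup.mem_inf, mem_centralizer_singleton_iff,
      Subtype.ext_iff]
    simp [d, c.2]
  have hL0 : L ≤ G0 := hL ▸ inf_le_left
  let f : ↥C ≃* ↥L :=
    { toFun := fun c => ⟨((c : ↥G0) : G), (hmem c).1 c.2⟩
      invFun := fun l => ⟨⟨l, hL0 l.2⟩, (hmem _).2 l.2⟩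
      left_inv := fun c => by ext; rfl
      right_inv := fun l => by ext; rfl
      map_mul' := fun c c' => by ext; rfl }
  have hdC : d ∈ C := mem_centralizer_singleton_iff.2 rfl
  set c : ↥C := ⟨d, hdC⟩ with hc
  have hzc : zpowers c = (zpowers d).subgroupOf C := by
    ext x
    simp only [mem_subgroupOf, mem_zpowers_iff]
    exact exists_congr fun k => by rw [Subtype.ext_iff]; simp [c]
  haveI hn : ((zpowers d).subgroupOf C).Normal := ⟨fun x hx g => by
    obtain ⟨k, hk⟩ := mem_zpowers_iff.1 hx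
    have h1 : Commute (g : ↥G0) d := mem_centralizer_singleton_iff.1 g.2
    have hk' : d ^ k = (x : ↥G0) := hk
    rw [mem_subgroupOf, coe_mul, coe_mul, coe_inv, ← hk', (h1.zpow_right k).eq, mul_inv_cancel_right]
    exact ⟨k, rfl⟩⟩
  obtain ⟨hnL, ⟨i⟩⟩ := hB.iso
  have hmap : ((zpowers d).subgroupOf C).map f.toMonoidHom = (zpowers a).subgroupOf L := by
    rw [← hzc, MonoidHom.map_zpowers]
    ext x
    simp only [mem_subgroupOf, mem_zpowers_iff]
    exact exists_congr fun k => by rw [Subtype.ext_iff]; simp [f, c, d]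
  letI : Fintype (GaloisField 2 2) := Fintype.ofFinite _
  have hF : Fintype.card (GaloisField 2 2) = 4 := by
    rw [← Nat.card_eq_fintype_card, GaloisField.card 2 2 (by norm_num)]; norm_num
  obtain ⟨σ⟩ : Nonempty (Cfsg.PSU 6 K 2 ≃* Cfsg.PSU 6 (GaloisField 2 2) 2) :=
    Cfsg.Agent.Classical.U32.psu_congr (FiniteField.ringEquivOfCardEq (K := K) (K' := GaloisField 2 2) (hK.trans hF.symm))
  let e0 : ↥C ⧸ (zpowers d).subgroupOf C ≃* Cfsg.PSU 6 (GaloisField 2 2) 2 :=
    ((QuotientGroup.congr _ _ f hmap).trans i).trans σ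
  haveI hs6 : IsSimpleGroup (Cfsg.PSU 6 (GaloisField 2 2) 2) :=
    Cfsg.Agent.S0283.result (q := 2) (by rw [hF]; norm_num) 6 (by norm_num) (by norm_num)
  have hq : IsQuasisimple ↥C := by
    haveI : (zpowers c).Normal := hzc ▸ hn
    let e1 : ↥C ⧸ zpowers c ≃* Cfsg.PSU 6 (GaloisField 2 2) 2 :=
      (QuotientGroup.quotientMulEquivOfEq hzc).trans e0
    refine quasisimple_of c (mem_center_iff.2 fun g => Subtype.ext
      (mem_centralizer_singleton_iff.1 g.2)) ?_ e1.isSimpleGroup fun hcm => psu_not_comm hF ⟨⟨fun x y => e1.symm.injective ?_⟩⟩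
    · obtain ⟨l, hl, hla⟩ : a ∈ (commutator ↥L).map L.subtype := by
        rwa [map_subtype_commutator]
      have h1 : f.symm l ∈ commutator ↥C := by
        have := mem_map_of_mem f.symm.toMonoidHom hl
        rw [_root_.commutator_def, map_commutator] at this
        exact commutator_mono le_top le_top this
      rwa [show f.symm l = c from Subtype.ext (Subtype.ext hla)] at h1
    · rw [map_mul, map_mul, hcm.1.comm]
  have hd2 : orderOf d = 2 := by rw [← Subgroup.orderOf_coe]; exact h.orda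
  -- `a` is isolated in `G0`
  have hiso : IsIsolatedInvolution d := by
    by_contra hni
    have hnwc : ∃ g : ↥G0, g * d * g⁻¹ ∈ C ∧ g * d * g⁻¹ ≠ d := by
      by_contra hc'
      push Not at hc'
      exact hni ⟨hd2, fun g hg => hc' g (mem_centralizer_singleton_iff.2 hg.symm.eq)⟩
    set JC : Subgroup ↥C := ((oc z).subgroupOf G0).subgroupOf C with hJC
    have hJp : IsPGroup 2 ↥JC :=
      ((oc_isPGroup z).comap_of_injective G0.subtype G0.subtype_injective).comap_of_injective
        C.subtype C.subtype_injective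
    obtain ⟨S, hS⟩ := hJp.exists_le_sylow
    set T := Cfsg.thompsonSubgroupOf 2 (S : Subgroup ↥C) with hT
    set A := T.map C.subtype with hA
    obtain ⟨-, -, hcount, -⟩ := Cfsg.Agent.S5454.result d hd2 hq (GaloisField 2 2) hF e0 hnwc S A hA
    have hTn : ∀ s ∈ (S : Subgroup ↥C), ∀ t ∈ T, s * t * s⁻¹ ∈ T := by
      intro s hs t ht
      obtain ⟨t', ht', rfl⟩ := ht
      refine ⟨⟨s, hs⟩ * t' * ⟨s, hs⟩⁻¹, ?_, rfl⟩
      exact (inferInstance : (Cfsg.thompsonSubgroup 2 ↥(S : Subgroup ↥C)).Normal).conj_mem t' ht' _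
    let O : Type _ := {x : ↥G0 // x ∈ A ∧ IsConj d x}
    let conjS : ↥(S : Subgroup ↥C) → O → O := fun s x =>
      ⟨((s : ↥C) : ↥G0) * x.1 * ((s : ↥C) : ↥G0)⁻¹, by
        obtain ⟨t, ht, hte⟩ := x.2.1
        exact ⟨(s : ↥C) * t * (s : ↥C)⁻¹, hTn _ s.2 t ht, by simp [← hte]⟩,
        x.2.2.trans (isConj_iff.2 ⟨_, rfl⟩)⟩
    letI : MulAction ↥(S : Subgroup ↥C) O :=
      { smul := conjS
        one_smul := fun x => Subtype.ext (by
          show ((((1 : ↥(S : Subgroup ↥C)) : ↥C)) : ↥G0) * x.1 * _ = x.1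
          simp)
        mul_smul := fun s t x => Subtype.ext (by
          show ((((s * t : ↥(S : Subgroup ↥C))) : ↥C) : ↥G0) * x.1 * _ = _
          show _ = ((s : ↥C) : ↥G0) * (((t : ↥C) : ↥G0) * x.1 * ((t : ↥C) : ↥G0)⁻¹) *
            ((s : ↥C) : ↥G0)⁻¹
          simp [mul_assoc]) }
    have hmod := S.isPGroup'.card_modEq_card_fixedPoints O
    have hO : Nat.card O = 22 := by
      rw [← hcount]; exact Nat.card_coe_set_eq _
    rw [hO] at hmod
    -- `a` is one of them
    have hcS : c ∈ (S : Subgroup ↥C) := hS (mem_subgroupOf.2 (mem_subgroupOf.2 h.a_mem))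
    have hdT : c ∈ T := by
      obtain ⟨B, hB'⟩ := Thompson.exists_maxEA 2 ↥(S : Subgroup ↥C)
      have hc2 : (⟨c, hcS⟩ : ↥(S : Subgroup ↥C)) ^ 2 = 1 := Subtype.ext (Subtype.ext (Subtype.ext (by
        show a ^ 2 = 1
        rw [sq, h.aa])))
      have hcen : B ≤ centralizer ((zpowers (⟨c, hcS⟩ : ↥(S : Subgroup ↥C)) : Subgroup _) : Set _) := by
        rw [zpowers_eq_closure, centralizer_closure]
        intro x _
        refine mem_centralizer_singleton_iff.2 (Subtype.ext ?_)
        exact Subtype.ext (mem_centralizer_singleton_iff.1 (x : ↥C).2)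
      have hsup := Thompson.ea_sup hB'.1 (Thompson.ea_zpowers hc2) hcen
      have heq := eq_of_le_of_card_ge (le_sup_left : B ≤ B ⊔ zpowers ⟨c, hcS⟩) (hB'.2 _ hsup)
      refine ⟨⟨c, hcS⟩, Thompson.le_thompson hB' ?_, rfl⟩
      rw [heq]
      exact mem_sup_right (mem_zpowers _)
    let o : O := ⟨d, ⟨c, hdT, rfl⟩, IsConj.refl d⟩
    have ho : o ∈ MulAction.fixedPoints ↥(S : Subgroup ↥C) O := fun s => Subtype.ext (by
      show ((s : ↥C) : ↥G0) * d * ((s : ↥C) : ↥G0)⁻¹ = d
      rw [mem_centralizer_singleton_iff.1 (s : ↥C).2, mul_inv_cancel_right])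
    obtain ⟨x, hx, hxo⟩ : ∃ x ∈ MulAction.fixedPoints ↥(S : Subgroup ↥C) O, x ≠ o := by
      by_contra hall
      push Not at hall
      have : MulAction.fixedPoints ↥(S : Subgroup ↥C) O = {o} := by
        ext x; exact ⟨fun hx => hall x hx, fun e => e ▸ ho⟩
      rw [this, Nat.card_eq_one_iff_unique.2 ⟨inferInstance, inferInstance⟩] at hmod
      exact absurd hmod (by decide)
    obtain ⟨⟨t, ht, hte⟩, hconj⟩ := x.2
    have hcentr : ∀ y ∈ oc z, Commute ((x.1 : ↥G0) : G) y := fun y hy => by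
      have hyC : (⟨y, hJ0 hy⟩ : ↥G0) ∈ C :=
        (hmem _).2 (hL ▸ ⟨hJ0 hy, mem_centralizer_singleton_iff.2 (h.comm_mem_a hy).eq⟩)
      have hyS : (⟨⟨y, hJ0 hy⟩, hyC⟩ : ↥C) ∈ (S : Subgroup ↥C) :=
        hS (mem_subgroupOf.2 (mem_subgroupOf.2 hy))
      have h1 := congrArg (fun o : O => ((o.1 : ↥G0) : G)) (hx ⟨_, hyS⟩)
      change y * ((x.1 : ↥G0) : G) * y⁻¹ = ((x.1 : ↥G0) : G) at h1
      exact (mul_inv_eq_iff_eq_mul.1 h1).symm
    obtain ⟨g, hg⟩ := isConj_iff.1 hconj
    have hg' : (g : G) * a * (g : G)⁻¹ = ((x.1 : ↥G0) : G) := by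
      rw [← hg]; simp [d]
    rcases h.central_cases hcentr with e | e | e | e
    · exact h.a_ne_one (conj_eq_one_iff.1 (hg'.trans e))
    · exact not_conj h (isConj_iff.2 ⟨_, hg'.trans e⟩).symm
    · exact hxo (Subtype.ext (Subtype.ext e))
    · exact fixed_not_conj h hf (isConj_iff.2 ⟨_, hg'.trans e⟩)
  -- the odd core of `G0` is trivial
  set O := (oddCore ↥G0).map G0.subtype with hO
  have hOodd : Odd (Nat.card ↥O) := by
    rw [hO, card_map_of_injective G0.subtype_injective]
    exact Nat.odd_iff.2 (Nat.two_dvd_ne_zero.1 Cfsg.Agent.Core.not_dvd_card_pPrimeCore)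
  have hOn : ∀ g ∈ G0, ∀ x ∈ O, g * x * g⁻¹ ∈ O := by
    rintro g hg _ ⟨x, hx, rfl⟩
    exact ⟨⟨g, hg⟩ * x * ⟨g, hg⟩⁻¹,
      (inferInstance : (oddCore ↥G0).Normal).conj_mem x hx _, rfl⟩
  have hJn : oc z ≤ normalizer (O : Set G) := fun y hy => mem_normalizer_iff.2 fun x =>
    ⟨hOn y (hJ0 hy) x, fun hx => by
      have := hOn y⁻¹ (inv_mem (hJ0 hy)) _ hx
      simpa [mul_assoc] using this⟩
  have hinv := inv_of_normalised h hOodd hJn
  have hObot : ∀ x ∈ O, x = 1 := by
    set N : Subgroup ↥L := (centralizer (O : Set G)).subgroupOf L with hN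
    haveI : N.Normal := ⟨fun n hn l => by
      simp only [hN, mem_subgroupOf, coe_mul, coe_inv] at hn ⊢
      refine mem_centralizer_iff.2 fun x hx => ?_
      have h1 := mem_centralizer_iff.1 hn _ (hOn _ (inv_mem (hL0 l.2)) x hx)
      calc x * ((l : G) * n * (l : G)⁻¹) = (l : G) * (((l : G)⁻¹ * x * (l : G)⁻¹⁻¹) * n) * (l : G)⁻¹ := by
            group
        _ = (l : G) * (n * ((l : G)⁻¹ * x * (l : G)⁻¹⁻¹)) * (l : G)⁻¹ := by rw [h1]
        _ = (l : G) * n * (l : G)⁻¹ * x := by group⟩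
    have hmove : ∀ l : ↥L, l * ⟨z, hzL⟩ * l⁻¹ * ⟨z, hzL⟩⁻¹ ∈ N := fun l => by
      simp only [hN, mem_subgroupOf, coe_mul, coe_inv]
      refine mem_centralizer_iff.2 fun x hx => (mul_inv_eq_iff_eq_mul.1 ?_).symm
      have hzx : z⁻¹ * x * z = x⁻¹ := by
        rw [inv_eq_of_mul_eq_one_right h.zz]
        simpa [inv_eq_of_mul_eq_one_right h.zz] using hinv x hx
      have h1 := hinv _ (hOn _ (inv_mem (hL0 l.2)) _ (inv_mem hx))
      calc (l : G) * z * (l : G)⁻¹ * z⁻¹ * x * ((l : G) * z * (l : G)⁻¹ * z⁻¹)⁻¹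
          = (l : G) * (z * ((l : G)⁻¹ * (z⁻¹ * x * z) * (l : G)⁻¹⁻¹) * z⁻¹) * (l : G)⁻¹ := by group
        _ = (l : G) * ((l : G)⁻¹ * x⁻¹ * (l : G)⁻¹⁻¹)⁻¹ * (l : G)⁻¹ := by rw [hzx, h1]
        _ = x := by group
    haveI := hnL
    haveI hs : IsSimpleGroup (↥L ⧸ (zpowers a).subgroupOf L) := by
      haveI : IsSimpleGroup (Cfsg.PSU 6 K 2) :=
        Cfsg.Agent.S0283.result (q := 2) (by rw [hK]; norm_num) 6 (by norm_num) (by norm_num)
      exact i.isSimpleGroup
    have hsurj := QuotientGroup.mk'_surjective ((zpowers a).subgroupOf L)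
    have hax : (zpowers a).subgroupOf L ≤ center ↥L := fun x hx => mem_center_iff.2 fun l =>
      Subtype.ext (by
        obtain ⟨k, hk⟩ := mem_zpowers_iff.1 hx
        show (l : G) * x = x * l
        have hk' : a ^ k = (x : G) := hk
        rw [← hk', ((hLa _ l.2).zpow_right k).eq])
    rcases ((inferInstance : N.Normal).map _ hsurj).eq_bot_or_eq_top with hb | hb
    · exfalso
      have hzc' : QuotientGroup.mk' ((zpowers a).subgroupOf L) ⟨z, hzL⟩ ∈
          center (↥L ⧸ (zpowers a).subgroupOf L) := mem_center_iff.2 fun q => by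
        obtain ⟨l, rfl⟩ := hsurj q
        have h1 := mem_map_of_mem (QuotientGroup.mk' ((zpowers a).subgroupOf L)) (hmove l)
        rw [hb, mem_bot] at h1
        simp only [map_mul, map_inv] at h1
        exact mul_inv_eq_iff_eq_mul.1 (mul_inv_eq_one.1 h1)
      rcases (inferInstance : (center (↥L ⧸ (zpowers a).subgroupOf L)).Normal).eq_bot_or_eq_top
        with hc' | hc'
      · rw [hc', mem_bot, QuotientGroup.mk'_apply, QuotientGroup.eq_one_iff, mem_subgroupOf] at hzc'
        obtain ⟨k, hk⟩ := mem_zpowers_iff.1 hzc'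
        rcases Int.even_or_odd' k with ⟨j, rfl | rfl⟩
        · rw [zpow_mul, zpow_two, h.aa, one_zpow] at hk; exact h.z_ne_one hk.symm
        · rw [zpow_add_one, zpow_mul, zpow_two, h.aa, one_zpow, one_mul] at hk; exact h.ne hk
      · refine psu_not_comm hK ⟨⟨fun x y => i.symm.injective ?_⟩⟩
        have hx' : i.symm x ∈ center (↥L ⧸ (zpowers a).subgroupOf L) := hc' ▸ mem_top _
        rw [map_mul, map_mul, mem_center_iff.1 hx' (i.symm y)]
    · have htop : N ⊔ (zpowers a).subgroupOf L = ⊤ := by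
        rw [← comap_map_eq_self (H := N ⊔ _) (f := QuotientGroup.mk' ((zpowers a).subgroupOf L))
          (by rw [QuotientGroup.ker_mk']; exact le_sup_right), Subgroup.map_sup, hb, top_sup_eq, comap_top]
      have hcle : commutator ↥L ≤ N := by
        rw [_root_.commutator_def, Subgroup.commutator_le]
        intro x _ y _
        obtain ⟨n, hn', u, hu, rfl⟩ :=
          mem_sup_of_normal_left.1 (htop ▸ mem_top x : x ∈ N ⊔ (zpowers a).subgroupOf L)
        obtain ⟨m, hm, v, hv, rfl⟩ :=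
          mem_sup_of_normal_left.1 (htop ▸ mem_top y : y ∈ N ⊔ (zpowers a).subgroupOf L)
        have hu' := mem_center_iff.1 (hax hu)
        have hv' := mem_center_iff.1 (hax hv)
        have e : ⁅n * u, m * v⁆ = n * m * n⁻¹ * m⁻¹ := by
          rw [commutatorElement_def]
          calc n * u * (m * v) * (n * u)⁻¹ * (m * v)⁻¹
              = n * (u * (m * v)) * u⁻¹ * n⁻¹ * (v⁻¹ * m⁻¹) := by group
            _ = n * m * (v * n⁻¹) * (v⁻¹ * m⁻¹) := by rw [← hu' (m * v)]; group
            _ = n * m * n⁻¹ * m⁻¹ := by rw [← hv' n⁻¹]; group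
        rw [e]
        exact mul_mem (mul_mem (mul_mem hn' hm) (inv_mem hn')) (inv_mem hm)
      have haN : (⟨a, hB.a_mem⟩ : ↥L) ∈ N := by
        obtain ⟨l, hl, hla⟩ : a ∈ (commutator ↥L).map L.subtype := by
          rwa [map_subtype_commutator]
        rw [show (⟨a, hB.a_mem⟩ : ↥L) = l from Subtype.ext hla.symm]
        exact hcle hl
      have hNtop : N = ⊤ := by
        refine eq_top_iff.2 (htop ▸ sup_le le_rfl ?_)
        intro x hx
        obtain ⟨k, hk⟩ := mem_zpowers_iff.1 hx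
        rw [show x = (⟨a, hB.a_mem⟩ : ↥L) ^ k from Subtype.ext (by simp [hk])]
        exact zpow_mem haN k
      intro x hx
      have hz' : (⟨z, hzL⟩ : ↥L) ∈ N := hNtop ▸ mem_top _
      have h1 := mem_centralizer_iff.1 (mem_subgroupOf.1 hz') x hx
      have h2 := hinv x hx
      rw [← h1, mul_inv_cancel_right] at h2
      have h3 : x ^ 2 = 1 := by rw [pow_two]; nth_rewrite 2 [h2]; exact mul_inv_cancel x
      obtain ⟨k, hk⟩ := hOodd.of_dvd_nat (Subgroup.orderOf_dvd_natCard O hx)
      have h4 := pow_orderOf_eq_one x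
      rwa [hk, pow_succ, pow_mul, h3, one_pow, one_mul] at h4
  intro g
  have hG0 : ∀ g ∈ G0, Commute g a := fun g hg => by
    obtain ⟨o, ho, hoc⟩ := Invol.isolated_decomp hiso ⟨g, hg⟩
    have ho1 : o = 1 := Subtype.ext (hObot _ ⟨o, ho, rfl⟩)
    rw [ho1, inv_one, one_mul] at hoc
    exact congrArg Subtype.val hoc.eq
  obtain ⟨w, hw, hw0⟩ : ∃ w ∈ centralizer ({z} : Set G), w ∉ G0 := by
    by_contra hall
    push Not at hall
    obtain ⟨S, hS⟩ := sylow_le h
    have hle : (S : Subgroup G) ≤ G0 := hS.trans fun x hx => hall x hx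
    have h2 : 2 ∣ (S : Subgroup G).index := by
      have := index_dvd_of_le hle; rwa [hidx] at this
    exact S.not_dvd_index h2
  by_cases hg : g ∈ G0
  · exact hG0 g hg
  · have hwg : w⁻¹ * g ∈ G0 :=
      (mul_mem_iff_of_index_two hidx).2 (iff_of_false (fun h' => hw0 (by simpa using inv_mem h')) hg)
    simpa using (hf w hw).mul_left (hG0 _ hwg)

end Cfsg.Agent.Fi22Two
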