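import Cfsg.Agent.Fi22Two.Inner
import Cfsg.Agent.Fi22Two.Basic
import Cfsg.Agent.LargeExtra.Quotient
import Cfsg.Agent.U62Rec.ResultInner
import Cfsg.Agent.U62Rec.ResultOuter

/-!
# A complement of `a` in the centraliser of `z`

A subgroup `M` not containing `a` but meeting `C z` in a group covering the inner part modulo
`⟨a⟩` falls under the recognition theorems for `U₆(2)`.
-/

set_option autoImplicit false

open Cfsg Subgroup

namespace Cfsg.Agent.Fi22Two

open Cfsg.Agent.LargeExtra Cfsg.Agent.U62Rec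

/-- The inner automorphisms of PSp₄(3). -/
abbrev inn : Subgroup (MulAut (Cfsg.PSp 2 (ZMod 3))) :=
  (MulAut.conj : Cfsg.PSp 2 (ZMod 3) →* MulAut (Cfsg.PSp 2 (ZMod 3))).range

theorem conj_injective : Function.Injective
    (MulAut.conj : Cfsg.PSp 2 (ZMod 3) →* MulAut (Cfsg.PSp 2 (ZMod 3))) := mulAut_psp.2.2.2.2

theorem card_inn : Nat.card ↥inn = 25920 := by
  rw [← Nat.card_congr (MonoidHom.ofInjective conj_injective).toEquiv, card_psp_three]

theorem inn_index : inn.index = 2 := by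
  have h := mulAut_psp.2.2.1
  rwa [mulAut_psp.2.1] at h

theorem conj_normal (f : MulAut (Cfsg.PSp 2 (ZMod 3))) (x : Cfsg.PSp 2 (ZMod 3)) :
    f * MulAut.conj x * f⁻¹ = MulAut.conj (f x) :=
  MulEquiv.ext fun w => by simp [MulAut.mul_apply, map_mul, map_inv]

/-- A 2-group of automorphisms normalised by the inner ones is trivial. -/
theorem eq_bot_of_normalised (N : Subgroup (MulAut (Cfsg.PSp 2 (ZMod 3)))) (hN : IsPGroup 2 N)
    (hn : ∀ i ∈ inn, ∀ n ∈ N, i * n * i⁻¹ ∈ N) : N = ⊥ := by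
  have hinf : N ⊓ inn = ⊥ := by
    haveI := mulAut_psp.2.2.2.1
    have hnor : (N.comap (MulAut.conj : Cfsg.PSp 2 (ZMod 3) →* _)).Normal :=
      ⟨fun n hn' g => by
        rw [mem_comap, map_mul, map_mul, map_inv]
        exact hn _ ⟨g, rfl⟩ _ hn'⟩
    rcases hnor.eq_bot_or_eq_top with h | h
    · rw [eq_bot_iff]
      rintro _ ⟨hx, ⟨x, rfl⟩⟩
      have : x ∈ N.comap (MulAut.conj : Cfsg.PSp 2 (ZMod 3) →* _) := hx
      rw [h, mem_bot] at this
      simp [this]
    · exfalso
      have hle : inn ≤ N := by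
        rintro _ ⟨x, rfl⟩
        exact (h ▸ mem_top x : x ∈ N.comap (MulAut.conj : Cfsg.PSp 2 (ZMod 3) →* _))
      obtain ⟨k, hk⟩ := IsPGroup.iff_card.1 hN
      have h3 : 3 ∣ 2 ^ k := by
        rw [← hk]
        exact (show 3 ∣ Nat.card ↥inn by rw [card_inn]; norm_num).trans (card_dvd_of_le hle)
      have := (Nat.prime_dvd_prime_iff_eq Nat.prime_three Nat.prime_two).1
        (Nat.prime_three.dvd_of_dvd_pow h3)
      omega
  rw [eq_bot_iff]
  intro n hnN
  rw [mem_bot]
  refine MulEquiv.ext fun x => conj_injective ?_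
  rw [MulAut.one_apply, ← conj_normal]
  have hm : MulAut.conj x * n * (MulAut.conj x)⁻¹ * n⁻¹ ∈ N ⊓ inn := by
    refine ⟨N.mul_mem (hn _ ⟨x, rfl⟩ _ hnN) (N.inv_mem hnN), ?_⟩
    rw [mul_assoc (MulAut.conj x), mul_assoc (MulAut.conj x)]
    refine inn.mul_mem ⟨x, rfl⟩ ⟨n x⁻¹, ?_⟩
    rw [← conj_normal, map_inv]
  rw [hinf, mem_bot, mul_inv_eq_one, mul_inv_eq_iff_eq_mul] at hm
  rw [mul_inv_eq_iff_eq_mul, hm]

variable {G : Type*} [Group G] [Finite G] {z a : G}

/-- The action of `C z` on PSp₄(3). -/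
noncomputable def quotHom (h : Hyp z a) :
    ↥(centralizer ({z} : Set G)) →* MulAut (Cfsg.PSp 2 (ZMod 3)) :=
  h.quot.some.toMonoidHom.comp (QuotientGroup.mk' _)

theorem quotHom_surjective (h : Hyp z a) : Function.Surjective (quotHom h) :=
  h.quot.some.surjective.comp (QuotientGroup.mk'_surjective _)

theorem quotHom_eq_one (h : Hyp z a) (x : ↥(centralizer ({z} : Set G))) :
    quotHom h x = 1 ↔ (x : G) ∈ oc z := ker_quot h.quot.some x

theorem quotHom_inner (h : Hyp z a) :
    ((inner z).subgroupOf (centralizer ({z} : Set G))).map (quotHom h) = inn := by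
  rw [inner_subgroupOf, Subgroup.map_sup,
    (by rw [eq_bot_iff]; rintro _ ⟨x, hx, rfl⟩; rw [mem_bot, quotHom_eq_one]; exact ⟨x, hx, rfl⟩ :
      (pCore 2 ↥(centralizer ({z} : Set G))).map (quotHom h) = ⊥), sup_bot_eq,
    _root_.commutator_def, map_commutator, map_top_of_surjective _ (quotHom_surjective h)]
  exact mulAut_psp.2.1

/-- The centraliser of `z` in a subgroup, into that of the whole group. -/
def subCent (M : Subgroup G) (hzM : z ∈ M) :
    ↥(centralizer ({(⟨z, hzM⟩ : ↥M)} : Set ↥M)) →* ↥(centralizer ({z} : Set G)) :=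
  (M.subtype.comp (Subgroup.subtype _)).codRestrict _ fun x =>
    mem_centralizer_singleton_iff.2 (congrArg Subtype.val (mem_centralizer_singleton_iff.1 x.2))

/-- The setting in a subgroup covering the inner part modulo `⟨a⟩`. -/
theorem sub_setting (h : Hyp z a)
    (M : Subgroup G) (hzM : z ∈ M) (haM : a ∉ M) (hdec : ∀ x ∈ inner z, x ∈ M ∨ a * x ∈ M) :
    Setting (⟨z, hzM⟩ : ↥M) ∧ Nat.card ↥(oc (⟨z, hzM⟩ : ↥M)) = 512 ∧
      inn ≤ ((quotHom h).comp (subCent M hzM)).range ∧
      pCore 2 ↥(centralizer ({(⟨z, hzM⟩ : ↥M)} : Set ↥M)) = ((quotHom h).comp (subCent M hzM)).ker ∧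
      ∀ x : ↥M, x ∈ oc (⟨z, hzM⟩ : ↥M) ↔ (x : G) ∈ oc z := by
  set z' : ↥M := ⟨z, hzM⟩ with hz'
  set C := centralizer ({z'} : Set ↥M) with hC
  have hCz : ∀ x : ↥C, ((x : ↥M) : G) ∈ centralizer ({z} : Set G) := fun x =>
    mem_centralizer_singleton_iff.2 (congrArg Subtype.val (mem_centralizer_singleton_iff.1 x.2))
  have hmemC : ∀ y : ↥M, (y : G) ∈ centralizer ({z} : Set G) → y ∈ C := fun y hy =>
    mem_centralizer_singleton_iff.2 (Subtype.ext (mem_centralizer_singleton_iff.1 hy))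
  let ψ : ↥C →* ↥(centralizer ({z} : Set G)) := subCent M hzM
  set Φ : ↥C →* MulAut (Cfsg.PSp 2 (ZMod 3)) := (quotHom h).comp ψ with hΦ
  have hker : ∀ x : ↥C, Φ x = 1 ↔ ((x : ↥M) : G) ∈ oc z := fun x => quotHom_eq_one h (ψ x)
  have haz : a ∈ centralizer ({z} : Set G) := oc_le z h.a_mem
  have hrange : inn ≤ Φ.range := by
    rw [← quotHom_inner h]
    rintro _ ⟨x, hx, rfl⟩
    rcases hdec x hx with hm | hm
    · exact ⟨⟨⟨x, hm⟩, hmemC _ x.2⟩, rfl⟩
    · refine ⟨⟨⟨a * x, hm⟩, hmemC _ (mul_mem haz x.2)⟩, ?_⟩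
      show quotHom h (⟨a, haz⟩ * x) = _
      rw [map_mul, (quotHom_eq_one h ⟨a, haz⟩).2 h.a_mem, one_mul]
  have hJP : IsPGroup 2 ↥(oc z) := IsPGroup.of_card (n := 10) (by rw [h.card]; norm_num)
  have hkerP : IsPGroup 2 ↥Φ.ker :=
    hJP.of_injective ((M.subtype.comp (C.subtype.comp Φ.ker.subtype)).codRestrict _
      fun x => (hker x).1 x.2) fun x y e => by
        have := congrArg Subtype.val e
        exact Subtype.ext (Subtype.ext (Subtype.ext this))
  have hpc : pCore 2 ↥C = Φ.ker := by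
    refine le_antisymm ?_ (Core.le_pCore hkerP)
    intro x hx
    have hb := eq_bot_of_normalised ((pCore 2 ↥C).map Φ)
      ((Core.pCore_isPGroup (p := 2) (G := ↥C)).map _) ?_
    · have hm : Φ x ∈ (pCore 2 ↥C).map Φ := ⟨x, hx, rfl⟩
      rw [hb, mem_bot] at hm
      exact MonoidHom.mem_ker.2 hm
    · rintro i hi _ ⟨n, hn, rfl⟩
      obtain ⟨w, rfl⟩ := hrange hi
      exact ⟨w * n * w⁻¹, Subgroup.Normal.conj_mem inferInstance n hn w, by simp⟩
  have hoc : ∀ x : ↥M, x ∈ oc z' ↔ (x : G) ∈ oc z := by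
    intro x
    constructor
    · rintro ⟨y, hy, rfl⟩
      rw [hpc] at hy
      exact (hker y).1 hy
    · intro hx
      refine ⟨⟨x, hmemC x (oc_le z hx)⟩, ?_, rfl⟩
      rw [hpc]
      exact MonoidHom.mem_ker.2 ((hker _).2 hx)
  have hJ : ∀ j ∈ oc z, j ∈ M ∨ a * j ∈ M := fun j hj => hdec j (oc_le_inner z hj)
  have hord : orderOf z' = 2 := by rw [← orderOf_injective M.subtype M.subtype_injective]; exact h.ordz
  have hzoc : z' ∈ oc z' := (hoc _).2 h.z_mem
  have hca : ∀ j ∈ oc z, Commute a j := fun j hj =>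
    (h.centre a h.a_mem).2 (Or.inr (Or.inr (Or.inl rfl))) j hj
  have hcard : Nat.card ↥(oc z') = 512 := by
    have hrel : (M.subgroupOf (oc z)).index = 2 := by
      refine index_eq_two_iff_exists_notMem_and.2 ⟨⟨a, h.a_mem⟩, haM, fun b => ?_⟩
      rcases hJ _ b.2 with hb | hb
      · exact Or.inr hb
      · refine Or.inl ?_
        rw [mem_subgroupOf]
        show (b : G) * a ∈ M
        rwa [← (hca _ b.2).eq]
    have hc := (M.subgroupOf (oc z)).card_mul_index
    rw [hrel, h.card] at hc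
    have e : ↥(oc z') ≃ ↥(M.subgroupOf (oc z)) :=
      { toFun := fun x => ⟨⟨((x : ↥M) : G), (hoc _).1 x.2⟩, (x : ↥M).2⟩
        invFun := fun x => ⟨⟨((x : ↥(oc z)) : G), x.2⟩, (hoc _).2 (x : ↥(oc z)).2⟩
        left_inv := fun x => rfl
        right_inv := fun x => rfl }
    rw [Nat.card_congr e]
    omega
  have hcentre : ∀ x ∈ oc z', (∀ y ∈ oc z', Commute x y) → x = 1 ∨ x = z' := by
    intro x hx hxy
    have hx0 := (hoc x).1 hx
    rcases (h.centre _ hx0).1 (fun j hj => by
      rcases hJ j hj with hm | hm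
      · exact congrArg Subtype.val (hxy ⟨j, hm⟩ ((hoc _).2 hj)).eq
      · have hc : Commute (x : G) (a * j) :=
          congrArg Subtype.val (hxy ⟨a * j, hm⟩ ((hoc _).2 (mul_mem h.a_mem hj))).eq
        have := (hca _ hx0).symm.inv_right.mul_right hc
        rwa [inv_mul_cancel_left] at this) with e | e | e | e
    · exact Or.inl (Subtype.ext e)
    · exact Or.inr (Subtype.ext e)
    · exact absurd (e ▸ x.2) haM
    · have := M.mul_mem (e ▸ x.2 : a * z ∈ M) hzM
      rw [mul_assoc, h.zz, mul_one] at this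
      exact absurd this haM
  have hne : z' ≠ 1 := fun e => by simp [e] at hord
  have hzz : z' * z' = 1 := Subtype.ext h.zz
  have hext : IsExtraspecial 2 ↥(oc z') := by
    refine extraspecial_of (w := ⟨z', hzoc⟩) (IsPGroup.of_card (n := 9) (by rw [hcard]; norm_num))
      (fun e => hne (congrArg Subtype.val e)) (Subtype.ext hzz) ?_ ?_ ?_ ?_ ?_
    · exact mem_center_iff.2 fun g => Subtype.ext (Subtype.ext
        (mem_centralizer_singleton_iff.1 (oc_le z ((hoc _).1 g.2))))
    · intro c hc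
      rcases hcentre c c.2 (fun y hy => congrArg Subtype.val (mem_center_iff.1 hc ⟨y, hy⟩).symm)
        with e | e
      · exact Or.inl (Subtype.ext e)
      · exact Or.inr (Subtype.ext e)
    · intro u v
      rcases h.comm _ ((hoc _).1 u.2) _ ((hoc _).1 v.2) with e | e
      · exact Or.inl (Subtype.ext (Subtype.ext (by simpa [commutatorElement_def] using e)))
      · exact Or.inr (Subtype.ext (Subtype.ext (by simpa [commutatorElement_def] using e)))
    · intro u
      rcases h.sq _ ((hoc _).1 u.2) with e | e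
      · exact Or.inl (Subtype.ext (Subtype.ext e))
      · exact Or.inr (Subtype.ext (Subtype.ext e))
    · by_contra hab
      push Not at hab
      have hsub : (oc z' : Set ↥M) ⊆ {1, z'} := fun x hx => by
        simpa using hcentre x hx fun y hy => congrArg Subtype.val (hab ⟨x, hx⟩ ⟨y, hy⟩)
      have := Set.ncard_le_ncard hsub (Set.toFinite _)
      rw [Set.ncard_pair hne.symm] at this
      rw [← Nat.card_coe_set_eq] at this
      change Nat.card ↥(oc z') ≤ 2 at this
      omega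
  have hcent : centralizer ((oc z' : Subgroup ↥M) : Set ↥M) ≤ oc z' := by
    intro y hy
    have hyC : y ∈ C := mem_centralizer_singleton_iff.2 (mem_centralizer_iff.1 hy z' hzoc).symm
    let N : Subgroup ↥C := (centralizer ((oc z' : Subgroup ↥M) : Set ↥M)).subgroupOf C
    have hb := eq_bot_of_normalised (N.map Φ) ?_ ?_
    · have hm : Φ ⟨y, hyC⟩ ∈ N.map Φ := ⟨_, hy, rfl⟩
      rw [hb, mem_bot, hker] at hm
      exact (hoc y).2 hm
    · intro g
      refine ⟨1, ?_⟩
      obtain ⟨n, hn, hng⟩ := g.2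
      apply Subtype.ext
      show (g : MulAut (Cfsg.PSp 2 (ZMod 3))) ^ 2 ^ 1 = 1
      rw [← hng, ← map_pow, hker]
      apply h.cent
      rw [mem_centralizer_iff]
      intro j hj
      set m := ((n : ↥M) : G) with hm'
      have hmz : m ∈ centralizer ({z} : Set G) := hCz n
      have hfix : ∀ j0 ∈ oc z, j0 ∈ M → Commute m j0 := fun j0 h0 h1 =>
        congrArg Subtype.val (mem_centralizer_iff.1 hn ⟨j0, h1⟩ ((hoc _).2 h0)).symm
      have hzm : Commute m z := mem_centralizer_singleton_iff.1 hmz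
      have hma : Commute (m ^ 2) a := by
        rcases h.conj_a hmz with e | e
        · have hc1 : Commute m a := mul_inv_eq_iff_eq_mul.1 e
          exact hc1.pow_left 2
        · have e1 : m * a = a * z * m := mul_inv_eq_iff_eq_mul.1 e
          show m ^ 2 * a = a * m ^ 2
          calc m ^ 2 * a = m * (m * a) := by rw [pow_two, mul_assoc]
            _ = m * (a * z * m) := by rw [e1]
            _ = (m * a) * (z * m) := by group
            _ = a * z * m * (z * m) := by rw [e1]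
            _ = a * (z * (m * z)) * m := by group
            _ = a * (z * (z * m)) * m := by rw [hzm.eq]
            _ = a * m ^ 2 := by rw [← mul_assoc z, h.zz, one_mul, pow_two, mul_assoc]
      show j * (m ^ 2 ^ 1) = m ^ 2 ^ 1 * j
      rw [pow_one]
      rcases hJ j hj with hjM | hjM
      · exact ((hfix j hj hjM).pow_left 2).symm.eq
      · have := hma.inv_right.mul_right ((hfix _ (mul_mem h.a_mem hj) hjM).pow_left 2)
        rw [inv_mul_cancel_left] at this
        exact this.symm.eq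
    · rintro i hi _ ⟨n, hn, rfl⟩
      obtain ⟨w, rfl⟩ := hrange hi
      refine ⟨w * n * w⁻¹, ?_, by simp⟩
      show ((w * n * w⁻¹ : ↥C) : ↥M) ∈ centralizer ((oc z' : Subgroup ↥M) : Set ↥M)
      rw [mem_centralizer_iff]
      intro q hq
      have hq' : (w : ↥M)⁻¹ * q * w ∈ oc z' := by
        simpa using oc_conj_mem (x := z') (inv_mem w.2) hq
      have := mem_centralizer_iff.1 hn _ hq'
      simp only [Subgroup.coe_mul, InvMemClass.coe_inv]
      change _ * (n : ↥M) = (n : ↥M) * _ at this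
      calc q * ((w : ↥M) * n * (w : ↥M)⁻¹)
          = w * (((w : ↥M)⁻¹ * q * w) * n) * (w : ↥M)⁻¹ := by group
        _ = _ := by rw [this]; group
  exact ⟨⟨hord, hext, hcent⟩, hcard, hrange, hpc, hoc⟩

/-- Recognition of a subgroup covering the inner part modulo `⟨a⟩`. -/
theorem sub_recognise {K : Type*} [Field K] [Fintype K] (hK : Fintype.card K = 4) (h : Hyp z a)
    (M : Subgroup G) (hzM : z ∈ M) (haM : a ∉ M) (hdec : ∀ x ∈ inner z, x ∈ M ∨ a * x ∈ M) :
    centralizer ({(⟨z, hzM⟩ : ↥M)} : Set ↥M) ⊔ Cfsg.oddCore ↥M = ⊤ ∨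
      Nonempty (↥M ≃* Cfsg.PSU 6 K 2) ∨
      ∃ M₁ : Subgroup ↥M, M₁.index = 2 ∧ Nonempty (↥M₁ ≃* Cfsg.PSU 6 K 2) := by
  obtain ⟨S, hcard, hrange, hpc, -⟩ := sub_setting h M hzM haM hdec
  set C := centralizer ({(⟨z, hzM⟩ : ↥M)} : Set ↥M)
  set Φ : ↥C →* MulAut (Cfsg.PSp 2 (ZMod 3)) := (quotHom h).comp (subCent M hzM)
  let e₀ : (↥C ⧸ pCore 2 ↥C) ≃* ↥Φ.range :=
    (QuotientGroup.quotientMulEquivOfEq hpc).trans (QuotientGroup.quotientKerEquivRange Φ)
  rcases eq_or_ne Φ.range inn with hR | hR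
  · rcases recognise_inner S hcard ((e₀.trans (MulEquiv.subgroupCongr hR)).trans
      (MonoidHom.ofInjective conj_injective).symm) hK with hu | hu
    · exact Or.inr (Or.inl hu)
    · exact Or.inl hu
  · have htop : Φ.range = ⊤ := by
      have hdvd := index_dvd_of_le hrange
      rw [inn_index] at hdvd
      rcases (Nat.dvd_prime Nat.prime_two).1 hdvd with h1 | h1
      · exact index_eq_one.1 h1
      · refine absurd (le_antisymm ?_ hrange) hR
        intro x hx
        by_contra hxi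
        have hlt : inn < Φ.range := lt_of_le_not_ge hrange fun hle => hxi (hle hx)
        have h2 := relIndex_mul_index hrange
        rw [inn_index, h1] at h2
        exact hxi (relIndex_eq_one.1 (by omega) hx)
    rcases recognise_outer S hcard ((e₀.trans (MulEquiv.subgroupCongr htop)).trans topEquiv) hK with
      ⟨M₁, hi, hu, -⟩ | hu
    · exact Or.inr (Or.inr ⟨M₁, hi, hu⟩)
    · exact Or.inl hu

end Cfsg.Agent.Fi22Two
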