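import Cfsg.Agent.Fi22Two.Eval
import Cfsg.Agent.Fi22Two.SubRec
import Cfsg.Agent.S0283
import Cfsg.Agent.ThreeTrans.CountM22

/-!
# `a` outside the derived group of the component

Transfer to the quotient of `C z` by the complement of `⟨a⟩` gives a normal complement `M` of `a`,
which is recognised; so the simple component is normal.
-/

set_option autoImplicit false

open Cfsg Subgroup
open scoped commutatorElement

namespace Cfsg.Agent.Fi22Two

open Cfsg.Agent.LargeExtra Cfsg.Agent.U62Rec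

variable {G : Type*} [Group G] [Finite G] {z a : G}

/-- Moved vectors span the space of the inner natural configuration. -/
theorem natI_moved : ∀ k < 8, ∃ g ∈ NatI.gens, ∃ v < 256, app g v ^^^ v = 2 ^ k := by decide +kernel

/-- What is used about the derived group of the component. -/
structure Comp (z a : G) (L : Subgroup G) : Prop where
  cover : ∀ x ∈ L, x ∈ ⁅L, L⁆ ∨ a * x ∈ ⁅L, L⁆
  simple : IsSimpleGroup ↥⁅L, L⁆
  card : Nat.card ↥⁅L, L⁆ = 9196830720
  perfect : ⁅⁅L, L⁆, ⁅L, L⁆⁆ = ⁅L, L⁆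
  nmem : a ∉ ⁅L, L⁆
  centre : ∀ l ∈ ⁅L, L⁆, (∀ m ∈ ⁅L, L⁆, Commute l m) → l = 1
  a_comm : ∀ x ∈ L, Commute x a
  z_mem : z ∈ ⁅L, L⁆
  inner_le : inner z ≤ L
  meet : L ⊓ centralizer ({z} : Set G) = inner z
  le : ⁅L, L⁆ ≤ L

theorem comp_of_big {K : Type*} [Field K] [Fintype K] (hK : Fintype.card K = 4) (h : Hyp z a)
    {L : Subgroup G} (B : Big K z a L) (hp : a ∉ ⁅L, L⁆) : Comp z a L := by
  haveI hS : IsSimpleGroup (Cfsg.PSU 6 K 2) :=
    Cfsg.Agent.S0283.result (by rw [hK]; norm_num) 6 (by norm_num) (by norm_num)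
  have hcardU : Nat.card (Cfsg.PSU 6 K 2) = 9196830720 := Cfsg.Agent.ThreeTrans.card_psu_six hK
  have hperfU : commutator (Cfsg.PSU 6 K 2) = ⊤ := by
    rcases (inferInstance : (commutator (Cfsg.PSU 6 K 2)).Normal).eq_bot_or_eq_top with hb | hb
    · exfalso
      letI : CommGroup (Cfsg.PSU 6 K 2) :=
        { (inferInstance : Group (Cfsg.PSU 6 K 2)) with
          mul_comm := fun x y => commutatorElement_eq_one_iff_mul_comm.1
            ((eq_bot_iff.1 hb) (commutator_mem_commutator (mem_top x) (mem_top y))) }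
      have hpr := IsSimpleGroup.prime_card (α := Cfsg.PSU 6 K 2)
      rw [hcardU] at hpr
      rcases hpr.eq_one_or_self_of_dvd 2 (by norm_num) with e | e <;> norm_num at e
    · exact hb
  obtain ⟨hn, ⟨i⟩⟩ := B.iso
  haveI := hn
  let f : ↥L →* Cfsg.PSU 6 K 2 := i.toMonoidHom.comp (QuotientGroup.mk' _)
  have hf : Function.Surjective f := i.surjective.comp (QuotientGroup.mk'_surjective _)
  have haa : a * a = 1 := h.aa
  have hk : ∀ x : ↥L, f x = 1 ↔ (x : G) = 1 ∨ (x : G) = a := by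
    intro x
    refine ((MulEquiv.map_eq_one_iff i).trans (QuotientGroup.eq_one_iff x)).trans ?_
    rw [mem_subgroupOf]
    constructor
    · intro hx
      obtain ⟨k, hk⟩ := mem_zpowers_iff.1 hx
      rcases Int.even_or_odd' k with ⟨j, rfl | rfl⟩
      · left; rw [← hk, zpow_mul, zpow_two, haa, one_zpow]
      · right; rw [← hk, zpow_add, zpow_mul, zpow_two, haa, one_zpow, one_mul, zpow_one]
    · rintro (e | e) <;> rw [e]
      exacts [one_mem _, mem_zpowers a]
  have hac : ∀ x ∈ L, Commute x a := fun x hx => mem_centralizer_singleton_iff.1 (B.le hx)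
  have hle : ⁅L, L⁆ ≤ L := commutator_le.2 fun x hx y hy => by
    rw [commutatorElement_def]; exact mul_mem (mul_mem (mul_mem hx hy) (inv_mem hx)) (inv_mem hy)
  have hcover : ∀ x ∈ L, x ∈ ⁅L, L⁆ ∨ a * x ∈ ⁅L, L⁆ := by
    intro x hx
    have hm : f ⟨x, hx⟩ ∈ (commutator ↥L).map f := by
      rw [_root_.commutator_def, map_commutator, map_top_of_surjective f hf, ← _root_.commutator_def,
        hperfU]
      exact mem_top _
    obtain ⟨c, hc, hcx⟩ := hm
    have hc' : (c : G) ∈ ⁅L, L⁆ := by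
      rw [← map_subtype_commutator]
      exact ⟨c, hc, rfl⟩
    have h1 : f (c⁻¹ * ⟨x, hx⟩) = 1 := by rw [map_mul, map_inv, hcx, inv_mul_cancel]
    rcases (hk _).1 h1 with e | e
    · left
      have e' : (c : G)⁻¹ * x = 1 := e
      rw [← inv_mul_eq_one.1 e']; exact hc'
    · right
      have e' : (c : G)⁻¹ * x = a := e
      rw [inv_mul_eq_iff_eq_mul] at e'
      rw [e', (hac _ c.2).eq, ← mul_assoc, haa, one_mul]
      exact hc'
  let g : ↥⁅L, L⁆ →* Cfsg.PSU 6 K 2 := f.comp (inclusion hle)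
  have hgi : Function.Injective g := by
    refine (MonoidHom.ker_eq_bot_iff g).1 (eq_bot_iff.2 fun x hx => ?_)
    rcases (hk _).1 hx with e | e
    · exact Subtype.ext e
    · exact absurd ((e : (x : G) = a) ▸ x.2) hp
  have hgs : Function.Surjective g := by
    intro y
    obtain ⟨x, rfl⟩ := hf y
    rcases hcover x x.2 with hc | hc
    · exact ⟨⟨x, hc⟩, rfl⟩
    · refine ⟨⟨a * x, hc⟩, ?_⟩
      show f (⟨a, B.a_mem⟩ * x) = f x
      rw [map_mul, (hk ⟨a, B.a_mem⟩).2 (Or.inr rfl), one_mul]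
  let e : ↥⁅L, L⁆ ≃* Cfsg.PSU 6 K 2 := MulEquiv.ofBijective g ⟨hgi, hgs⟩
  haveI : Nontrivial ↥⁅L, L⁆ := e.toEquiv.nontrivial
  haveI : IsSimpleGroup ↥⁅L, L⁆ := IsSimpleGroup.isSimpleGroup_of_surjective
    e.symm.toMonoidHom e.symm.surjective
  have hperf : commutator ↥⁅L, L⁆ = ⊤ := by
    apply map_injective (f := g) hgi
    rw [_root_.commutator_def, map_commutator, map_top_of_surjective g hgs, ← _root_.commutator_def,
      hperfU]
  have hJL : oc z ≤ L := (oc_le_inner z).trans (B.meet ▸ inf_le_left)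
  refine ⟨hcover, inferInstance, (Nat.card_congr e.toEquiv).trans hcardU, ?_, hp, ?_, hac, ?_,
    B.meet ▸ inf_le_left, B.meet, hle⟩
  · rw [← map_subtype_commutator, hperf, ← MonoidHom.range_eq_map, range_subtype]
  · intro l hl hcomm
    rcases (inferInstance : (center ↥⁅L, L⁆).Normal).eq_bot_or_eq_top with hc | hc
    · have hm : (⟨l, hl⟩ : ↥⁅L, L⁆) ∈ center ↥⁅L, L⁆ :=
        mem_center_iff.2 fun m => Subtype.ext (hcomm m m.2).eq.symm
      rw [hc, mem_bot] at hm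
      exact congrArg Subtype.val hm
    · exfalso
      have hb : commutator ↥⁅L, L⁆ = ⊥ := by
        rw [_root_.commutator_def, commutator_eq_bot_iff_le_centralizer]
        intro x _
        rw [mem_centralizer_iff]
        exact fun y _ => (mem_center_iff.1 (hc ▸ mem_top x) y)
      rw [hperf] at hb
      exact top_ne_bot hb
  · obtain ⟨x, hx, y, hy, e'⟩ := h.exists_comm_eq_z
    rw [← e']
    exact commutator_mem_commutator (hJL hx) (hJL hy)

section
variable {K : Type*} [Field K] [Fintype K] (h : Hyp z a) {L : Subgroup G} (P : Comp z a L)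
include h P

theorem comp_small (M : Subgroup G) (hzM : z ∈ M) (hLM : ⁅L, L⁆ ≤ M) :
    centralizer ({(⟨z, hzM⟩ : ↥M)} : Set ↥M) ⊔ Cfsg.oddCore ↥M ≠ ⊤ := by
  intro ht
  set C := centralizer ({(⟨z, hzM⟩ : ↥M)} : Set ↥M) with hC
  haveI hON : (Cfsg.oddCore ↥M).Normal := inferInstance
  let q : ↥⁅L, L⁆ →* ↥M ⧸ Cfsg.oddCore ↥M :=
    (QuotientGroup.mk' _).comp (inclusion hLM)
  have hqi : Function.Injective q := by
    haveI := P.simple
    refine (MonoidHom.ker_eq_bot_iff q).1 ?_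
    rcases (inferInstance : q.ker.Normal).eq_bot_or_eq_top with hb | hb
    · exact hb
    · exfalso
      have hle : (⁅L, L⁆).subgroupOf M ≤ Cfsg.oddCore ↥M := by
        intro x hx
        have : (⟨(x : G), hx⟩ : ↥⁅L, L⁆) ∈ q.ker := hb ▸ mem_top _
        exact (QuotientGroup.eq_one_iff _).1 this
      have hd := card_dvd_of_le hle
      rw [Nat.card_congr (subgroupOfEquivOfLe hLM).toEquiv, P.card] at hd
      have hodd : Odd (Nat.card ↥(Cfsg.oddCore ↥M)) :=
        Nat.coprime_two_right.1 (Cfsg.Agent.Core.coprime_card_pPrimeCore (p := 2) (G := ↥M))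
      exact absurd ((show (2 : ℕ) ∣ 9196830720 by norm_num).trans hd)
        (fun h2 => Nat.not_even_iff_odd.2 hodd (even_iff_two_dvd.2 h2))
  have hsur : Function.Surjective ((QuotientGroup.mk' (Cfsg.oddCore ↥M)).comp C.subtype) := by
    intro x
    obtain ⟨y, rfl⟩ := QuotientGroup.mk'_surjective _ x
    obtain ⟨c, hc, o, ho, rfl⟩ := mem_sup_of_normal_right.1 (ht ▸ mem_top y : y ∈ C ⊔ Cfsg.oddCore ↥M)
    refine ⟨⟨c, hc⟩, ?_⟩
    show QuotientGroup.mk' _ c = QuotientGroup.mk' _ (c * o)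
    rw [map_mul, (QuotientGroup.eq_one_iff o).2 ho |> fun e => (e : QuotientGroup.mk' _ o = 1),
      mul_one]
  have h1 := Nat.card_le_card_of_injective q hqi
  have h2 := Nat.card_le_card_of_surjective _ hsur
  have h3 : Nat.card ↥C ≤ Nat.card ↥(centralizer ({z} : Set G)) :=
    Nat.card_le_card_of_injective (subCent M hzM) fun x y e =>
      Subtype.ext (Subtype.ext (congrArg (fun w : ↥(centralizer ({z} : Set G)) => (w : G)) e))
  rw [P.card] at h1
  rw [h.card_inner.1] at h3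
  omega

/-- The derived group of the component is normalised by `G₀`. -/
theorem comp_normal (hK : Fintype.card K = 4) (G₀ : Subgroup G) (hIG : inner z ≤ G₀) (hLG : L ≤ G₀)
    {A : Type*} [CommGroup A] (lam : ↥((centralizer ({z} : Set G)).subgroupOf G₀) →* A)
    (hla : ∀ hm, lam ⟨⟨a, hLG (P.inner_le (oc_le_inner z h.a_mem))⟩, hm⟩ ≠ 1) :
    ∀ g ∈ G₀, ∀ l ∈ ⁅L, L⁆, g * l * g⁻¹ ∈ ⁅L, L⁆ := by
  set s : ↥G₀ := ⟨a, hLG (P.inner_le (oc_le_inner z h.a_mem))⟩ with hs
  have hsH : s ∈ ((centralizer ({z} : Set G)).subgroupOf G₀) := oc_le z h.a_mem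
  have hss : s * s = 1 := Subtype.ext h.aa
  set T := (oc z).subgroupOf G₀ with hT'
  have hT : IsPGroup 2 ↥T :=
    (oc_isPGroup z).of_equiv (subgroupOfEquivOfLe ((oc_le_inner z).trans hIG)).symm
  have heval : MonoidHom.transfer lam s = lam ⟨s, hsH⟩ := by
    refine transfer_eval lam hsH T hT (fun t ht => oc_le z ht)
      (fun t ht => Subtype.ext (h.comm_mem_a ht).eq) ?_ ?_
    · intro g n hm
      rw [← map_mul]
      convert map_one lam
      apply Subtype.ext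
      show g⁻¹ * s ^ n * g * (g⁻¹ * s ^ n * g) = 1
      rw [show g⁻¹ * s ^ n * g * (g⁻¹ * s ^ n * g) = g⁻¹ * (s ^ n * s ^ n) * g by group,
        ← (Commute.refl s).mul_pow, hss, one_pow]
      group
    · intro g hg n hn hm hmin hfixT
      rcases eq_or_ne n 1 with rfl | hn1
      · exfalso
        rw [pow_one] at hm
        have hg' : ∀ t ∈ T, g⁻¹ * t * g ∈ ((centralizer ({z} : Set G)).subgroupOf G₀) := by
          intro t ht
          obtain ⟨k, hk⟩ := hfixT t ht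
          have hsk : g⁻¹ * s ^ k * g ∈ ((centralizer ({z} : Set G)).subgroupOf G₀) := by
            have := ((centralizer ({z} : Set G)).subgroupOf G₀).pow_mem hm k
            rwa [show (g⁻¹ * s * g) ^ k = g⁻¹ * s ^ k * g by
              have e := conj_pow (i := k) (a := g⁻¹) (b := s); simpa using e] at this
          have := ((centralizer ({z} : Set G)).subgroupOf G₀).mul_mem hsk hk
          rwa [show g⁻¹ * s ^ k * g * ((s ^ k * g)⁻¹ * t * g) = g⁻¹ * t * g by group] at this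
        have hw : ∀ j ∈ oc z, Commute ((g : G) * z * (g : G)⁻¹) j := by
          intro j hj
          have hj' : Commute ((g : G)⁻¹ * j * g) z :=
            mem_centralizer_singleton_iff.1 (hg' ⟨j, hIG (oc_le_inner z hj)⟩ hj)
          have := hj'.symm.map (MulAut.conj (g : G))
          simpa [MulAut.conj_apply, mul_assoc] using this
        rcases h.central_cases hw with e | e | e | e
        · exact h.z_ne_one (conj_eq_one_iff.1 e)
        · exact hg (mem_centralizer_singleton_iff.2 (mul_inv_eq_iff_eq_mul.1 e))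
        · exact not_conj h (isConj_iff.2 ⟨_, e⟩)
        · exact not_conj_az h (isConj_iff.2 ⟨_, e⟩)
      · have hn2 : n = 2 := by
          by_contra hne
          exact hmin 2 two_pos (by omega) (by simp [pow_two, hss])
        subst hn2
        convert map_one lam
        exact Subtype.ext (by simp [pow_two, hss])
  set V : ↥G₀ →* A := MonoidHom.transfer lam with hV
  set M := V.ker.map G₀.subtype with hM
  have hmemM : ∀ x : ↥G₀, (x : G) ∈ M ↔ V x = 1 := by
    intro x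
    rw [hM]
    constructor
    · rintro ⟨y, hy, e⟩
      rw [show x = y from Subtype.ext e.symm]; exact hy
    · exact fun hx => ⟨x, hx, rfl⟩
  have hLM : ⁅L, L⁆ ≤ M := by
    rw [commutator_le]
    intro x hx y hy
    refine (hmemM ⁅(⟨x, hLG hx⟩ : ↥G₀), ⟨y, hLG hy⟩⁆).2 ?_
    rw [map_commutatorElement, commutatorElement_eq_one_iff_mul_comm, mul_comm]
  have haM : a ∉ M := fun e => hla hsH (heval.symm.trans ((hmemM s).1 e))
  have hzM : z ∈ M := hLM P.z_mem
  have hdec : ∀ x ∈ inner z, x ∈ M ∨ a * x ∈ M := fun x hx => by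
    rcases P.cover x (P.inner_le hx) with e | e
    exacts [Or.inl (hLM e), Or.inr (hLM e)]
  have hUc : Nat.card (Cfsg.PSU 6 K 2) = 9196830720 := Cfsg.Agent.ThreeTrans.card_psu_six hK
  have hder : ⁅M, M⁆ = ⁅L, L⁆ := by
    refine le_antisymm ?_ (P.perfect.ge.trans (commutator_mono hLM hLM))
    rcases sub_recognise hK h M hzM haM hdec with hd | ⟨⟨e⟩⟩ | ⟨M₁, hM₁, ⟨e⟩⟩
    · exact absurd hd (comp_small h P M hzM hLM)
    · have heq : ⁅L, L⁆ = M := eq_of_le_of_card_ge hLM (by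
        rw [P.card, Nat.card_congr e.toEquiv, hUc])
      rw [← heq, P.perfect]
    · have hc : Nat.card ↥M = 2 * 9196830720 := by
        rw [← M₁.card_mul_index, hM₁, Nat.card_congr e.toEquiv, hUc]
      have hi : ((⁅L, L⁆).subgroupOf M).index = 2 := by
        have := ((⁅L, L⁆).subgroupOf M).card_mul_index
        rw [Nat.card_congr (subgroupOfEquivOfLe hLM).toEquiv, P.card, hc] at this
        omega
      rw [commutator_le]
      intro x hx y hy
      show ((⁅(⟨x, hx⟩ : ↥M), ⟨y, hy⟩⁆ : ↥M) : G) ∈ ⁅L, L⁆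
      rw [← mem_subgroupOf, commutatorElement_def]
      simp only [mul_mem_iff_of_index_two hi, inv_mem_iff]
      tauto
  intro g hg l hl
  have hconj : M.map (MulAut.conj g).toMonoidHom ≤ M := by
    rintro _ ⟨x, hx, rfl⟩
    obtain ⟨y, hy, rfl⟩ := hx
    refine (hmemM (⟨g, hg⟩ * y * ⟨g, hg⟩⁻¹)).2 ?_
    rw [map_mul, map_mul, map_inv, MonoidHom.mem_ker.1 hy, mul_one, mul_inv_cancel]
  have hm : g * l * g⁻¹ ∈ (⁅M, M⁆).map (MulAut.conj g).toMonoidHom := ⟨l, hder.ge hl, rfl⟩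
  rw [map_commutator] at hm
  exact hder.le (commutator_mono hconj hconj hm)

/-- No homomorphism of order two on the centraliser of `z` in the component. -/
theorem comp_hom_trivial (hL : z ∈ ⁅L, L⁆)
    (χ : ↥(centralizer ({(⟨z, hL⟩ : ↥⁅L, L⁆)} : Set ↥⁅L, L⁆)) →* Multiplicative (ZMod 2))
    (x : ↥(centralizer ({(⟨z, hL⟩ : ↥⁅L, L⁆)} : Set ↥⁅L, L⁆))) : χ x = 1 := by
  obtain ⟨S, hcard, hrange, hpc, hoc⟩ := sub_setting h ⁅L, L⁆ hL P.nmem
    fun y hy => P.cover y (P.inner_le hy)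
  set Φ := (quotHom h).comp (subCent ⁅L, L⁆ hL) with hΦ
  have hR : Φ.range = inn := by
    refine le_antisymm ?_ hrange
    rintro _ ⟨y, rfl⟩
    rw [← quotHom_inner h]
    refine ⟨subCent ⁅L, L⁆ hL y, ?_, rfl⟩
    exact P.meet.le ⟨P.le (y : ↥⁅L, L⁆).2, (subCent ⁅L, L⁆ hL y).2⟩
  let e₀ := (QuotientGroup.quotientMulEquivOfEq hpc).trans (QuotientGroup.quotientKerEquivRange Φ)
  obtain ⟨c, hcm, ⟨W⟩⟩ := mod_of_inner S hcard
    ((e₀.trans (MulEquiv.subgroupCongr hR)).trans (MonoidHom.ofInjective conj_injective).symm)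
  rw [inner_lists] at hcm
  simp only [List.mem_cons, List.not_mem_nil, or_false] at hcm
  rcases hcm with rfl | rfl | rfl
  swap; · exact absurd (RedIP.main W) (comp_small h P ⁅L, L⁆ hL le_rfl)
  swap; · exact absurd (RedIM.main W) (comp_small h P ⁅L, L⁆ hL le_rfl)
  -- the kernel covers every vector
  let good : ℕ → Prop := fun v => ∃ (p : ↥⁅L, L⁆) (hp : p ∈ oc (⟨z, hL⟩ : ↥⁅L, L⁆)),
    χ ⟨p, oc_le (⟨z, hL⟩ : ↥⁅L, L⁆) hp⟩ = 1 ∧ W.bar p = v
  have hinv : ∀ p ∈ oc (⟨z, hL⟩ : ↥⁅L, L⁆), W.bar p⁻¹ = W.bar p := by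
    intro p hp
    have h1 := W.bar_mul p⁻¹ (inv_mem hp) p hp
    rw [inv_mul_cancel, W.bar_one] at h1
    exact Nat.xor_eq_zero_iff.1 h1.symm
  have hadd : ∀ u v, good u → good v → good (u ^^^ v) := by
    rintro u v ⟨p, hp, hpχ, rfl⟩ ⟨q, hq, hqχ, rfl⟩
    refine ⟨p * q, mul_mem hp hq, ?_, W.bar_mul p hp q hq⟩
    rw [show (⟨p * q, oc_le (⟨z, hL⟩ : ↥⁅L, L⁆) (mul_mem hp hq)⟩ : ↥(centralizer ({(⟨z, hL⟩ : ↥⁅L, L⁆)} : Set ↥⁅L, L⁆))) = ⟨p, oc_le (⟨z, hL⟩ : ↥⁅L, L⁆) hp⟩ * ⟨q, oc_le (⟨z, hL⟩ : ↥⁅L, L⁆) hq⟩ from rfl,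
      map_mul, hpχ, hqχ, mul_one]
  have hkill : ∀ u v : ↥(centralizer ({(⟨z, hL⟩ : ↥⁅L, L⁆)} : Set ↥⁅L, L⁆)), χ (u * v * u⁻¹ * v⁻¹) = 1 := fun u v => by
    rw [map_mul, map_mul, map_mul, map_inv, map_inv, mul_comm (χ u) (χ v), mul_inv_cancel_right,
      mul_inv_cancel]
  have hbit : ∀ k < 8, good (2 ^ k) := by
    intro k hk
    obtain ⟨g, hg, v, hv, e⟩ := natI_moved k hk
    obtain ⟨t, ht, htg⟩ := W.rho_surj g hg
    obtain ⟨p, hp, hpv⟩ := W.bar_surj v hv
    have hp' := oc_conj_mem ht hp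
    refine ⟨t * p * t⁻¹ * p⁻¹, mul_mem hp' (inv_mem hp), ?_, ?_⟩
    · exact hkill ⟨t, ht⟩ ⟨p, oc_le (⟨z, hL⟩ : ↥⁅L, L⁆) hp⟩
    · rw [W.bar_mul _ hp' _ (inv_mem hp), hinv p hp, W.rho_act t ht p hp, htg, hpv, e]
  have hzero : good 0 := ⟨1, one_mem _, map_one χ, W.bar_one⟩
  have hall : ∀ n, n ≤ 8 → ∀ v < 2 ^ n, good v := by
    intro n
    induction n with
    | zero => intro _ v hv; rw [show v = 0 by simpa using hv]; exact hzero
    | succ n ih =>
      intro hn v hv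
      by_cases hv' : v < 2 ^ n
      · exact ih (by omega) v hv'
      have h256 : 2 ^ (n + 1) ≤ 256 :=
        (Nat.pow_le_pow_right (by norm_num) hn).trans (by norm_num)
      have hlt : v ^^^ 2 ^ n < 2 ^ n := by
        have hd : v / 2 ^ n = 1 := by
          apply Nat.div_eq_of_lt_le
          · omega
          · rw [pow_succ] at hv; omega
        have ht : v.testBit n = true := by
          rw [Nat.testBit, Nat.shiftRight_eq_div_pow, hd]; rfl
        apply Nat.lt_pow_two_of_testBit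
        intro i hi
        rw [Nat.testBit_xor, Nat.testBit_two_pow]
        rcases eq_or_lt_of_le hi with rfl | hi'
        · simp [ht]
        · rw [Nat.testBit_eq_false_of_lt (hv.trans_le (Nat.pow_le_pow_right (by norm_num) hi'))]
          simp [hi'.ne]
      have := hadd _ _ (ih (by omega) _ hlt) (hbit n (by omega))
      rwa [Nat.xor_assoc, Nat.xor_self, Nat.xor_zero] at this
  have hJ : ∀ (p : ↥⁅L, L⁆) (hp : p ∈ oc (⟨z, hL⟩ : ↥⁅L, L⁆)), χ ⟨p, oc_le (⟨z, hL⟩ : ↥⁅L, L⁆) hp⟩ = 1 := by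
    intro p hp
    obtain ⟨q, hq, hqχ, hqv⟩ := hall 8 le_rfl _ (W.bar_lt p)
    have h0 : W.bar (q⁻¹ * p) = 0 := by
      rw [W.bar_mul _ (inv_mem hq) _ hp, hinv q hq, hqv, Nat.xor_self]
    have hd : χ ⟨q⁻¹ * p, oc_le (⟨z, hL⟩ : ↥⁅L, L⁆) (mul_mem (inv_mem hq) hp)⟩ = 1 := by
      rcases W.bar_eq _ (mul_mem (inv_mem hq) hp) h0 with e | e
      · convert map_one χ; exact e
      · obtain ⟨u, hu, v, hv, huv⟩ : ∃ u ∈ oc (⟨z, hL⟩ : ↥⁅L, L⁆), ∃ v ∈ oc (⟨z, hL⟩ : ↥⁅L, L⁆), u * v * u⁻¹ * v⁻¹ = (⟨z, hL⟩ : ↥⁅L, L⁆) := by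
          by_contra hcon
          push Not at hcon
          have hab : ∀ u ∈ oc (⟨z, hL⟩ : ↥⁅L, L⁆), ∀ v ∈ oc (⟨z, hL⟩ : ↥⁅L, L⁆), Commute u v := fun u hu v hv => by
            rcases S.commutator_cases hu hv with e' | e'
            · exact mul_inv_eq_iff_eq_mul.1 (mul_inv_eq_one.1 e')
            · exact absurd e' (hcon u hu v hv)
          have hsub : (oc (⟨z, hL⟩ : ↥⁅L, L⁆) : Set ↥⁅L, L⁆) ⊆ {1, (⟨z, hL⟩ : ↥⁅L, L⁆)} := fun w hw => by
            simpa using S.center_cases hw fun v hv => hab v hv w hw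
          have hc' := Set.ncard_le_ncard hsub (Set.toFinite _)
          rw [Set.ncard_pair S.ne_one.symm, ← Nat.card_coe_set_eq] at hc'
          change Nat.card ↥(oc (⟨z, hL⟩ : ↥⁅L, L⁆)) ≤ 2 at hc'
          omega
        convert hkill ⟨u, oc_le (⟨z, hL⟩ : ↥⁅L, L⁆) hu⟩ ⟨v, oc_le (⟨z, hL⟩ : ↥⁅L, L⁆) hv⟩
        exact e.trans huv.symm
    calc χ ⟨p, oc_le (⟨z, hL⟩ : ↥⁅L, L⁆) hp⟩
        = χ (⟨q, oc_le (⟨z, hL⟩ : ↥⁅L, L⁆) hq⟩ * ⟨q⁻¹ * p, oc_le (⟨z, hL⟩ : ↥⁅L, L⁆) (mul_mem (inv_mem hq) hp)⟩) :=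
          congrArg χ (Subtype.ext (mul_inv_cancel_left q p).symm)
      _ = 1 := by rw [map_mul, hqχ, hd, mul_one]
  have hx : Φ x ∈ (commutator ↥(centralizer ({(⟨z, hL⟩ : ↥⁅L, L⁆)} : Set ↥⁅L, L⁆))).map Φ := by
    rw [_root_.commutator_def, map_commutator, ← MonoidHom.range_eq_map, hR, inn,
      MonoidHom.range_eq_map, ← map_commutator, ← _root_.commutator_def]
    have hP : commutator (Cfsg.PSp 2 (ZMod 3)) = ⊤ := by
      have h1 := mulAut_psp.2.1
      haveI := mulAut_psp.2.2.2.1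
      rcases (inferInstance : (commutator (Cfsg.PSp 2 (ZMod 3))).Normal).eq_bot_or_eq_top with hb | hb
      · exfalso
        apply Sp43.model.rels.ne
        exact commutatorElement_eq_one_iff_mul_comm.1
          ((eq_bot_iff.1 hb) (commutator_mem_commutator (mem_top _) (mem_top _)))
      · exact hb
    rw [hP, ← MonoidHom.range_eq_map]
    exact hR.le ⟨x, rfl⟩
  obtain ⟨w, hw, hwx⟩ := hx
  have hwχ : χ w = 1 := Abelianization.commutator_subset_ker χ hw
  have hk : w⁻¹ * x ∈ pCore 2 ↥(centralizer ({(⟨z, hL⟩ : ↥⁅L, L⁆)} : Set ↥⁅L, L⁆)) := by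
    rw [hpc, MonoidHom.mem_ker, map_mul, map_inv, hwx, inv_mul_cancel]
  have hmem : ((w⁻¹ * x : ↥(centralizer ({(⟨z, hL⟩ : ↥⁅L, L⁆)} : Set ↥⁅L, L⁆))) : ↥⁅L, L⁆) ∈ oc (⟨z, hL⟩ : ↥⁅L, L⁆) := ⟨_, hk, rfl⟩
  have := hJ _ hmem
  rw [Subtype.coe_eta, map_mul, map_inv, hwχ, inv_one, one_mul] at this
  exact this

end

/-- `a` is central when it lies outside the derived group of the component and is fixed. -/
theorem split_fixed {K : Type*} [Field K] [Fintype K] (h : Hyp z a) (hf : Fixed z a)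
    {L : Subgroup G} (B : Big K z a L) (hK : Fintype.card K = 4) (hp : a ∉ ⁅L, L⁆)
    (G₀ : Subgroup G) (hidx : G₀.index = 2) (hG : G₀ ⊓ centralizer ({z} : Set G) = inner z)
    (hGC : G₀ ⊓ centralizer ({a} : Set G) = L) : ∀ g, Commute g a := by
  classical
  have P := comp_of_big hK h B hp
  have hLG : L ≤ G₀ := hGC ▸ inf_le_left
  have hIG : inner z ≤ G₀ := hG ▸ inf_le_left
  have hin : ∀ x : ↥((centralizer ({z} : Set G)).subgroupOf G₀), ((x : ↥G₀) : G) ∈ L := fun x =>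
    P.inner_le (hG.le ⟨(x : ↥G₀).2, x.2⟩)
  have hpar : ∀ u ∈ L, ∀ v ∈ L, (u * v ∈ ⁅L, L⁆ ↔ (u ∈ ⁅L, L⁆ ↔ v ∈ ⁅L, L⁆)) := by
    intro u hu v hv
    by_cases hu' : u ∈ ⁅L, L⁆
    · simp [hu', mul_mem_cancel_left]
    by_cases hv' : v ∈ ⁅L, L⁆
    · simp [hu', hv', mul_mem_cancel_right]
    refine iff_of_true ?_ (iff_of_false hu' hv')
    have h1 := mul_mem ((P.cover u hu).resolve_left hu') ((P.cover v hv).resolve_left hv')
    rwa [show a * u * (a * v) = u * v by
      rw [← (P.a_comm u hu).eq, mul_assoc, ← mul_assoc a a, h.aa, one_mul]] at h1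
  let lam : ↥((centralizer ({z} : Set G)).subgroupOf G₀) →* Multiplicative (ZMod 2) :=
    MonoidHom.mk' (fun x => if ((x : ↥G₀) : G) ∈ ⁅L, L⁆ then 1 else Multiplicative.ofAdd 1) (by
      intro u v
      have := hpar _ (hin u) _ (hin v)
      simp only [Subgroup.coe_mul]
      by_cases hu : ((u : ↥G₀) : G) ∈ ⁅L, L⁆ <;> by_cases hv : ((v : ↥G₀) : G) ∈ ⁅L, L⁆ <;>
        simp [hu, hv, this] <;> decide)
  have hN := comp_normal h P hK G₀ hIG hLG lam fun hm e => by
    simp only [lam, MonoidHom.mk'_apply, if_neg P.nmem] at e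
    exact absurd e (by decide)
  have hGa : ∀ g ∈ G₀, Commute g a := by
    intro g hg
    have hc : ∀ l ∈ ⁅L, L⁆, Commute (g * a * g⁻¹) l := by
      intro l hl
      have hl' := hN g⁻¹ (inv_mem hg) l hl
      have := ((P.a_comm _ (P.le hl')).symm).map (MulAut.conj g)
      simpa [MulAut.conj_apply, mul_assoc] using this
    have hwI : g * a * g⁻¹ ∈ inner z := hG.le <| mem_inf.2
      ⟨mul_mem (mul_mem hg (hLG (P.inner_le (oc_le_inner z h.a_mem)))) (inv_mem hg),
        mem_centralizer_singleton_iff.2 (hc z P.z_mem).eq⟩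
    rcases P.cover _ (P.inner_le hwI) with e | e
    · exact absurd (conj_eq_one_iff.1 (P.centre _ e hc)) h.a_ne_one
    · have h1 := P.centre _ e fun m hm => ((P.a_comm m (P.le hm)).symm).mul_left (hc m hm)
      have h2 : g * a * g⁻¹ = a := by
        rw [← inv_eq_of_mul_eq_one_right h1, inv_eq_of_mul_eq_one_right h.aa]
      exact mul_inv_eq_iff_eq_mul.1 h2
  obtain ⟨s, hs, hsG⟩ : ∃ s ∈ centralizer ({z} : Set G), s ∉ G₀ := by
    by_contra hcon
    push Not at hcon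
    have h1 : ((inner z).subgroupOf (centralizer ({z} : Set G))) = ⊤ :=
      eq_top_iff.2 fun x _ => hG.le ⟨hcon x x.2, x.2⟩
    have := h.inner_index
    rw [h1, index_top] at this
    omega
  intro g
  by_cases hg : g ∈ G₀
  · exact hGa g hg
  · have := (hGa (g * s) ((mul_mem_iff_of_index_two hidx).2 (iff_of_false hg hsG))).mul_left
      (hf s hs).inv_left
    simpa using this

/-- When `a` is moved, it lies in the derived group of the component. -/
theorem split_swap {K : Type*} [Field K] [Fintype K] (h : Hyp z a) (hf : ¬ Fixed z a)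
    {L : Subgroup G} (B : Big K z a L) (hK : Fintype.card K = 4) : a ∈ ⁅L, L⁆ := by
  classical
  by_contra hp
  have P := comp_of_big hK h B hp
  set H := centralizer ({z} : Set G) with hH
  set N := ⁅L, L⁆ ⊓ inner z with hN
  have hzL := P.z_mem
  have hnor : ∀ c ∈ H, ∀ x ∈ N, c * x * c⁻¹ ∈ N := by
    intro c hc
    have hI : ∀ y : ↥(centralizer ({(⟨z, hzL⟩ : ↥⁅L, L⁆)} : Set ↥⁅L, L⁆)),
        c * ((y : ↥⁅L, L⁆) : G) * c⁻¹ ∈ inner z := fun y =>
      inner_normal hc (P.meet.le ⟨P.le (y : ↥⁅L, L⁆).2, (subCent _ hzL y).2⟩)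
    have hpar : ∀ u ∈ L, ∀ v ∈ L, (u * v ∈ ⁅L, L⁆ ↔ (u ∈ ⁅L, L⁆ ↔ v ∈ ⁅L, L⁆)) := by
      intro u hu v hv
      by_cases hu' : u ∈ ⁅L, L⁆
      · simp [hu', mul_mem_cancel_left]
      by_cases hv' : v ∈ ⁅L, L⁆
      · simp [hu', hv', mul_mem_cancel_right]
      refine iff_of_true ?_ (iff_of_false hu' hv')
      have h1 := mul_mem ((P.cover u hu).resolve_left hu') ((P.cover v hv).resolve_left hv')
      rwa [show a * u * (a * v) = u * v by
        rw [← (P.a_comm u hu).eq, mul_assoc, ← mul_assoc a a, h.aa, one_mul]] at h1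
    let χ : ↥(centralizer ({(⟨z, hzL⟩ : ↥⁅L, L⁆)} : Set ↥⁅L, L⁆)) →* Multiplicative (ZMod 2) :=
      MonoidHom.mk' (fun y => if c * ((y : ↥⁅L, L⁆) : G) * c⁻¹ ∈ ⁅L, L⁆ then 1
        else Multiplicative.ofAdd 1) (by
        intro u v
        have := hpar _ (P.inner_le (hI u)) _ (P.inner_le (hI v))
        rw [show c * ((u : ↥⁅L, L⁆) : G) * c⁻¹ * (c * ((v : ↥⁅L, L⁆) : G) * c⁻¹) =
          c * (((u : ↥⁅L, L⁆) : G) * ((v : ↥⁅L, L⁆) : G)) * c⁻¹ by group] at this
        simp only [Subgroup.coe_mul]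
        by_cases hu : c * ((u : ↥⁅L, L⁆) : G) * c⁻¹ ∈ ⁅L, L⁆ <;>
          by_cases hv : c * ((v : ↥⁅L, L⁆) : G) * c⁻¹ ∈ ⁅L, L⁆ <;>
          simp only [hu, hv, this, iff_self, iff_true, iff_false, not_true, not_false_eq_true,
            if_true, if_false] <;> decide)
    intro x hx
    have hxz : x * z = z * x := mem_centralizer_singleton_iff.1 (inner_le z hx.2)
    have hy := comp_hom_trivial h P hzL χ
      ⟨⟨x, hx.1⟩, mem_centralizer_singleton_iff.2 (Subtype.ext hxz)⟩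
    refine ⟨?_, inner_normal hc hx.2⟩
    by_contra hcx
    simp [χ] at hy
    exact hcx hy
  set N' := N.subgroupOf H with hN'
  haveI : N'.Normal := ⟨fun x hx c => hnor c c.2 x hx⟩
  have hidx : N'.index = 2 ^ 2 := by
    have h1 : (N.subgroupOf (inner z)).index = 2 := by
      refine index_eq_two_iff_exists_notMem_and.2
        ⟨⟨a, oc_le_inner z h.a_mem⟩, fun e => P.nmem e.1, fun b => ?_⟩
      rcases P.cover _ (P.inner_le b.2) with e | e
      · exact Or.inr ⟨e, b.2⟩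
      · refine Or.inl ⟨?_, mul_mem b.2 (oc_le_inner z h.a_mem)⟩
        show (b : G) * a ∈ ⁅L, L⁆
        rwa [(P.a_comm b (P.inner_le b.2)).eq]
    show N.relIndex H = 4
    rw [← relIndex_mul_relIndex N (inner z) H inf_le_right (inner_le z)]
    show (N.subgroupOf (inner z)).index * ((inner z).subgroupOf H).index = 4
    rw [h1, h.inner_index]
  haveI : Fact (Nat.Prime 2) := ⟨Nat.prime_two⟩
  letI : CommGroup (↥H ⧸ N') := IsPGroup.commGroupOfCardEqPrimeSq (p := 2) hidx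
  let lam : ↥(H.subgroupOf (⊤ : Subgroup G)) →* ↥H ⧸ N' :=
    (QuotientGroup.mk' N').comp (subgroupOfEquivOfLe le_top).toMonoidHom
  have hNn := comp_normal h P hK ⊤ le_top le_top lam fun hm e => by
    exact P.nmem ((QuotientGroup.eq_one_iff _).1 e).1
  have hc : ∀ l ∈ ⁅L, L⁆, Commute a l := fun l hl => (P.a_comm l (P.le hl)).symm
  obtain ⟨s, hs, hsa⟩ : ∃ s ∈ H, ¬ Commute s a := by
    by_contra hcon; push Not at hcon; exact hf hcon
  have hsaz : s * a * s⁻¹ = a * z :=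
    (h.conj_a hs).resolve_left fun e => hsa (mul_inv_eq_iff_eq_mul.1 e)
  have hzc : ∀ l ∈ ⁅L, L⁆, Commute z l := by
    intro l hl
    have h1 := (hc _ (hNn s⁻¹ (mem_top _) l hl)).map (MulAut.conj s)
    have h2 : Commute (s * a * s⁻¹) l := by simpa [MulAut.conj_apply, mul_assoc] using h1
    rw [hsaz] at h2
    have := (hc l hl).mul_left h2
    rwa [← mul_assoc, h.aa, one_mul] at this
  exact h.z_ne_one (P.centre z P.z_mem hzc)

end Cfsg.Agent.Fi22Two
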