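import Cfsg.Agent.Fi22Two.Types
import Cfsg.Agent.Fi22Two.Basic
import Cfsg.Agent.Fi22Two.Isolated
import Cfsg.Agent.Fi22Two.Parity
import Cfsg.Agent.Fi22Two.Split
import Cfsg.Agent.Fi22Two.Outer
import Cfsg.Agent.Fi22Two.Swap
import Cfsg.Agent.S0283
import Cfsg.Agent.S1713

/-!
# The three conclusions
-/

set_option autoImplicit false

open Cfsg Subgroup
open scoped commutatorElement

namespace Cfsg.Agent.Fi22Two

open Cfsg.Agent.LargeExtra Cfsg.Agent.U62Rec

variable {G : Type*} [Group G] [Finite G] {z a : G}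

theorem extra_of (h : Hyp z a)
    (hE : ∃ E : Subgroup G, E ≤ oc z ∧ IsExtraspecial 2 ↥E ∧ Nat.card ↥E = 512 ∧ a ∉ E) :
    Extra z a :=
  ⟨hE, fun _ hg hj => mem_oc_of_act h hg hj, fun g e => not_conj h.other (isConj_iff.2 ⟨g, e⟩)⟩

theorem fixed_other (h : Hyp z a) (hf : Fixed z a) : Fixed z (a * z) :=
  fun g hg => (hf g hg).mul_right (mem_centralizer_singleton_iff.1 hg)

section

variable {K : Type*} [Field K] [Fintype K] (hK : Fintype.card K = 4) {L : Subgroup G}

theorem Big.comm_sup (B : Big K z a L) (hK : Fintype.card K = 4) {M : Subgroup G}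
    (hM : ⁅L, L⁆ ≤ M) (ha : a ∈ M) : L ≤ M := by
  obtain ⟨hn, ⟨i⟩⟩ := B.iso
  haveI := hn
  haveI : IsSimpleGroup (Cfsg.PSU 6 K 2) :=
    Cfsg.Agent.S0283.result (by rw [hK]; norm_num : Fintype.card K = 2 ^ 2) 6 (by norm_num) (by norm_num)
  haveI : IsSimpleGroup (↥L ⧸ (zpowers a).subgroupOf L) := (MulEquiv.isSimpleGroup_congr i).2 inferInstance
  have hnc : ¬ ∀ p q : ↥L ⧸ (zpowers a).subgroupOf L, p * q = q * p := by
    intro hc
    letI : CommGroup (↥L ⧸ (zpowers a).subgroupOf L) := { (inferInstance : Group _) with mul_comm := hc }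
    have hp : (Nat.card (↥L ⧸ (zpowers a).subgroupOf L)).Prime := IsSimpleGroup.prime_card
    rw [Nat.card_congr i.toEquiv, Cfsg.Agent.ThreeTrans.card_psu_six hK] at hp
    norm_num at hp
  have htop : (commutator ↥L).map (QuotientGroup.mk' ((zpowers a).subgroupOf L)) = ⊤ := by
    rcases ((inferInstance : (commutator ↥L).Normal).map _
      (QuotientGroup.mk'_surjective ((zpowers a).subgroupOf L))).eq_bot_or_eq_top with h | h
    · exfalso
      refine hnc fun p q => ?_
      obtain ⟨p, rfl⟩ := QuotientGroup.mk'_surjective _ p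
      obtain ⟨q, rfl⟩ := QuotientGroup.mk'_surjective _ q
      have hm : QuotientGroup.mk' ((zpowers a).subgroupOf L) ⁅p, q⁆ ∈
          (commutator ↥L).map (QuotientGroup.mk' ((zpowers a).subgroupOf L)) :=
        mem_map_of_mem _ (commutator_mem_commutator (mem_top p) (mem_top q))
      rw [h, mem_bot, map_commutatorElement, commutatorElement_eq_one_iff_mul_comm] at hm
      exact hm
    · exact h
  intro l hl
  obtain ⟨c, hc, e⟩ : (QuotientGroup.mk' ((zpowers a).subgroupOf L)) ⟨l, hl⟩ ∈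
      (commutator ↥L).map (QuotientGroup.mk' _) := htop ▸ mem_top _
  have hcM : (c : G) ∈ M := by
    refine hM ?_
    have := mem_map_of_mem L.subtype hc
    rwa [_root_.commutator_def, map_commutator, ← MonoidHom.range_eq_map, range_subtype] at this
  have h2 : (c : G)⁻¹ * l ∈ zpowers a := by
    have e' : (QuotientGroup.mk c : ↥L ⧸ (zpowers a).subgroupOf L) = QuotientGroup.mk ⟨l, hl⟩ := e
    simpa [mem_subgroupOf] using QuotientGroup.eq.1 e'
  simpa using mul_mem hcM ((zpowers_le.2 ha) h2)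

/-- Conjugates of `z` under `C u` lie in `inner z`. -/
theorem conj_inner_of_big (B : Big K z a L) (h : Hyp z a) (g : G) (hga : Commute g a)
    (hg : g * z * g⁻¹ ∈ centralizer ({z} : Set G)) : g * z * g⁻¹ ∈ inner z := by
  have hzL : z ∈ L := (B.meet.ge (oc_le_inner z h.z_mem)).1
  rw [← B.meet]
  exact ⟨B.norm g (mem_centralizer_singleton_iff.2 hga.eq) z hzL, hg⟩

theorem conj_inner_of_iso (hi : IsoIn z a) (h : Hyp z a) (g : G) (hga : Commute g a)
    (hg : g * z * g⁻¹ ∈ centralizer ({z} : Set G)) : g * z * g⁻¹ ∈ inner z := by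
  rw [hi g hga (mem_centralizer_singleton_iff.1 hg)]
  exact oc_le_inner z h.z_mem

include hK in
/-- A big centraliser of a fixed `a` is everything. -/
theorem second (h : Hyp z a) (hf : Fixed z a) (B : Big K z a L)
    (hG₀ : ∃ G₀ : Subgroup G, G₀.index = 2 ∧ G₀ ⊓ centralizer ({z} : Set G) = inner z) :
    (zpowers a).Normal ∧ ∃ (G₀ : Subgroup G) (_ : a ∈ G₀), G₀.index = 2 ∧
      ∃ hn : ((zpowers a).subgroupOf G₀).Normal,
        Nonempty ((↥G₀ ⧸ (zpowers a).subgroupOf G₀) ≃* Cfsg.PSU 6 K 2) := by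
  obtain ⟨G₀, hidx, hG⟩ := hG₀
  have ha : a ∈ G₀ := (hG.ge (oc_le_inner z h.a_mem)).1
  have hLG : L ≤ G₀ := by
    refine B.comm_sup hK ?_ ha
    rw [commutator_le]
    intro p _ q _
    rw [commutatorElement_def]
    simp only [Subgroup.mul_mem_iff_of_index_two hidx, inv_mem_iff]
    tauto
  have hGC : G₀ ⊓ centralizer ({a} : Set G) = L := by
    refine le_antisymm (fun c hc => ?_) (le_inf hLG B.le)
    obtain ⟨l, hl, k, hk, rfl⟩ := B.decomp c hc.2
    have hkG : k ∈ G₀ := (Subgroup.mul_mem_cancel_left _ (hLG hl)).1 hc.1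
    exact mul_mem hl (B.meet.ge (hG.le ⟨hkG, hk.1⟩)).1
  have hcen : ∀ g : G, Commute g a := by
    by_cases hp : a ∈ ⁅L, L⁆
    · exact fixed_of_parity hK h hf G₀ hidx hG B hGC hp
    · exact split_fixed h hf B hK hp G₀ hidx hG hGC
  have htop : centralizer ({a} : Set G) = ⊤ :=
    eq_top_iff.2 fun g _ => mem_centralizer_singleton_iff.2 (hcen g).eq
  have hL : L = G₀ := by rw [← hGC, htop, inf_top_eq]
  refine ⟨⟨fun n hn g => ?_⟩, G₀, ha, hidx, ?_⟩
  · obtain ⟨k, rfl⟩ := mem_zpowers_iff.1 hn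
    rw [((hcen g).zpow_right k).eq, mul_inv_cancel_right]
    exact hn
  · exact hL ▸ B.iso

end

/-- The main result when `a` is fixed. -/
theorem main_fixed (h : Hyp z a)
    (hE : ∃ E : Subgroup G, E ≤ oc z ∧ IsExtraspecial 2 ↥E ∧ Nat.card ↥E = 512 ∧ a ∉ E ∧ a * z ∉ E)
    (hf : Fixed z a) {K : Type*} [Field K] [Fintype K] (hK : Fintype.card K = 4) :
    centralizer ({z} : Set G) ⊔ Cfsg.oddCore G = ⊤ ∨
      (∃ u, (u = a ∨ u = a * z) ∧ (zpowers u).Normal ∧ ∃ (G₀ : Subgroup G) (_ : u ∈ G₀), G₀.index = 2 ∧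
        ∃ hn : ((zpowers u).subgroupOf G₀).Normal,
          Nonempty ((↥G₀ ⧸ (zpowers u).subgroupOf G₀) ≃* Cfsg.PSU 6 K 2)) := by
  obtain ⟨E, hE1, hE2, hE3, haE, hazE⟩ := hE
  have x := extra_of h ⟨E, hE1, hE2, hE3, haE⟩
  have x' := extra_of h.other ⟨E, hE1, hE2, hE3, hazE⟩
  have hn : ∀ g : G, g * z * g⁻¹ ≠ a * z := x.nconj
  have hn' : ∀ g : G, g * z * g⁻¹ ≠ a * z * z := x'.nconj
  have hJ : ∀ {u : G}, (IsoIn z u ∨ ∃ L, Big K z u L ∧ IsoInJ z u ∧
      (Fixed z u → Nonempty (Mod2 ⟨NatO.gens, NatO.lin⟩ z u))) → IsoInJ z u := by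
    rintro u (hi | ⟨L, -, hJ, -⟩)
    · exact fun g hgu hg => hi g hgu (mem_centralizer_singleton_iff.1 (oc_le z hg))
    · exact hJ
  have ta := types h x hn hK
  have tb := types h.other x' hn' hK
  have hz := eq_of_mem_fixed h hf (hJ ta) (hJ tb)
  have cb : ∀ g : G, Commute g (a * z) → g * z * g⁻¹ ∈ centralizer ({z} : Set G) →
      g * z * g⁻¹ ∈ inner z := by
    rcases tb with hi | ⟨L', B', -, -⟩
    exacts [conj_inner_of_iso hi h.other, conj_inner_of_big B' h.other]
  have ca : ∀ g : G, Commute g a → g * z * g⁻¹ ∈ centralizer ({z} : Set G) →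
      g * z * g⁻¹ ∈ inner z := by
    rcases ta with hi | ⟨L', B', -, -⟩
    exacts [conj_inner_of_iso hi h, conj_inner_of_big B' h]
  rcases ta with hia | ⟨L, B, -, hM⟩
  · rcases tb with hib | ⟨L, B, -, hM⟩
    · obtain ⟨c, hcm, ⟨M⟩⟩ := mod2_fixed h x hf
      exact Or.inl (decomp_of_isolated h.ordz fun g hg =>
        isolated_fixed h hf hcm M hz hia hib g hg)
    · obtain ⟨M⟩ := hM (fixed_other h hf)
      refine Or.inr (⟨a * z, Or.inr rfl, second hK h.other (fixed_other h hf) B ?_⟩)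
      refine exists_index_two h.other (fixed_other h hf) M hz ?_
      intro u hu
      rcases hu with rfl | rfl
      · exact cb
      · rw [mul_assoc, h.zz, mul_one]; exact ca
  · obtain ⟨M⟩ := hM hf
    refine Or.inr (⟨a, Or.inl rfl, second hK h hf B ?_⟩)
    refine exists_index_two h hf M hz ?_
    intro u hu
    rcases hu with rfl | rfl
    exacts [ca, cb]

/-- The main result when `a` is moved. -/
theorem main_swap (h : Hyp z a)
    (hE : ∃ E : Subgroup G, E ≤ oc z ∧ IsExtraspecial 2 ↥E ∧ Nat.card ↥E = 512 ∧ a ∉ E ∧ a * z ∉ E)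
    (hf : ¬ Fixed z a) :
    centralizer ({z} : Set G) ⊔ Cfsg.oddCore G = ⊤ ∨ Cfsg.Spor.IsoFi22 G := by
  obtain ⟨E, hE1, hE2, hE3, haE, hazE⟩ := hE
  have x := extra_of h ⟨E, hE1, hE2, hE3, haE⟩
  have x' := extra_of h.other ⟨E, hE1, hE2, hE3, hazE⟩
  have hn : ∀ g : G, g * z * g⁻¹ ≠ a * z := x.nconj
  have hn' : ∀ g : G, g * z * g⁻¹ ≠ a * z * z := x'.nconj
  haveI : Fact (Nat.Prime 2) := ⟨Nat.prime_two⟩
  haveI : Fintype (GaloisField 2 2) := Fintype.ofFinite _
  have hK₀ : Fintype.card (GaloisField 2 2) = 4 := by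
    rw [← Nat.card_eq_fintype_card, GaloisField.card 2 2 (by norm_num)]; norm_num
  obtain ⟨s, hs, hsa⟩ : ∃ s ∈ centralizer ({z} : Set G), s * a * s⁻¹ = a * z := by
    by_contra hc
    push Not at hc
    exact hf fun g hg => mul_inv_eq_iff_eq_mul.1 ((h.conj_a hg).resolve_right (hc g hg))
  rcases types h x hn hK₀ with hia | ⟨L, B, -, -⟩
  · refine Or.inl ?_
    have hib : IsoIn z (a * z) := by
      intro g hg hgz
      have hsz : s⁻¹ * z * s = z := by
        rw [mul_assoc, ← mem_centralizer_singleton_iff.1 hs, inv_mul_cancel_left]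
      have hg' : Commute (s⁻¹ * g * s) a := by
        have := hg.map (MulAut.conj s⁻¹)
        simpa [← hsa, mul_assoc] using this
      have e0 : s⁻¹ * g * s * z * (s⁻¹ * g * s)⁻¹ = s⁻¹ * (g * z * g⁻¹) * s := by
        calc s⁻¹ * g * s * z * (s⁻¹ * g * s)⁻¹
            = s⁻¹ * g * (s * (s⁻¹ * z * s) * s⁻¹) * g⁻¹ * s := by rw [hsz]; group
          _ = _ := by group
      have hz' : Commute (s⁻¹ * (g * z * g⁻¹) * s) z := by
        have := hgz.map (MulAut.conj s⁻¹)
        simpa [hsz, mul_assoc] using this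
      have e := hia (s⁻¹ * g * s) hg' (e0 ▸ hz')
      rw [e0] at e
      calc g * z * g⁻¹ = s * (s⁻¹ * (g * z * g⁻¹) * s) * s⁻¹ := by group
        _ = z := by rw [e, mem_centralizer_singleton_iff.1 hs, mul_inv_cancel_right]
    obtain ⟨c, hcm, ⟨M⟩⟩ := mod2_swap h x hf
    have hz := eq_of_mem_swap h hf hcm M hia hib
    exact decomp_of_isolated h.ordz fun g hg => isolated_swap h hf hcm M hz hia hib g hg
  · refine Or.inr ?_
    have hp : a ∈ ⁅L, L⁆ := split_swap h hf B hK₀
    have hCL : centralizer ({a} : Set G) = L := by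
      refine le_antisymm (fun c hc => ?_) B.le
      obtain ⟨l, hl, k, hk, rfl⟩ := B.decomp c hc
      exact mul_mem hl (B.meet.ge ((h.inf_centralizer hf).le hk)).1
    obtain ⟨hn₀, ⟨i⟩⟩ := B.iso
    have hperf : ⁅L, L⁆ = L := le_antisymm
      (commutator_le.2 fun p hp q hq => by
        rw [commutatorElement_def]
        exact mul_mem (mul_mem (mul_mem hp hq) (inv_mem hp)) (inv_mem hq))
      (B.comm_sup hK₀ le_rfl hp)
    subst hCL
    haveI := hn₀
    haveI : IsSimpleGroup (Cfsg.PSU 6 (GaloisField 2 2) 2) :=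
      Cfsg.Agent.S0283.result (by rw [hK₀]; norm_num : Fintype.card (GaloisField 2 2) = 2 ^ 2) 6
        (by norm_num) (by norm_num)
    haveI hsimp : IsSimpleGroup (↥(centralizer ({a} : Set G)) ⧸
        (zpowers a).subgroupOf (centralizer ({a} : Set G))) :=
      (MulEquiv.isSimpleGroup_congr i).2 inferInstance
    have hq : Cfsg.IsQuasisimple ↥(centralizer ({a} : Set G)) := by
      have hcom : commutator ↥(centralizer ({a} : Set G)) = ⊤ := by
        refine map_injective (subtype_injective (centralizer ({a} : Set G))) ?_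
        rw [_root_.commutator_def, map_commutator, ← MonoidHom.range_eq_map, range_subtype, hperf]
      refine ⟨⟨hcom⟩, ?_⟩
      have hle : (zpowers a).subgroupOf (centralizer ({a} : Set G)) ≤
          center ↥(centralizer ({a} : Set G)) := by
        intro p hp'
        obtain ⟨k, hk⟩ := mem_zpowers_iff.1 (mem_subgroupOf.1 hp')
        refine mem_center_iff.2 fun q => Subtype.ext ?_
        have : Commute (q : G) a := mem_centralizer_singleton_iff.1 q.2
        exact (hk ▸ this.zpow_right k : Commute (q : G) (p : G)).eq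
      have heq : center ↥(centralizer ({a} : Set G)) =
          (zpowers a).subgroupOf (centralizer ({a} : Set G)) := by
        refine le_antisymm ?_ hle
        rcases ((inferInstance : (center ↥(centralizer ({a} : Set G))).Normal).map _
          (QuotientGroup.mk'_surjective ((zpowers a).subgroupOf
            (centralizer ({a} : Set G))))).eq_bot_or_eq_top with hb | ht
        · intro p hp'
          have := mem_map_of_mem (QuotientGroup.mk' ((zpowers a).subgroupOf
            (centralizer ({a} : Set G)))) hp'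
          rw [hb, mem_bot] at this
          exact (QuotientGroup.eq_one_iff p).1 this
        · exfalso
          have hall : center ↥(centralizer ({a} : Set G)) = ⊤ := by
            have := congrArg (Subgroup.comap (QuotientGroup.mk' ((zpowers a).subgroupOf
              (centralizer ({a} : Set G))))) ht
            rwa [comap_map_eq, QuotientGroup.ker_mk', sup_eq_left.2 hle, comap_top] at this
          have hb : (⊥ : Subgroup ↥(centralizer ({a} : Set G))) = ⊤ := by
            rw [← hcom, eq_comm, eq_bot_iff, _root_.commutator_def, commutator_le]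
            intro p _ q _
            rw [mem_bot, commutatorElement_eq_one_iff_mul_comm]
            exact ((mem_center_iff.1 (hall ▸ mem_top p : p ∈ center _)) q).symm
          have hmem : (⟨a, mem_centralizer_singleton_iff.2 rfl⟩ : ↥(centralizer ({a} : Set G))) ∈
              (⊥ : Subgroup ↥(centralizer ({a} : Set G))) := hb ▸ mem_top _
          exact absurd h.orda (by simp [show a = 1 from congrArg Subtype.val (mem_bot.1 hmem)])
      exact (MulEquiv.isSimpleGroup_congr (QuotientGroup.quotientMulEquivOfEq heq)).2 hsimp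
    refine Cfsg.Agent.S1713.result a h.orda hq (GaloisField 2 2) hK₀ i ⟨s, ?_, ?_⟩
    · rw [hsa]
      exact mem_centralizer_singleton_iff.2 ((Commute.refl a).mul_left h.comm_za).eq
    · rw [hsa]
      intro e
      exact absurd h.ordz (by simp [mul_eq_left.1 e])


/-- The main result. -/
theorem main (h : Hyp z a)
    (hE : ∃ E : Subgroup G, E ≤ oc z ∧ IsExtraspecial 2 ↥E ∧ Nat.card ↥E = 512 ∧ a ∉ E ∧ a * z ∉ E)
    {K : Type*} [Field K] [Fintype K] (hK : Fintype.card K = 4) :
    centralizer ({z} : Set G) ⊔ Cfsg.oddCore G = ⊤ ∨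
      (∃ u, (u = a ∨ u = a * z) ∧ (zpowers u).Normal ∧ ∃ (G₀ : Subgroup G) (_ : u ∈ G₀), G₀.index = 2 ∧
        ∃ hn : ((zpowers u).subgroupOf G₀).Normal,
          Nonempty ((↥G₀ ⧸ (zpowers u).subgroupOf G₀) ≃* Cfsg.PSU 6 K 2)) ∨
      Cfsg.Spor.IsoFi22 G := by
  by_cases hf : Fixed z a
  · exact (main_fixed h hE hf hK).imp id Or.inl
  · exact (main_swap h hE hf).imp id Or.inr

end Cfsg.Agent.Fi22Two
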