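import Cfsg.Agent.U62Rec.Check.NatO
import Mathlib.GroupTheory.Perm.Cycle.Type

/-!
# Finite facts on the maps of the configuration `NatO`

An element of order five fixes no nonzero vector and commutes with one involution only; `sOut` is
an involution of the class of `36` elements.
-/

set_option autoImplicit false
set_option maxRecDepth 65536

namespace Cfsg.Agent.Fi22Two.NatFacts

open Cfsg.Agent.U62Rec

/-- The fifth power of a map. -/
def pow5 (c : ℕ) : ℕ := U62Rec.cmp c (U62Rec.cmp c (U62Rec.cmp c (U62Rec.cmp c c)))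

/-- An involution of the class of `36` elements. -/
def sOut : ℕ := 3463479494608751620

/-- An element of order five commuting with `sOut`. -/
def cFive : ℕ := 1531170591367558050

/-- The vectors fixed by `sOut`. -/
def W16 : List ℕ := (List.range 256).filter fun v => Nat.beq (app sOut v) v

theorem gens_code : ∀ g ∈ NatO.gens, IsCode g := (Tab.spec_of_ok NatO.vt0_ok).code

theorem exists_inv {m : ℕ} (hm : Gen NatO.gens m) :
    ∃ n, Gen NatO.gens n ∧ U62Rec.cmp m n = idm ∧ U62Rec.cmp n m = idm := by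
  have hh := NatO.vt0_ok
  simp only [Tab.ok, Bool.and_eq_true] at hh
  obtain ⟨⟨⟨⟨⟨⟨⟨_, hinv⟩, -⟩, -⟩, -⟩, -⟩, -⟩, -⟩ := hh
  obtain ⟨n, hn, e⟩ := hm.exists_inv gens_code hinv
  exact ⟨n, hn, e, left_inv_of_right hn.isCode hm.isCode e⟩

/-! ### The forms -/

theorem gens_q : NatO.gens.all (fun g => (List.range 256).all fun v =>
    qv NatO.lin (app g v) == qv NatO.lin v) = true := by decide +kernel

theorem q_app {m : ℕ} (hm : Gen NatO.gens m) {v : ℕ} (hv : v < 256) :
    qv NatO.lin (app m v) = qv NatO.lin v := by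
  have h := gens_q
  simp only [List.all_eq_true, List.mem_range, beq_iff_eq] at h
  induction hm with
  | one => rw [app_idm hv]
  | step hg _ ih => rw [app_cmp, h _ hg _ (app_lt _ _), ih]

theorem f_app {m : ℕ} (hm : Gen NatO.gens m) {v w : ℕ} (hv : v < 256) (hw : w < 256) :
    fv (app m v) (app m w) = fv v w := by
  have hx : v ^^^ w < 256 := Nat.xor_lt_two_pow (n := 8) hv hw
  have h := q_app hm hx
  rw [app_xor, qv_xor, qv_xor, q_app hm hv, q_app hm hw] at h
  cases e1 : fv (app m v) (app m w) <;> cases e2 : fv v w <;> simp_all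

/-! ### Conjugation of maps -/

/-- The conjugate of a map. -/
def cj (n h x : ℕ) : ℕ := U62Rec.cmp n (U62Rec.cmp x h)

theorem cj_mul {n h x y : ℕ} (hhn : U62Rec.cmp h n = idm) (_hy : IsCode y) :
    U62Rec.cmp (cj n h x) (cj n h y) = cj n h (U62Rec.cmp x y) := by
  simp only [cj]
  calc U62Rec.cmp (U62Rec.cmp n (U62Rec.cmp x h)) (U62Rec.cmp n (U62Rec.cmp y h))
      = U62Rec.cmp n (U62Rec.cmp x (U62Rec.cmp (U62Rec.cmp h n) (U62Rec.cmp y h))) := by simp only [cmp_assoc]
    _ = U62Rec.cmp n (U62Rec.cmp (U62Rec.cmp x y) h) := by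
      rw [hhn, idm_cmp (isCode_cmp _ _), ← cmp_assoc x y h]

theorem cj_eq_idm {n h x : ℕ} (hhn : U62Rec.cmp h n = idm) (hh : IsCode h) (hx : IsCode x)
    (e : cj n h x = idm) : x = idm := by
  have h1 : U62Rec.cmp x h = U62Rec.cmp idm h := by
    calc U62Rec.cmp x h = U62Rec.cmp (U62Rec.cmp h n) (U62Rec.cmp x h) := by rw [hhn, idm_cmp (isCode_cmp _ _)]
      _ = U62Rec.cmp h (cj n h x) := by rw [cj, cmp_assoc]
      _ = U62Rec.cmp idm h := by rw [e, cmp_idm hh, idm_cmp hh]
  exact cancel_right hhn hx isCode_idm h1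

theorem cj_idm {n h : ℕ} (hnh : U62Rec.cmp n h = idm) (hh : IsCode h) : cj n h idm = idm := by
  rw [cj, idm_cmp hh, hnh]

theorem cj_pow5 {n h x : ℕ} (hhn : U62Rec.cmp h n = idm) (hx : IsCode x) :
    pow5 (cj n h x) = cj n h (pow5 x) := by
  rw [pow5, pow5, cj_mul hhn hx, cj_mul hhn (isCode_cmp _ _), cj_mul hhn (isCode_cmp _ _),
    cj_mul hhn (isCode_cmp _ _)]

theorem cj_gen {n h x : ℕ} (hn : Gen NatO.gens n) (hh : Gen NatO.gens h) (hx : Gen NatO.gens x) :
    Gen NatO.gens (cj n h x) := hn.mul (hx.mul hh)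

/-! ### Fixed vectors of an element of order five -/

theorem stab_five : NatO.vt0.S.all (fun s => !Nat.beq (pow5 s) idm || Nat.beq s idm) = true := by
  decide +kernel

theorem five_fix_sing {c v : ℕ} (hc : Gen NatO.gens c) (hc1 : c ≠ idm) (h5 : pow5 c = idm)
    (hv : v < 256) (hq : qv NatO.lin v = false) (hfix : app c v = v) : v = 0 := by
  by_contra hv0
  have h := NatO.cover_ok
  simp only [coverOK, NatO.cover, List.all_eq_true, Bool.or_eq_true, Nat.beq_eq,
    List.any_eq_true, List.mem_range, List.mem_singleton] at h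
  rcases h v hv with (e | e) | ⟨_, rfl, p, hp, e⟩
  · exact hv0 e
  · exact absurd (hq.symm.trans e) Bool.false_ne_true
  have hT := Tab.spec_of_ok NatO.vt0_ok
  obtain ⟨g1, g2, g12⟩ := hT.ts_gen p hp
  have g21 := left_inv_of_right g2.isCode g1.isCode g12
  have h5' : app (cj p.2 p.1 c) 5 = 5 := by
    rw [cj, app_cmp, app_cmp]
    have e' : app p.2 v = 5 := e
    have : app p.1 5 = v := by rw [← e', ← app_cmp, g12, app_idm hv]
    rw [this, hfix, e']
  have hm : cj p.2 p.1 c ∈ NatO.vt0.S :=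
    Tab.mem_of_fix NatO.vt0_ok NatO.vt0_fix (cj_gen g2 g1 hc) h5'
  have hs := stab_five
  simp only [List.all_eq_true, Bool.or_eq_true, Bool.not_eq_true', ← Bool.not_eq_true,
    Nat.beq_eq] at hs
  have hp5 : pow5 (cj p.2 p.1 c) = idm := by
    rw [cj_pow5 g12 hc.isCode, h5, cj_idm g21 g1.isCode]
  rcases hs _ hm with e1 | e1
  · exact e1 hp5
  · exact hc1 (cj_eq_idm g12 g1.isCode hc.isCode e1)

/-- The nonzero singular vectors orthogonal to `v`. -/
def sperp (v : ℕ) : List ℕ :=
  (List.range 256).filter fun w => !Nat.beq w 0 && !qv NatO.lin w && !fv w v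

theorem sperp_card : (List.range 256).all (fun v =>
    !qv NatO.lin v || decide ((sperp v).length % 5 ≠ 0)) = true := by decide +kernel

theorem five_fix {c v : ℕ} (hc : Gen NatO.gens c) (hc1 : c ≠ idm) (h5 : pow5 c = idm)
    (hv : v < 256) (hfix : app c v = v) : v = 0 := by
  cases hq : qv NatO.lin v with
  | false => exact five_fix_sing hc hc1 h5 hv hq hfix
  | true =>
    exfalso
    classical
    have : Fact (Nat.Prime 5) := ⟨by norm_num⟩
    have hmem : ∀ {w}, w ∈ sperp v ↔
        w < 256 ∧ w ≠ 0 ∧ qv NatO.lin w = false ∧ fv w v = false := by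
      intro w
      simp [sperp, Nat.beq_eq, ← Bool.not_eq_true, and_assoc]
    obtain ⟨n, hn, hcn, hnc⟩ := exists_inv hc
    set S := (sperp v).toFinset with hS
    have hmap : ∀ {m : ℕ}, Gen NatO.gens m → app m v = v → ∀ {m'}, U62Rec.cmp m' m = idm →
        ∀ w : S, app m (w : ℕ) ∈ S := by
      intro m hm hmv m' hinv w
      obtain ⟨w, hw⟩ := w
      rw [hS, List.mem_toFinset, hmem] at hw
      obtain ⟨hw1, hw2, hw3, hw4⟩ := hw
      show app m w ∈ S
      rw [hS, List.mem_toFinset, hmem]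
      refine ⟨app_lt _ _, fun e => hw2 ?_, by rw [q_app hm hw1, hw3], ?_⟩
      · show w = 0
        rw [← app_idm hw1, ← hinv, app_cmp, e, app_zero]
      · show fv (app m w) v = false
        conv_lhs => rw [← hmv]
        rw [f_app hm hw1 hv, hw4]
    have hnv : app n v = v := by
      conv_lhs => rw [← hfix]
      rw [← app_cmp, hnc, app_idm hv]
    have hlt : ∀ w : S, (w : ℕ) < 256 := fun w =>
      (hmem.1 (List.mem_toFinset.1 w.2)).1
    let σ : Equiv.Perm S :=
      { toFun := fun w => ⟨app c w, hmap hc hfix hnc w⟩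
        invFun := fun w => ⟨app n w, hmap hn hnv hcn w⟩
        left_inv := fun w => Subtype.ext (by
          show app n (app c (w : ℕ)) = w
          rw [← app_cmp, hnc, app_idm (hlt w)])
        right_inv := fun w => Subtype.ext (by
          show app c (app n (w : ℕ)) = w
          rw [← app_cmp, hcn, app_idm (hlt w)]) }
    have hσ : σ ^ 5 ^ 1 = 1 := by
      refine Equiv.ext fun w => Subtype.ext ?_
      show app c (app c (app c (app c (app c (w : ℕ))))) = w
      rw [← app_cmp, ← app_cmp, ← app_cmp, ← app_cmp]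
      have e : U62Rec.cmp (U62Rec.cmp (U62Rec.cmp (U62Rec.cmp c c) c) c) c = pow5 c := by simp only [pow5, cmp_assoc]
      rw [e, h5, app_idm (hlt w)]
    have hdvd : ¬ 5 ∣ Fintype.card S := by
      have hnd : (sperp v).Nodup := (List.nodup_range).filter _
      rw [Fintype.card_coe, hS, List.toFinset_card_of_nodup hnd]
      have h := sperp_card
      simp only [List.all_eq_true, List.mem_range, Bool.or_eq_true, decide_eq_true_eq,
        Bool.not_eq_true'] at h
      rcases h v hv with e | e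
      · rw [hq] at e; exact absurd e (by simp)
      · exact fun hd => e (Nat.dvd_iff_mod_eq_zero.1 hd)
    obtain ⟨w, hw⟩ := Equiv.Perm.exists_fixed_point_of_prime hdvd hσ
    obtain ⟨hw1, hw2, hw3, -⟩ := hmem.1 (List.mem_toFinset.1 w.2)
    exact hw2 (five_fix_sing hc hc1 h5 hw1 hw3 (congrArg Subtype.val hw))

/-! ### Involutions commuting with an element of order five -/

theorem cent_five : ([NatO.ct0, NatO.ct1, NatO.ct2]).all (fun T => T.S.all fun s =>
    !Nat.beq (pow5 s) idm || Nat.beq s idm) = true := by decide +kernel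

/-- The further involutions commuting with `sOut`. -/
def inv36 : List ℕ := NatO.ct3.S.filter fun u =>
  Nat.beq (U62Rec.cmp u u) idm && (!Nat.beq u idm && !Nat.beq u NatO.oc3.c)

theorem cent_pair : (NatO.ct3.S.all fun c => !Nat.beq (pow5 c) idm || Nat.beq c idm ||
    inv36.all fun u => !Nat.beq (U62Rec.cmp c u) (U62Rec.cmp u c)) = true := by decide +kernel

/-- At most one involution commutes with an element of order five and with a given one. -/
theorem five_pair {c t u : ℕ} (hc : Gen NatO.gens c) (hc1 : c ≠ idm) (h5 : pow5 c = idm)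
    (ht : Gen NatO.gens t) (hu : Gen NatO.gens u) (ht1 : t ≠ idm) (hu1 : u ≠ idm)
    (ht2 : U62Rec.cmp t t = idm) (hu2 : U62Rec.cmp u u = idm) (htc : U62Rec.cmp t c = U62Rec.cmp c t)
    (huc : U62Rec.cmp u c = U62Rec.cmp c u) (htu : U62Rec.cmp t u = U62Rec.cmp u t) : t = u := by
  obtain ⟨o, ho, h, hh, e⟩ := NatO.facts.cls t ht ht1 ht2
  obtain ⟨n, hn, hhn, hnh⟩ := exists_inv hh
  have hocc : IsCode o.1.c := by
    have hall : ([NatO.oc0, NatO.oc1, NatO.oc2, NatO.oc3]).all (fun o => decide (o.c < 2 ^ 64)) = true := by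
      decide +kernel
    simp only [List.all_eq_true, decide_eq_true_eq] at hall
    fin_cases ho <;> exact hall _ (by simp)
  have et : cj n h t = o.1.c := by
    rw [cj, e, ← cmp_assoc, hnh, idm_cmp hocc]
  have hcom : ∀ {x y : ℕ}, Gen NatO.gens x → Gen NatO.gens y → U62Rec.cmp x y = U62Rec.cmp y x →
      U62Rec.cmp (cj n h x) (cj n h y) = U62Rec.cmp (cj n h y) (cj n h x) := by
    intro x y hx hy hxy
    rw [cj_mul hhn hy.isCode, cj_mul hhn hx.isCode, hxy]
  have hc' := hcom hc ht htc.symm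
  have hu' := hcom hu ht htu.symm
  rw [et] at hc' hu'
  have hc5 : pow5 (cj n h c) = idm := by rw [cj_pow5 hhn hc.isCode, h5, cj_idm hnh hh.isCode]
  have hcne : cj n h c ≠ idm := fun e' => hc1 (cj_eq_idm hhn hh.isCode hc.isCode e')
  have hgc := cj_gen hn hh hc
  have hgu := cj_gen hn hh hu
  have hk : ∀ (T : Tab) (oc : OutCase) (r : ℕ × ℕ × ℕ × ℕ),
      outOK NatO.gens NatO.ginv NatO.lin T oc r = true → ∀ x, Gen NatO.gens x →
      U62Rec.cmp x oc.c = U62Rec.cmp oc.c x → x ∈ T.S := by
    intro T oc r hok x hx hxc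
    simp only [outOK, Bool.and_eq_true] at hok
    exact Tab.mem_of_comm hok.1.1.1.1 hok.1.1.1.2 hx hxc
  have h012 := cent_five
  simp only [List.all_eq_true, Bool.or_eq_true, Bool.not_eq_true', ← Bool.not_eq_true,
    Nat.beq_eq] at h012
  have kill : ∀ T ∈ [NatO.ct0, NatO.ct1, NatO.ct2], cj n h c ∉ T.S := fun T hT hm =>
    (h012 T hT _ hm).elim (fun e1 => e1 hc5) hcne
  fin_cases ho
  · exact absurd (hk _ _ _ NatO.out0 _ hgc hc') (kill _ (by simp))
  · exact absurd (hk _ _ _ NatO.out1 _ hgc hc') (kill _ (by simp))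
  · exact absurd (hk _ _ _ NatO.out2 _ hgc hc') (kill _ (by simp))
  · have mc := hk _ _ _ NatO.out3 _ hgc hc'
    have mu := hk _ _ _ NatO.out3 _ hgu hu'
    have h3 := cent_pair
    simp only [List.all_eq_true, Bool.or_eq_true, Bool.and_eq_true, List.mem_filter, inv36,
      Bool.not_eq_true', ← Bool.not_eq_true, Nat.beq_eq] at h3
    have hu2' : U62Rec.cmp (cj n h u) (cj n h u) = idm := by
      rw [cj_mul hhn hu.isCode, hu2, cj_idm hnh hh.isCode]
    have hun : cj n h u ≠ idm := fun e' => hu1 (cj_eq_idm hhn hh.isCode hu.isCode e')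
    by_contra htu'
    rcases h3 _ mc with (e1 | e1) | e1
    · exact e1 hc5
    · exact hcne e1
    · refine e1 (cj n h u) ⟨mu, hu2', hun, fun e2 => htu' ?_⟩ (hcom hc hu huc.symm)
      have hprod : cj n h (U62Rec.cmp t u) = idm := by
        rw [← cj_mul hhn hu.isCode, et, e2]
        have h2 : U62Rec.cmp (cj n h t) (cj n h t) = idm := by
          rw [cj_mul hhn ht.isCode, ht2, cj_idm hnh hh.isCode]
        rw [et] at h2
        exact h2
      have h4 := cj_eq_idm hhn hh.isCode (isCode_cmp _ _) hprod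
      exact (cancel_left ht2 hu.isCode ht.isCode (h4.trans ht2.symm)).symm

/-! ### The involution `sOut` -/

theorem sOut_mem : (mem sOut NatO.ct3.S && mem cFive NatO.ct3.S) = true := by decide +kernel

theorem sOut_gen : Gen NatO.gens sOut := by
  have h := sOut_mem
  simp only [Bool.and_eq_true, mem_iff] at h
  exact (Tab.spec_of_ok (outOK_tab NatO.out3)).S_gen _ h.1

theorem cFive_gen : Gen NatO.gens cFive := by
  have h := sOut_mem
  simp only [Bool.and_eq_true, mem_iff] at h
  exact (Tab.spec_of_ok (outOK_tab NatO.out3)).S_gen _ h.2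

theorem sOut_sq : U62Rec.cmp sOut sOut = idm := by decide +kernel

theorem sOut_ne : sOut ≠ idm := by decide +kernel

theorem cFive_ne : cFive ≠ idm := by decide +kernel

theorem cFive_pow : pow5 cFive = idm := by decide +kernel

theorem cFive_comm : U62Rec.cmp cFive sOut = U62Rec.cmp sOut cFive := by decide +kernel

theorem W16_nodup : W16.Nodup := (List.nodup_range).filter _

theorem W16_length : W16.length = 16 := by decide +kernel

theorem sOut_W {v : ℕ} : v ∈ W16 ↔ v < 256 ∧ app sOut v = v := by simp [W16, Nat.beq_eq]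

theorem sOut_image_check : (List.range 256).all (fun v => (Nat.beq (app sOut v) v) ==
    ((List.range 256).any fun w => Nat.beq (app sOut w ^^^ w) v)) = true := by decide +kernel

theorem sOut_image {v : ℕ} (hv : v < 256) :
    app sOut v = v ↔ ∃ w < 256, app sOut w ^^^ w = v := by
  have h := sOut_image_check
  simp only [List.all_eq_true, List.mem_range, beq_iff_eq] at h
  rw [← Nat.beq_eq, h v hv]
  simp [List.any_eq_true, Nat.beq_eq]

theorem sOut_q_check : W16.all (fun v => !qv NatO.lin v) = true := by decide +kernel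

theorem sOut_q {v : ℕ} (hv : v < 256) (h : app sOut v = v) : qv NatO.lin v = false := by
  have h' := sOut_q_check
  simp only [List.all_eq_true, Bool.not_eq_true'] at h'
  exact h' v (sOut_W.2 ⟨hv, h⟩)

/-- Vectors of the form `g v + v` in the fixed space. -/
def diffs : List ℕ := NatO.oc3.A.flatMap fun g => W16.map fun w => app g w ^^^ w

theorem diffs_span : W16.all (fun v => diffs.any fun a => diffs.any fun b =>
    Nat.beq (a ^^^ b) v) = true := by decide +kernel

theorem W16_closed : W16.all (fun a => NatO.oc3.A.all fun g => mem (app g a) W16) = true := by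
  decide +kernel

/-- No invariant nonzero functional. -/
theorem sOut_fun (f : ℕ → Bool) (hadd : ∀ a ∈ W16, ∀ b ∈ W16, f (a ^^^ b) = (f a ^^ f b))
    (hinv : ∀ m, Gen NatO.gens m → U62Rec.cmp m sOut = U62Rec.cmp sOut m → ∀ v ∈ W16, f (app m v) = f v) :
    ∀ v ∈ W16, f v = false := by
  have hcl := W16_closed
  simp only [List.all_eq_true, mem_iff] at hcl
  have hA : ∀ g ∈ NatO.oc3.A, Gen NatO.gens g ∧ U62Rec.cmp g sOut = U62Rec.cmp sOut g :=
    (outHyp_of_ok NatO.out3).A_gen
  have hzero : ∀ d ∈ diffs, d ∈ W16 ∧ f d = false := by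
    intro d hd
    obtain ⟨g, hg, hd⟩ := List.mem_flatMap.1 hd
    obtain ⟨w, hw, rfl⟩ := List.mem_map.1 hd
    obtain ⟨hw1, hw2⟩ := sOut_W.1 hw
    obtain ⟨hgw1, hgw2⟩ := sOut_W.1 (hcl w hw g hg)
    refine ⟨sOut_W.2 ⟨Nat.xor_lt_two_pow (n := 8) hgw1 hw1, by rw [app_xor, hgw2, hw2]⟩, ?_⟩
    rw [hadd _ (hcl w hw g hg) _ hw, hinv g (hA g hg).1 (hA g hg).2 w hw, Bool.xor_self]
  intro v hv
  have h := diffs_span
  simp only [List.all_eq_true, List.any_eq_true, Nat.beq_eq] at h
  obtain ⟨a, ha, b, hb, rfl⟩ := h v hv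
  rw [hadd a (hzero a ha).1 b (hzero b hb).1, (hzero a ha).2, (hzero b hb).2]
  rfl

theorem fixW_check : (mem 5 W16 && NatO.vt0.S.all (fun s =>
    !(W16.all fun v => Nat.beq (app s v) v) || Nat.beq s idm || Nat.beq s sOut)) = true := by
  decide +kernel

theorem sOut_fixW {m : ℕ} (hm : Gen NatO.gens m) (h : ∀ v ∈ W16, app m v = v) :
    m = idm ∨ m = sOut := by
  have hc := fixW_check
  simp only [Bool.and_eq_true, mem_iff, List.all_eq_true, Bool.or_eq_true, Nat.beq_eq,
    Bool.not_eq_true', ← Bool.not_eq_true] at hc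
  rcases hc.2 m (Tab.mem_of_fix NatO.vt0_ok NatO.vt0_fix hm (h 5 hc.1)) with (e | e) | e
  · exact absurd h e
  · exact Or.inl e
  · exact Or.inr e

end Cfsg.Agent.Fi22Two.NatFacts
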