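import Cfsg.Agent.Fi22Two.Inner
import Cfsg.Agent.U62Rec.ResultInner
import Cfsg.Agent.U62Rec.ResultOuter

/-!
# The centraliser of `a` modulo `a`
-/

set_option autoImplicit false

open Cfsg Subgroup

namespace Cfsg.Agent.Fi22Two

open Cfsg.Agent.LargeExtra Cfsg.Agent.U62Rec

variable {G : Type*} [Group G] [Finite G] {z a : G}

/-- What is used besides `Hyp`. -/
structure Extra (z a : G) : Prop where
  ext : ∃ E : Subgroup G, E ≤ oc z ∧ IsExtraspecial 2 ↥E ∧ Nat.card ↥E = 512 ∧ a ∉ E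
  act : ∀ g ∈ centralizer ({z} : Set G), (∀ j ∈ oc z, g * j * g⁻¹ * j⁻¹ = 1 ∨
    g * j * g⁻¹ * j⁻¹ = z ∨ g * j * g⁻¹ * j⁻¹ = a ∨ g * j * g⁻¹ * j⁻¹ = a * z) → g ∈ oc z
  nconj : ∀ g : G, g * z * g⁻¹ ≠ a * z

variable (a) in
/-- The subgroup `⟨a⟩` of the centraliser. -/
abbrev Na : Subgroup ↥(centralizer ({a} : Set G)) :=
  (zpowers a).subgroupOf (centralizer ({a} : Set G))

instance na_normal : (Na a).Normal := by
  refine ⟨fun n hn g => ?_⟩
  rw [mem_subgroupOf] at hn ⊢
  obtain ⟨k, hk⟩ := mem_zpowers_iff.1 hn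
  have hg : Commute (g : G) a := mem_centralizer_singleton_iff.1 g.2
  have : Commute (g : G) (n : G) := hk ▸ hg.zpow_right k
  simpa [this.eq] using hn

variable (a) in
/-- The quotient. -/
abbrev Qa : Type _ := ↥(centralizer ({a} : Set G)) ⧸ Na a

theorem mem_zpowers_two {u x : G} (hu : u * u = 1) : x ∈ zpowers u ↔ x = 1 ∨ x = u := by
  constructor
  · intro hx
    obtain ⟨k, rfl⟩ := mem_zpowers_iff.1 hx
    have hu2 : u ^ (2 : ℤ) = 1 := by rw [show (2 : ℤ) = 1 + 1 from rfl, zpow_add, zpow_one, hu]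
    rcases Int.even_or_odd k with ⟨l, rfl⟩ | ⟨l, rfl⟩
    · left; rw [← two_mul, zpow_mul, hu2, one_zpow]
    · right; rw [zpow_add, zpow_mul, hu2, one_zpow, one_mul, zpow_one]
  · rintro (rfl | rfl)
    · exact one_mem _
    · exact mem_zpowers _

section

variable (h : Hyp z a)
include h

theorem mk_eq_iff (x y : ↥(centralizer ({a} : Set G))) :
    (QuotientGroup.mk x : Qa a) = QuotientGroup.mk y ↔ (y : G) = x ∨ (y : G) = x * a := by
  rw [QuotientGroup.eq, mem_subgroupOf, mem_zpowers_two h.aa]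
  simp only [coe_mul, coe_inv, inv_mul_eq_iff_eq_mul, mul_one]

theorem z_mem_ca : z ∈ centralizer ({a} : Set G) := mem_centralizer_singleton_iff.2 h.comm_za.eq

/-- The image of `z`. -/
abbrev zq : Qa a := QuotientGroup.mk ⟨z, z_mem_ca h⟩

theorem oc_le_ca : oc z ≤ centralizer ({a} : Set G) :=
  (oc_le_inner z).trans h.inner_le_centralizer

theorem za_ne : z * a ≠ 1 := fun e => h.ne (by
  calc a = z * z * a := by rw [h.zz, one_mul]
    _ = z := by rw [mul_assoc, e, mul_one])

theorem ord_zq : orderOf (zq h) = 2 := by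
  refine orderOf_eq_prime ?_ ?_
  · rw [← QuotientGroup.mk_pow, QuotientGroup.eq_one_iff, mem_subgroupOf]
    simp [_root_.sq, h.zz]
  · intro e
    rw [QuotientGroup.eq_one_iff, mem_subgroupOf, mem_zpowers_two h.aa] at e
    rcases e with e | e
    · exact absurd h.ordz (by simp [show z = 1 from e])
    · exact h.ne (show z = a from e).symm

theorem mk_mem_cent (x : Extra z a) (g : ↥(centralizer ({a} : Set G))) :
    (QuotientGroup.mk g : Qa a) ∈ centralizer ({zq h} : Set (Qa a)) ↔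
      (g : G) ∈ centralizer ({z} : Set G) := by
  rw [mem_centralizer_singleton_iff, mem_centralizer_singleton_iff, ← QuotientGroup.mk_mul,
    ← QuotientGroup.mk_mul, mk_eq_iff h]
  simp only [coe_mul]
  refine ⟨fun e => e.elim Eq.symm fun e => absurd ?_ (x.nconj (g : G)⁻¹), fun e => Or.inl e.symm⟩
  have ha : Commute a (g : G) := (mem_centralizer_singleton_iff.1 g.2).symm
  calc (g : G)⁻¹ * z * (g : G)⁻¹⁻¹ = (g : G)⁻¹ * (z * g) := by group
    _ = (g : G)⁻¹ * (g * z * a) := by rw [e]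
    _ = z * a := by group
    _ = a * z := h.comm_za.eq

/-- The map onto the centraliser in the quotient. -/
def toCq (x : Extra z a) : ↥(centralizer ({z} : Set G) ⊓ centralizer ({a} : Set G)) →*
    ↥(centralizer ({zq h} : Set (Qa a))) where
  toFun g := ⟨QuotientGroup.mk ⟨(g : G), g.2.2⟩, (mk_mem_cent h x _).2 g.2.1⟩
  map_one' := Subtype.ext rfl
  map_mul' _ _ := Subtype.ext rfl

theorem toCq_surj (x : Extra z a) : Function.Surjective (toCq h x) := by
  rintro ⟨q, hq⟩
  obtain ⟨g, rfl⟩ := QuotientGroup.mk_surjective q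
  exact ⟨⟨g, (mk_mem_cent h x g).1 hq, g.2⟩, rfl⟩

theorem pCore_meet :
    (pCore 2 ↥(centralizer ({z} : Set G) ⊓ centralizer ({a} : Set G))).map
      (centralizer ({z} : Set G) ⊓ centralizer ({a} : Set G)).subtype = oc z := by
  set X := centralizer ({z} : Set G) ⊓ centralizer ({a} : Set G)
  have hn : (X.subgroupOf (centralizer ({z} : Set G))).Normal := by
    by_cases hf : Fixed z a
    · have : X.subgroupOf (centralizer ({z} : Set G)) = ⊤ :=
        eq_top_iff.2 fun g _ => mem_subgroupOf.2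
          ⟨g.2, mem_centralizer_singleton_iff.2 (hf g g.2).eq⟩
      rw [this]; infer_instance
    · rw [show X = inner z from h.inf_centralizer hf, inner_subgroupOf]; infer_instance
  apply le_antisymm
  · have h1 := Core.map_pCore_normal (p := 2) (X.subgroupOf (centralizer ({z} : Set G)))
    have he : (subgroupOfEquivOfLe (inf_le_left : X ≤ centralizer ({z} : Set G))).toMonoidHom =
        (subgroupOfEquivOfLe (inf_le_left : X ≤ centralizer ({z} : Set G))).toMonoidHom := rfl
    rw [← Core.map_pCore (subgroupOfEquivOfLe (inf_le_left : X ≤ centralizer ({z} : Set G)))]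
    rintro _ ⟨_, ⟨y, hy, rfl⟩, rfl⟩
    exact ⟨(y : ↥(centralizer ({z} : Set G))), ((h1.le : _) ⟨y, hy, rfl⟩).1, rfl⟩
  · intro j hj
    have hjX : j ∈ X := ⟨oc_le z hj, oc_le_ca h hj⟩
    haveI : ((oc z).subgroupOf X).Normal :=
      ⟨fun n hn g => mem_subgroupOf.2 (oc_conj_mem g.2.1 (mem_subgroupOf.1 hn))⟩
    exact ⟨⟨j, hjX⟩, Core.le_pCore (N := (oc z).subgroupOf X)
      ((oc_isPGroup z).comap_subtype) hj, rfl⟩

theorem ker_toCq (x : Extra z a) : (toCq h x).ker ≤
    pCore 2 ↥(centralizer ({z} : Set G) ⊓ centralizer ({a} : Set G)) := by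
  intro g hg
  have e : (QuotientGroup.mk (⟨(g : G), g.2.2⟩ : ↥(centralizer ({a} : Set G))) : Qa a) = 1 :=
    congrArg Subtype.val (MonoidHom.mem_ker.1 hg)
  rw [QuotientGroup.eq_one_iff, mem_subgroupOf] at e
  obtain ⟨y, hy, hye⟩ : (g : G) ∈ (pCore 2 ↥(centralizer ({z} : Set G) ⊓
      centralizer ({a} : Set G))).map (centralizer ({z} : Set G) ⊓
      centralizer ({a} : Set G)).subtype := by
    rw [pCore_meet h]
    exact (zpowers_le.2 h.a_mem) e
  rwa [← (Subtype.ext hye : y = g)]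

theorem map_pCore_toCq (x : Extra z a) :
    (pCore 2 ↥(centralizer ({z} : Set G) ⊓ centralizer ({a} : Set G))).map (toCq h x) =
      pCore 2 ↥(centralizer ({zq h} : Set (Qa a))) := by
  refine le_antisymm (Core.map_pCore_le_of_surjective (toCq_surj h x)) ?_
  rw [← map_comap_eq_self_of_surjective (toCq_surj h x) (pCore 2 _)]
  refine map_mono (Core.le_pCore ?_)
  exact Core.pCore_isPGroup.comap_of_ker_isPGroup _
    (Core.pCore_isPGroup.to_le (ker_toCq h x))

/-- `oc` of the image of `z`. -/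
theorem mem_oc_zq (x : Extra z a) (g : ↥(centralizer ({a} : Set G))) :
    (QuotientGroup.mk g : Qa a) ∈ oc (zq h) ↔ (g : G) ∈ oc z := by
  constructor
  · rintro ⟨q, hq, e⟩
    rw [← map_pCore_toCq h x] at hq
    obtain ⟨y, hy, rfl⟩ := hq
    have hy' : (y : G) ∈ oc z := (pCore_meet h).le ⟨y, hy, rfl⟩
    rcases (mk_eq_iff h ⟨(y : G), y.2.2⟩ g).1 e with e | e <;> rw [e]
    · exact hy'
    · exact mul_mem hy' h.a_mem
  · intro hg
    obtain ⟨y, hy, hye⟩ := (pCore_meet h).ge hg
    refine ⟨toCq h x y, (map_pCore_toCq h x).le ⟨y, hy, rfl⟩, ?_⟩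
    show (QuotientGroup.mk _ : Qa a) = QuotientGroup.mk g
    exact congrArg _ (Subtype.ext hye)

/-- The setting in the quotient. -/
theorem setting_zq (x : Extra z a) : Setting (zq h) ∧ Nat.card ↥(oc (zq h)) = 512 := by
  obtain ⟨E, hE, hEs, hEc, haE⟩ := x.ext
  let f : ↥E →* Qa a := (QuotientGroup.mk' (Na a)).comp
    (Subgroup.inclusion (hE.trans (oc_le_ca h)))
  have hinj : Function.Injective f := by
    refine (MonoidHom.ker_eq_bot_iff f).1 (eq_bot_iff.2 fun e he => ?_)
    have he' : (QuotientGroup.mk (Subgroup.inclusion (hE.trans (oc_le_ca h)) e) : Qa a) = 1 :=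
      MonoidHom.mem_ker.1 he
    rw [QuotientGroup.eq_one_iff, mem_subgroupOf, mem_zpowers_two h.aa] at he'
    rcases he' with e1 | e1
    · exact mem_bot.2 (Subtype.ext e1)
    · exact absurd ((show (e : G) = a from e1) ▸ e.2) haE
  have hle : f.range ≤ oc (zq h) := by
    rintro _ ⟨e, rfl⟩
    exact (mem_oc_zq h x _).2 (hE e.2)
  have hcard : Nat.card ↥(oc (zq h)) ≤ 512 := by
    have hs : (oc (zq h)) = ((oc z).subgroupOf (centralizer ({a} : Set G))).map
        (QuotientGroup.mk' (Na a)) := by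
      ext q
      obtain ⟨g, rfl⟩ := QuotientGroup.mk_surjective q
      rw [mem_oc_zq h x]
      constructor
      · exact fun hg => ⟨g, hg, rfl⟩
      · rintro ⟨y, hy, e⟩
        rcases (mk_eq_iff h y g).1 e with e | e <;> rw [e]
        · exact hy
        · exact mul_mem hy h.a_mem
    set X := (oc z).subgroupOf (centralizer ({a} : Set G))
    have hNX : Na a ≤ X := fun n hn => (zpowers_le.2 h.a_mem) (mem_subgroupOf.1 hn)
    have h1 : Nat.card ↥(X.map (QuotientGroup.mk' (Na a))) * Nat.card ↥(Na a) = Nat.card ↥X := by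
      have h2 := (X.map (QuotientGroup.mk' (Na a))).card_mul_index
      rw [index_map_eq X (QuotientGroup.mk'_surjective _) (by simpa using hNX)] at h2
      have h3 := X.card_mul_index
      have h4 := (Na a).card_eq_card_quotient_mul_card_subgroup
      have hX0 : 0 < X.index := Nat.pos_of_ne_zero X.index_ne_zero_of_finite
      apply Nat.eq_of_mul_eq_mul_right hX0
      rw [h3, h4, ← h2]; ring
    rw [hs]
    have hXc : Nat.card ↥X = 1024 := by
      rw [Nat.card_congr (subgroupOfEquivOfLe (oc_le_ca h)).toEquiv, h.card]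
    have hNc : Nat.card ↥(Na a) = 2 := by
      rw [Nat.card_congr (subgroupOfEquivOfLe
        (zpowers_le.2 (mem_centralizer_singleton_iff.2 rfl : a ∈ centralizer ({a} : Set G)))).toEquiv,
        Nat.card_zpowers, h.orda]
    rw [hXc, hNc] at h1
    exact Nat.le_of_mul_le_mul_right (h1.le.trans (by norm_num : (1024 : ℕ) ≤ 512 * 2)) (by norm_num)
  have hrc : Nat.card ↥f.range = 512 := by
    rw [← Nat.card_congr (MonoidHom.ofInjective hinj).toEquiv, hEc]
  have heq : f.range = oc (zq h) := eq_of_le_of_card_ge hle (by rw [hrc]; exact hcard)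
  refine ⟨⟨ord_zq h, heq ▸ extraspecial_congr (MonoidHom.ofInjective hinj) hEs, ?_⟩, heq ▸ hrc⟩
  intro q hq
  obtain ⟨g, rfl⟩ := QuotientGroup.mk_surjective q
  have hgz : (g : G) ∈ centralizer ({z} : Set G) := by
    rw [← mk_mem_cent h x, mem_centralizer_singleton_iff]
    exact (mem_centralizer_iff.1 hq (zq h) ((mem_oc_zq h x _).2 h.z_mem)).symm
  refine (mem_oc_zq h x g).2 (x.act g hgz fun j hj => ?_)
  have e := mem_centralizer_iff.1 hq _ ((mem_oc_zq h x ⟨j, oc_le_ca h hj⟩).2 hj)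
  rw [← QuotientGroup.mk_mul, ← QuotientGroup.mk_mul, mk_eq_iff h] at e
  simp only [coe_mul] at e
  rcases e with e | e
  · left; rw [e]; group
  · right; right; left
    have haj : Commute a j := ((h.centre a h.a_mem).2 (Or.inr (Or.inr (Or.inl rfl)))) j hj
    calc (g : G) * j * (g : G)⁻¹ * j⁻¹ = j * g * a * (g : G)⁻¹ * j⁻¹ := by rw [e]
      _ = j * (g * a * (g : G)⁻¹) * j⁻¹ := by group
      _ = a := by rw [← mem_centralizer_singleton_iff.1 g.2 |>.symm]; rw [mul_inv_cancel_right, ← haj.eq]; group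

end

end Cfsg.Agent.Fi22Two
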