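import Cfsg.Agent.Fi22Two.TripleDef
import Cfsg.Agent.U62Rec.Facts

/-!
# The finite check of commuting triples: the Boolean test and what it gives
-/

set_option autoImplicit false

namespace Cfsg.Agent.Fi22Two

open Cfsg.Agent.U62Rec

/-- The data of a class representative `c` with a table of its centraliser. -/
structure CData where
  c : ℕ
  T : Tab
  W : List ℕ
  B : List (ℕ × ℕ)
  Us : List (ℕ × List ℕ)

/-- The vectors and functionals are right. -/
def restOK (l : ℕ) (D : CData) : Bool :=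
    decide (D.W = (List.range 256).filter fun v => Nat.beq (app D.c v) v) &&
    D.B.all (fun e => Nat.beq (app D.c e.2 ^^^ e.2) e.1 && decide (e.2 < 256) && decide (e.1 < 256)) &&
    D.Us.all (fun e => decide (e.2 = D.W.filter fun v => !lv e.1 v)) &&
    (List.range 256).all (fun m => D.B.any (fun e => lv m e.1 != qv l e.1) ||
      D.Us.any fun e => D.W.all fun v => lv e.1 v == lv m v)

/-- The data are right. -/
def dataOK (gens ginv : List ℕ) (l : ℕ) (D : CData) : Bool :=
  D.T.ok gens ginv && D.T.centOK D.c && restOK l D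

theorem dataOK_of_outOK {gens ginv : List ℕ} {l : ℕ} {D : CData} {oc : OutCase}
    {r : ℕ × ℕ × ℕ × ℕ} (h : outOK gens ginv l D.T oc r = true) (hc : oc.c = D.c)
    (h' : restOK l D = true) : dataOK gens ginv l D = true := by
  simp only [outOK, Bool.and_eq_true] at h
  simp only [dataOK, Bool.and_eq_true]
  exact ⟨⟨h.1.1.1.1, hc ▸ h.1.1.1.2⟩, h'⟩

/-- The moved vectors of `q` in `U` are the singular ones. -/
def movedOK (l : ℕ) (U : List ℕ) (q : ℕ) : Bool :=
  (List.range 256).all fun u => mem (app q u ^^^ u) U == !qv l (app q u ^^^ u)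

/-- A candidate for the second map and the common fixed part. -/
def cand (l c x : ℕ) (U : List ℕ) : Bool :=
  U.all (fun v => Nat.beq (app x v) v) && movedOK l U x && movedOK l U (U62Rec.cmp c x)

/-- The centraliser is small. -/
def smallOK (D : CData) (x : ℕ) (U : List ℕ) : Bool :=
  decide ((radU U).length *
    Nat.gcd (D.T.S.filter fun s => Nat.beq (U62Rec.cmp x s) (U62Rec.cmp s x)).dedup.length 256 <
      4 * U.length)

/-- There is a twisting element of order three. -/
def twistOK (D : CData) (x : ℕ) (U : List ℕ) : Bool :=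
  D.W.all (fun v => mem v U && D.B.any fun e => Nat.beq e.1 v) &&
    D.T.S.any fun s => Nat.beq (U62Rec.cmp s (U62Rec.cmp s s)) idm &&
      let y := U62Rec.cmp (U62Rec.cmp (U62Rec.cmp s x) (U62Rec.cmp s s)) x
      (!Nat.beq y idm) && Nat.beq (U62Rec.cmp (U62Rec.cmp y y) (U62Rec.cmp y y)) idm

/-- A class without candidates. -/
def noCand (l : ℕ) (D : CData) : Bool :=
  D.T.S.all fun x => Nat.beq x idm || Nat.beq x D.c || !Nat.beq (U62Rec.cmp x x) idm ||
    D.Us.all fun e => !cand l D.c x e.2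

/-- A class where every candidate is settled, or leads to the class `c0`. -/
def checkOK (l : ℕ) (D : CData) (ts0 : List (ℕ × ℕ)) (c0 : ℕ) : Bool :=
  D.T.S.all fun x => Nat.beq x idm || Nat.beq x D.c || !Nat.beq (U62Rec.cmp x x) idm ||
    D.Us.all fun e => !cand l D.c x e.2 || smallOK D x e.2 || twistOK D x e.2 ||
      ts0.any fun p => Nat.beq (U62Rec.cmp x p.1) (U62Rec.cmp p.1 c0)

section Basic

variable {gens ginv : List ℕ}

theorem Gen.sub {g' : List ℕ} (hs : ∀ g ∈ gens, g ∈ g') {m : ℕ} (h : Gen gens m) : Gen g' m := by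
  induction h with
  | one => exact Gen.one
  | step hg _ ih => exact Gen.step (hs _ hg) ih

theorem lv_bit : ∀ l < 256, ∀ k < 8, lv l (2 ^ k) = l.testBit k := by decide +kernel

/-- Linear functionals on the vectors are given by numbers. -/
theorem exists_lv (f : ℕ → Bool) (hadd : ∀ a < 256, ∀ b < 256, f (a ^^^ b) = (f a ^^ f b)) :
    ∃ m < 256, ∀ v < 256, lv m v = f v := by
  have hbit : ∀ x : Fin 8 → Bool, ∃ m < 256, ∀ k : Fin 8, Nat.testBit m k = x k := by
    decide +kernel
  obtain ⟨m, hm, hmk⟩ := hbit fun k => f (2 ^ (k : ℕ))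
  refine ⟨m, hm, ?_⟩
  have h0 : f 0 = false := by simpa using hadd 0 (by norm_num) 0 (by norm_num)
  have hl0 : lv m 0 = false := by simpa using lv_xor m 0 0
  have key : ∀ n, n ≤ 8 → ∀ v < 2 ^ n, lv m v = f v := by
    intro n
    induction n with
    | zero => intro _ v hv; rw [show v = 0 by simpa using hv, hl0, h0]
    | succ n ih =>
      intro hn v hv
      by_cases hv' : v < 2 ^ n
      · exact ih (by omega) v hv'
      have hlt : v ^^^ 2 ^ n < 2 ^ n := by
        have hd : v / 2 ^ n = 1 := by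
          apply Nat.div_eq_of_lt_le
          · omega
          · rw [pow_succ] at hv; omega
        have ht : v.testBit n = true := by
          rw [Nat.testBit, Nat.shiftRight_eq_div_pow, hd]; rfl
        apply Nat.lt_pow_two_of_testBit
        intro i hi
        rw [Nat.testBit_xor, Nat.testBit_two_pow]
        rcases eq_or_lt_of_le hi with rfl | hi'
        · simp [ht]
        · rw [Nat.testBit_eq_false_of_lt (hv.trans_le (Nat.pow_le_pow_right (by norm_num) hi'))]
          simp [hi'.ne]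
      have h256 : 2 ^ n < 256 := lt_of_lt_of_le (Nat.pow_lt_pow_right (by norm_num) (by omega))
        (le_of_eq (by norm_num : (2 : ℕ) ^ 8 = 256))
      have e1 := lv_xor m (v ^^^ 2 ^ n) (2 ^ n)
      have e2 := hadd (v ^^^ 2 ^ n) (hlt.trans h256) (2 ^ n) h256
      rw [Nat.xor_assoc, Nat.xor_self, Nat.xor_zero] at e1 e2
      rw [e1, e2, ih (by omega) _ hlt, lv_bit m hm n (by omega)]
      congr 1
      exact hmk ⟨n, by omega⟩
  exact fun v hv => key 8 le_rfl v (by simpa using hv)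

theorem qv_gen {l : ℕ} (hq : gens.all (fun g => (List.range 256).all fun v =>
      qv l (app g v) == qv l v) = true) {m : ℕ} (hm : Gen gens m) :
    ∀ v < 256, qv l (app m v) = qv l v := by
  simp only [List.all_eq_true, List.mem_range, beq_iff_eq] at hq
  induction hm with
  | one => intro v hv; rw [app_idm hv]
  | @step g m hg _ ih => intro v hv; rw [app_cmp, hq g hg _ (app_lt _ _), ih v hv]

theorem fv_gen {l : ℕ} (hq : gens.all (fun g => (List.range 256).all fun v =>
      qv l (app g v) == qv l v) = true) {m : ℕ} (hm : Gen gens m) {a b : ℕ} (ha : a < 256)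
    (hb : b < 256) : fv (app m a) (app m b) = fv a b := by
  have h1 := qv_xor l (app m a) (app m b)
  rw [← app_xor, qv_gen hq hm _ (Nat.xor_lt_two_pow (n := 8) ha hb), qv_gen hq hm a ha,
    qv_gen hq hm b hb, qv_xor] at h1
  revert h1
  cases qv l a <;> cases qv l b <;> cases fv a b <;> cases fv (app m a) (app m b) <;> simp

/-- Conjugation by a pair of inverse maps. -/
def cjm (h g m : ℕ) : ℕ := U62Rec.cmp h (U62Rec.cmp m g)

variable {h g : ℕ}

theorem cjm_mul (hg : U62Rec.cmp g h = idm) (m n : ℕ) :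
    U62Rec.cmp (cjm h g m) (cjm h g n) = cjm h g (U62Rec.cmp m n) := by
  show U62Rec.cmp (U62Rec.cmp h (U62Rec.cmp m g)) (U62Rec.cmp h (U62Rec.cmp n g)) = _
  rw [cmp_assoc h, cmp_assoc m g, ← cmp_assoc g h, hg, idm_cmp (isCode_cmp _ _), ← cmp_assoc m n]
  rfl

theorem cjm_idm (hh : U62Rec.cmp h g = idm) (hgc : IsCode g) : cjm h g idm = idm := by
  rw [cjm, idm_cmp hgc, hh]

theorem cjm_cjm (hg : U62Rec.cmp g h = idm) {m : ℕ} (hm : IsCode m) :
    cjm g h (cjm h g m) = m := by
  show U62Rec.cmp g (U62Rec.cmp (U62Rec.cmp h (U62Rec.cmp m g)) h) = m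
  rw [cmp_assoc h, cmp_assoc m, hg, cmp_idm hm, ← cmp_assoc, hg, idm_cmp hm]

theorem app_cjm (hg : U62Rec.cmp g h = idm) {v : ℕ} (hv : v < 256) (m : ℕ) :
    app (cjm h g m) (app h v) = app h (app m v) := by
  rw [cjm, app_cmp, app_cmp, ← app_cmp g h, hg, app_idm hv]

theorem app_app (hg : U62Rec.cmp g h = idm) {v : ℕ} (hv : v < 256) : app g (app h v) = v := by
  rw [← app_cmp, hg, app_idm hv]

theorem mem_map_app (hh : U62Rec.cmp h g = idm) (hg : U62Rec.cmp g h = idm) {U : List ℕ}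
    (hU : ∀ v ∈ U, v < 256) {v : ℕ} (hv : v < 256) : v ∈ U.map (app h) ↔ app g v ∈ U := by
  rw [List.mem_map]
  constructor
  · rintro ⟨w, hw, rfl⟩
    rwa [app_app hg (hU w hw)]
  · exact fun hw => ⟨_, hw, app_app hh hv⟩

theorem moved_iff (hh : U62Rec.cmp h g = idm) (hg : U62Rec.cmp g h = idm) (q : ℕ) {v : ℕ}
    (hv : v < 256) : Moved (cjm h g q) v ↔ Moved q (app g v) := by
  constructor
  · rintro ⟨u, hu, rfl⟩
    refine ⟨app g u, app_lt _ _, ?_⟩
    conv_rhs => rw [app_xor, cjm, app_cmp, app_cmp, app_app hg (app_lt _ _)]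
  · rintro ⟨u, hu, e⟩
    refine ⟨app h u, app_lt _ _, ?_⟩
    rw [app_cjm hg hu, ← app_xor, e, app_app hh hv]

theorem length_rad_map (hq : ∀ a < 256, ∀ b < 256, fv (app h a) (app h b) = fv a b) {U : List ℕ}
    (hU : ∀ v ∈ U, v < 256) : (radU (U.map (app h))).length = (radU U).length := by
  show ((U.map (app h)).filter fun v => (U.map (app h)).all fun u => !fv v u).length =
    (U.filter fun v => U.all fun u => !fv v u).length
  rw [List.filter_map, List.length_map]
  congr 1
  refine List.filter_congr fun v hv => ?_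
  show ((U.map (app h)).all fun u => !fv (app h v) u) = U.all fun u => !fv v u
  rw [List.all_map, Bool.eq_iff_iff, List.all_eq_true, List.all_eq_true]
  exact forall₂_congr fun u hu => by
    show (!fv (app h v) (app h u)) = true ↔ (!fv v u) = true
    rw [hq v (hU v hv) u (hU u hu)]

end Basic

/-- A conjugating pair inside the inner part. -/
structure Pair (C : Cfg) (h g : ℕ) : Prop where
  hI : InnerCode C h
  gI : InnerCode C g
  hg : U62Rec.cmp h g = idm
  gh : U62Rec.cmp g h = idm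

/-- The generators preserve the form. -/
def QOK (C : Cfg) : Prop :=
  C.gens.all (fun g => (List.range 256).all fun v => qv C.l (app g v) == qv C.l v) = true

namespace Pair

variable {C : Cfg} {h g p x : ℕ} {U : List ℕ}

theorem symm (P : Pair C h g) : Pair C g h := ⟨P.gI, P.hI, P.gh, P.hg⟩

theorem hG (P : Pair C h g) : Gen C.gens h := Gen.sub (fun _ => List.mem_of_mem_take) P.hI

theorem gen (P : Pair C h g) {m : ℕ} (hm : Gen C.gens m) : Gen C.gens (cjm h g m) :=
  P.hG.mul (hm.mul P.symm.hG)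

theorem inner (P : Pair C h g) {m : ℕ} (hm : InnerCode C m) : InnerCode C (cjm h g m) :=
  Gen.mul P.hI (Gen.mul hm P.gI)

theorem inv (P : Pair C h g) {m : ℕ} (hm : InvCode C m) : InvCode C (cjm h g m) := by
  refine ⟨P.gen hm.gen, fun e => hm.ne ?_, ?_⟩
  · have := congrArg (cjm g h) e
    rwa [cjm_cjm P.gh hm.gen.isCode, cjm_idm P.gh P.hI.isCode] at this
  · rw [cjm_mul P.gh, hm.sq, cjm_idm P.hg P.gI.isCode]

theorem inj (P : Pair C h g) {m n : ℕ} (hm : IsCode m) (hn : IsCode n)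
    (e : cjm h g m = cjm h g n) : m = n := by
  have := congrArg (cjm g h) e
  rwa [cjm_cjm P.gh hm, cjm_cjm P.gh hn] at this

theorem which (P : Pair C h g) {q : ℕ}
    (hq : q = cjm h g p ∨ q = cjm h g x ∨ q = U62Rec.cmp (cjm h g p) (cjm h g x)) :
    ∃ q', (q' = p ∨ q' = x ∨ q' = U62Rec.cmp p x) ∧ q = cjm h g q' := by
  rw [cjm_mul P.gh] at hq
  rcases hq with e | e | e
  exacts [⟨p, Or.inl rfl, e⟩, ⟨x, Or.inr (Or.inl rfl), e⟩, ⟨_, Or.inr (Or.inr rfl), e⟩]

theorem triple (P : Pair C h g) (hQ : QOK C) (T : Triple C p x U) :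
    Triple C (cjm h g p) (cjm h g x) (U.map (app h)) := by
  have hU : ∀ v ∈ U, v < 256 := fun v hv => (T.fix v hv).1
  have hcode : ∀ q, q = p ∨ q = x ∨ q = U62Rec.cmp p x → IsCode q := by
    rintro q (rfl | rfl | rfl)
    exacts [T.ip.gen.isCode, T.ix.gen.isCode, isCode_cmp _ _]
  refine ⟨P.inv T.ip, P.inv T.ix, by rw [cjm_mul P.gh, cjm_mul P.gh, T.comm],
    fun e => T.ne (P.inj T.ip.gen.isCode T.ix.gen.isCode e), ?_, ?_, ?_, ?_⟩
  · exact T.nodup.map_on fun u hu v hv e => by
      rw [← app_app P.gh (hU u hu), e, app_app P.gh (hU v hv)]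
  · intro v hv
    obtain ⟨w, hw, rfl⟩ := List.mem_map.1 hv
    obtain ⟨hw', hp, hx⟩ := T.fix w hw
    exact ⟨app_lt _ _, by rw [app_cjm P.gh hw', hp], by rw [app_cjm P.gh hw', hx]⟩
  · intro q hq v hv hm
    obtain ⟨q', hq', rfl⟩ := P.which hq
    rw [mem_map_app P.hg P.gh hU hv, T.moved q' hq' _ (app_lt _ _) ((moved_iff P.hg P.gh q' hv).1 hm),
      qv_gen hQ P.symm.hG v hv]
  · intro q hq hi
    obtain ⟨q', hq', rfl⟩ := P.which hq
    have hi' : InnerCode C q' := by
      have := P.symm.inner hi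
      rwa [cjm_cjm P.gh (hcode q' hq')] at this
    obtain ⟨m, hm, hmU⟩ := T.phi q' hq' hi'
    obtain ⟨m', hm', hmv⟩ := exists_lv (fun v => lv m (app g v)) fun a _ b _ => by
      rw [app_xor, lv_xor]
    refine ⟨m', hm', fun v hv hfv => ?_⟩
    rw [mem_map_app P.hg P.gh hU hv, hmv v hv]
    refine hmU _ (app_lt _ _) ?_
    have := congrArg (app g) hfv
    rwa [← app_app P.hg hv, app_cjm P.gh (app_lt _ _), app_app P.gh (app_lt _ _),
      app_app P.hg hv] at this

theorem verdict (P : Pair C h g) (hQ : QOK C) (hU : ∀ v ∈ U, v < 256)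
    (hp : IsCode p) (hx : IsCode x) (V : Verdict C p x U) :
    Verdict C (cjm h g p) (cjm h g x) (U.map (app h)) := by
  rcases V with ⟨L, hn, hL, hlt⟩ | ⟨q, r, hq, hr, hqr, hqi, hfix, c, hc, hc3, hcq, hy1, hy2⟩
  · refine Or.inl ⟨L.map (cjm h g), ?_, ?_, ?_⟩
    · exact hn.map_on fun u hu v hv e =>
        P.inj ((hL u).1 hu).1.isCode ((hL v).1 hv).1.isCode e
    · intro m
      rw [List.mem_map]
      constructor
      · rintro ⟨w, hw, rfl⟩
        obtain ⟨h1, h2, h3⟩ := (hL w).1 hw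
        exact ⟨P.gen h1, by rw [cjm_mul P.gh, cjm_mul P.gh, h2],
          by rw [cjm_mul P.gh, cjm_mul P.gh, h3]⟩
      · rintro ⟨h1, h2, h3⟩
        refine ⟨cjm g h m, (hL _).2 ⟨P.symm.gen h1, ?_, ?_⟩, cjm_cjm P.hg h1.isCode⟩
        · have := congrArg (cjm g h) h2
          rwa [← cjm_mul P.hg, ← cjm_mul P.hg, cjm_cjm P.gh hp] at this
        · have := congrArg (cjm g h) h3
          rwa [← cjm_mul P.hg, ← cjm_mul P.hg, cjm_cjm P.gh hx] at this
    · rw [length_rad_map (fun a ha b hb => fv_gen hQ P.hG ha hb) hU, List.length_map,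
        List.length_map]
      exact hlt
  · have hcode : ∀ w, w = p ∨ w = x ∨ w = U62Rec.cmp p x → IsCode w := by
      rintro w (rfl | rfl | rfl)
      exacts [hp, hx, isCode_cmp _ _]
    refine Or.inr ⟨cjm h g q, cjm h g r, ?_, ?_, fun e => hqr (P.inj (hcode q hq) (hcode r hr) e),
      P.inner hqi, ?_, cjm h g c, P.gen hc, ?_, ?_, ?_⟩
    · rw [cjm_mul P.gh]; rcases hq with e | e | e <;> simp [e]
    · rw [cjm_mul P.gh]; rcases hr with e | e | e <;> simp [e]
    · intro v hv hfv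
      have hg' : app q (app g v) = app g v := by
        have := congrArg (app g) hfv
        rwa [← app_app P.hg hv, app_cjm P.gh (app_lt _ _), app_app P.gh (app_lt _ _),
          app_app P.hg hv] at this
      obtain ⟨h1, h2⟩ := hfix _ (app_lt _ _) hg'
      exact ⟨(mem_map_app P.hg P.gh hU hv).2 h1, (moved_iff P.hg P.gh q hv).2 h2⟩
    · rw [cjm_mul P.gh, cjm_mul P.gh, hc3, cjm_idm P.hg P.gI.isCode]
    · rw [cjm_mul P.gh, cjm_mul P.gh, hcq]
    · simp only [cjm_mul P.gh]
      refine ⟨fun e => hy1 ?_, by rw [hy2, cjm_idm P.hg P.gI.isCode]⟩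
      have := congrArg (cjm g h) e
      rwa [cjm_cjm P.gh (isCode_cmp _ _), cjm_idm P.gh P.hI.isCode] at this

end Pair

theorem map_app_back {C : Cfg} {h g : ℕ} (P : Pair C h g) {U : List ℕ} (hU : ∀ v ∈ U, v < 256) :
    (U.map (app g)).map (app h) = U := by
  rw [List.map_map]
  conv_rhs => rw [← List.map_id U]
  exact List.map_congr_left fun v hv => app_app P.hg (hU v hv)

/-- The common fixed part is one of the listed ones. -/
theorem exists_listed {C : Cfg} {ginv : List ℕ} {D : CData}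
    (hD : dataOK C.gens ginv C.l D = true) {x : ℕ} {U : List ℕ} (T : Triple C D.c x U)
    (hi : InnerCode C D.c) : ∃ e ∈ D.Us, U.Perm e.2 := by
  simp only [dataOK, restOK, Bool.and_eq_true, List.all_eq_true, Bool.or_eq_true, List.any_eq_true,
    decide_eq_true_eq, List.mem_range, Nat.beq_eq, bne_iff_ne, beq_iff_eq] at hD
  obtain ⟨⟨-, -⟩, ⟨⟨⟨hW, hB⟩, hUs⟩, hm'⟩⟩ := hD
  obtain ⟨m, hm, hmU⟩ := T.phi D.c (Or.inl rfl) hi
  rcases hm' m hm with ⟨e, he, hne⟩ | ⟨e, he, heW⟩
  · exfalso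
    obtain ⟨⟨hu, hu2⟩, hv⟩ := hB e he
    have hfix : app D.c e.1 = e.1 := by
      rw [← hu, app_xor, ← app_cmp, T.ip.sq, app_idm hu2, Nat.xor_comm]
    have h1 := hmU e.1 hv hfix
    have h2 := T.moved D.c (Or.inl rfl) e.1 hv ⟨e.2, hu2, hu⟩
    rw [h1] at h2
    apply hne
    revert h2
    cases lv m e.1 <;> cases qv C.l e.1 <;> simp
  · refine ⟨e, he, (List.perm_ext_iff_of_nodup T.nodup ?_).2 fun v => ?_⟩
    · rw [hUs e he, hW]; exact (List.nodup_range.filter _).filter _
    · have hmemW : ∀ w, w ∈ D.W ↔ w < 256 ∧ app D.c w = w := fun w => by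
        rw [hW, List.mem_filter, List.mem_range, Nat.beq_eq]
      rw [hUs e he, List.mem_filter]
      constructor
      · intro hv
        obtain ⟨h1, h2, -⟩ := T.fix v hv
        have := (hmemW v).2 ⟨h1, h2⟩
        refine ⟨this, ?_⟩
        rw [heW v this, (hmU v h1 h2).1 hv]; rfl
      · rintro ⟨hv, hl⟩
        obtain ⟨h1, h2⟩ := (hmemW v).1 hv
        rw [hmU v h1 h2, ← heW v hv]
        simpa using hl

theorem cand_of_triple {C : Cfg} {c x : ℕ} {U U₀ : List ℕ} (T : Triple C c x U)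
    (hp : U.Perm U₀) : cand C.l c x U₀ = true := by
  have key : ∀ q, q = c ∨ q = x ∨ q = U62Rec.cmp c x → movedOK C.l U₀ q = true := by
    intro q hq
    simp only [movedOK, List.all_eq_true, beq_iff_eq, List.mem_range]
    intro u hu
    have hlt : app q u ^^^ u < 256 := Nat.xor_lt_two_pow (n := 8) (app_lt _ _) hu
    have h1 := T.moved q hq _ hlt ⟨u, hu, rfl⟩
    rw [hp.mem_iff, ← U62Rec.mem_iff] at h1
    revert h1
    cases mem (app q u ^^^ u) U₀ <;> cases qv C.l (app q u ^^^ u) <;> simp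
  simp only [cand, Bool.and_eq_true, List.all_eq_true, Nat.beq_eq]
  exact ⟨⟨fun v hv => (T.fix v (hp.mem_iff.2 hv)).2.2, key x (Or.inr (Or.inl rfl))⟩,
    key _ (Or.inr (Or.inr rfl))⟩

theorem x_listed {C : Cfg} {ginv : List ℕ} {D : CData}
    (hD : dataOK C.gens ginv C.l D = true) {x : ℕ} {U : List ℕ} (T : Triple C D.c x U) :
    x ∈ D.T.S ∧ Nat.beq x idm = false ∧ Nat.beq x D.c = false ∧
      (!Nat.beq (U62Rec.cmp x x) idm) = false := by
  simp only [dataOK, Bool.and_eq_true] at hD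
  refine ⟨Tab.mem_of_comm hD.1.1 hD.1.2 T.ix.gen T.comm.symm, ?_, ?_, ?_⟩
  · rw [← Bool.not_eq_true, Nat.beq_eq]; exact T.ix.ne
  · rw [← Bool.not_eq_true, Nat.beq_eq]; exact T.ne.symm
  · rw [T.ix.sq]; simp

theorem false_of_noCand {C : Cfg} {ginv : List ℕ} {D : CData}
    (hD : dataOK C.gens ginv C.l D = true) (hi : InnerCode C D.c) (hn : noCand C.l D = true)
    {x : ℕ} {U : List ℕ} (T : Triple C D.c x U) : False := by
  obtain ⟨hx, h1, h2, h3⟩ := x_listed hD T
  obtain ⟨e, he, hp⟩ := exists_listed hD T hi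
  simp only [noCand, List.all_eq_true] at hn
  have := hn x hx
  rw [h1, h2, h3] at this
  simp only [Bool.or_false, Bool.false_or, List.all_eq_true] at this
  have := this e he
  rw [cand_of_triple T hp] at this
  exact Bool.false_ne_true this

theorem verdict_of_check {C : Cfg} {ginv : List ℕ} {D : CData}
    (hD : dataOK C.gens ginv C.l D = true) (hi : InnerCode C D.c) {ts0 : List (ℕ × ℕ)} {c0 : ℕ}
    (hck : checkOK C.l D ts0 c0 = true) {x : ℕ} {U : List ℕ} (T : Triple C D.c x U) :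
    Verdict C D.c x U ∨ ∃ p ∈ ts0, U62Rec.cmp x p.1 = U62Rec.cmp p.1 c0 := by
  obtain ⟨hx, h1, h2, h3⟩ := x_listed hD T
  obtain ⟨e, he, hp⟩ := exists_listed hD T hi
  simp only [checkOK, List.all_eq_true] at hck
  have := hck x hx
  rw [h1, h2, h3] at this
  simp only [Bool.or_false, Bool.false_or, List.all_eq_true] at this
  have h := this e he
  rw [cand_of_triple T hp] at h
  simp only [Bool.not_true, Bool.false_or, Bool.or_eq_true, List.any_eq_true, Nat.beq_eq] at h
  simp only [dataOK, restOK, Bool.and_eq_true, List.all_eq_true, decide_eq_true_eq, Nat.beq_eq] at hD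
  obtain ⟨⟨hT, hc⟩, ⟨⟨⟨hW, hB⟩, -⟩, -⟩⟩ := hD
  rcases h with (h | h) | h
  · left
    left
    simp only [smallOK, decide_eq_true_eq] at h
    refine ⟨(D.T.S.filter fun s => Nat.beq (U62Rec.cmp x s) (U62Rec.cmp s x)).dedup,
      List.nodup_dedup _, fun m => ?_, lt_of_le_of_lt (le_of_eq ?_) (h.trans_le
      (le_of_eq (by rw [hp.length_eq])))⟩
    · rw [List.mem_dedup, List.mem_filter, Nat.beq_eq]
      constructor
      · rintro ⟨hm, hmx⟩
        exact ⟨(Tab.spec_of_ok hT).S_gen m hm, (Tab.S_comm hT hc m hm).symm, hmx⟩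
      · rintro ⟨hm, hmc, hmx⟩
        exact ⟨Tab.mem_of_comm hT hc hm hmc.symm, hmx⟩
    · congr 1
      have hall : ∀ v, U.all (fun u => !fv v u) = e.2.all (fun u => !fv v u) := fun v => by
        rw [Bool.eq_iff_iff, List.all_eq_true, List.all_eq_true]
        exact ⟨fun H u hu => H u (hp.mem_iff.2 hu), fun H u hu => H u (hp.mem_iff.1 hu)⟩
      show (U.filter fun v => U.all fun u => !fv v u).length = _
      simp only [hall]
      exact (hp.filter _).length_eq
  · left
    right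
    simp only [twistOK, Bool.and_eq_true, List.all_eq_true, List.any_eq_true, Nat.beq_eq,
      Bool.not_eq_true', mem_iff] at h
    obtain ⟨hWU, s, hs, hs3, hy1, hy2⟩ := h
    refine ⟨D.c, x, Or.inl rfl, Or.inr (Or.inl rfl), T.ne, hi, fun v hv hfv => ?_, s,
      (Tab.spec_of_ok hT).S_gen s hs, hs3, Tab.S_comm hT hc s hs, ?_, hy2⟩
    · have hvW : v ∈ D.W := by
        rw [hW, List.mem_filter, List.mem_range, Nat.beq_eq]; exact ⟨hv, hfv⟩
      obtain ⟨h1, b, hb, rfl⟩ := hWU v hvW
      exact ⟨hp.mem_iff.2 h1, b.2, (hB b hb).1.2, (hB b hb).1.1⟩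
    · intro e'
      rw [← Bool.not_eq_true, Nat.beq_eq] at hy1
      exact hy1 e'
  · exact Or.inr h

theorem isCode_of_data {gens ginv : List ℕ} {l : ℕ} {D : CData}
    (hD : dataOK gens ginv l D = true) : IsCode D.c := by
  simp only [dataOK, Tab.centOK, Bool.and_eq_true, decide_eq_true_eq] at hD
  exact hD.1.2.1.2

theorem Triple.swap {C : Cfg} {p x : ℕ} {U : List ℕ} (T : Triple C p x U) : Triple C x p U := by
  refine ⟨T.ix, T.ip, T.comm.symm, T.ne.symm, T.nodup, fun v hv => ?_, fun q hq => ?_,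
    fun q hq => ?_⟩
  · exact ⟨(T.fix v hv).1, (T.fix v hv).2.2, (T.fix v hv).2.1⟩
  · exact T.moved q (by rw [← T.comm] at hq; tauto)
  · exact T.phi q (by rw [← T.comm] at hq; tauto)

/-- The verdict from the checks at the two classes of the inner part. -/
theorem verdict_of_classes {C : Cfg} (hQ : QOK C) {ginv ginvI : List ℕ} {gI : List ℕ}
    (hgI : C.gens.take 8 = gI) (hinv : invOK gI ginvI = true) {T0 : Tab}
    (hT0 : T0.ok gI ginvI = true) {D0 D1 : CData}
    (h0 : dataOK C.gens ginv C.l D0 = true) (h1 : dataOK C.gens ginv C.l D1 = true)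
    (hn : noCand C.l D0 = true) (hc0 : mem D0.c T0.S = true) (hck : checkOK C.l D1 T0.ts D0.c = true)
    (hcls : ∀ m, Gen gI m → m ≠ idm → U62Rec.cmp m m = idm →
      ∃ c, (c = D0.c ∨ c = D1.c) ∧ ∃ h, Gen gI h ∧ U62Rec.cmp m h = U62Rec.cmp h c)
    {p x : ℕ} {U : List ℕ} (T : Triple C p x U) (hp : InnerCode C p) : Verdict C p x U := by
  have hIeq : ∀ m, InnerCode C m ↔ Gen gI m := fun m => by rw [InnerCode, hgI]
  have hgc : ∀ g ∈ gI, IsCode g := (Tab.spec_of_ok hT0).code
  obtain ⟨c, hc, h, hh, hconj⟩ := hcls p ((hIeq p).1 hp) T.ip.ne T.ip.sq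
  obtain ⟨g, hg, hhg⟩ := hh.exists_inv hgc hinv
  have P : Pair C g h :=
    ⟨(hIeq _).2 hg, (hIeq _).2 hh, left_inv_of_right hg.isCode hh.isCode hhg, hhg⟩
  have e : cjm g h p = c := by
    show U62Rec.cmp g (U62Rec.cmp p h) = c
    rw [hconj, ← cmp_assoc, P.hg, idm_cmp]
    rcases hc with rfl | rfl
    · exact isCode_of_data h0
    · exact isCode_of_data h1
  have T' := P.triple hQ T
  rw [e] at T'
  have hi : InnerCode C c := e ▸ P.inner hp
  have hU : ∀ v ∈ U, v < 256 := fun v hv => (T.fix v hv).1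
  have back : Verdict C c (cjm g h x) (U.map (app g)) → Verdict C p x U := fun V => by
    have V' := P.symm.verdict hQ (fun v hv => (T'.fix v hv).1) T'.ip.gen.isCode T'.ix.gen.isCode V
    rw [← e, cjm_cjm P.gh T.ip.gen.isCode, cjm_cjm P.gh T.ix.gen.isCode,
      map_app_back P.symm hU] at V'
    exact V'
  rcases hc with rfl | rfl
  · exact (false_of_noCand h0 hi hn T').elim
  · rcases verdict_of_check h1 hi hck T' with V | ⟨t, ht, htc⟩
    · exact back V
    · exfalso
      obtain ⟨ht1, ht2, htt⟩ := (Tab.spec_of_ok hT0).ts_gen t ht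
      have Q : Pair C t.2 t.1 :=
        ⟨(hIeq _).2 ht2, (hIeq _).2 ht1, left_inv_of_right ht2.isCode ht1.isCode htt, htt⟩
      have e2 : cjm t.2 t.1 (cjm g h x) = D0.c := by
        show U62Rec.cmp t.2 (U62Rec.cmp (cjm g h x) t.1) = D0.c
        rw [htc, ← cmp_assoc, Q.hg, idm_cmp (isCode_of_data h0)]
      have T'' := Q.triple hQ T'.swap
      rw [e2] at T''
      have hi0 : InnerCode C D0.c := (hIeq _).2 ((Tab.spec_of_ok hT0).S_gen _ (mem_iff.1 hc0))
      exact false_of_noCand h0 hi0 hn T''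

end Cfsg.Agent.Fi22Two
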