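import Cfsg.Agent.Fi22Two.TripleData
import Cfsg.Agent.U62Rec.Check.NatI
import Cfsg.Agent.U62Rec.Check.NatO

/-!
# The check of commuting triples: the configurations NatI, NatO
-/

set_option autoImplicit false
set_option maxRecDepth 65536
set_option maxHeartbeats 4000000
set_option Elab.async false

namespace Cfsg.Agent.Fi22Two

open Cfsg.Agent.U62Rec

theorem natI_qOK : QOK ⟨NatI.gens, NatI.lin⟩ := by
  show (NatI.gens.all fun g => (List.range 256).all fun v =>
    qv NatI.lin (app g v) == qv NatI.lin v) = true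
  decide +kernel

theorem natI_none : noCand NatI.lin (triNatC0 NatI.ct0) = true := by decide +kernel

theorem natI_check : checkOK NatI.lin (triNatC1 NatI.ct1) NatI.ct0.ts
    (triNatC0 NatI.ct0).c = true := by
  decide +kernel

/-- The verdict in the configuration NatI. -/
theorem natI_verdict {p x : ℕ} {U : List ℕ} (T : Triple ⟨NatI.gens, NatI.lin⟩ p x U)
    (hp : InnerCode ⟨NatI.gens, NatI.lin⟩ p) : Verdict ⟨NatI.gens, NatI.lin⟩ p x U := by
  refine verdict_of_classes natI_qOK (gI := NatI.gens) (ginvI := NatI.ginv) (by decide +kernel)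
    (by decide +kernel) (outOK_tab NatI.out0)
    (dataOK_of_outOK (D := (triNatC0 NatI.ct0)) NatI.out0 rfl (by decide +kernel))
    (dataOK_of_outOK (D := (triNatC1 NatI.ct1)) NatI.out1 rfl (by decide +kernel))
    natI_none (by decide +kernel) natI_check (fun m a b d => ?_) T hp
  obtain ⟨o, ho, h, hh, e⟩ := NatI.facts.cls m a b d
  simp only [List.mem_cons, List.not_mem_nil, or_false] at ho
  rcases ho with rfl | rfl
  · exact ⟨_, Or.inl rfl, h, hh, e⟩
  · exact ⟨_, Or.inr rfl, h, hh, e⟩

theorem natO_qOK : QOK ⟨NatO.gens, NatO.lin⟩ := by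
  show (NatO.gens.all fun g => (List.range 256).all fun v =>
    qv NatO.lin (app g v) == qv NatO.lin v) = true
  decide +kernel

theorem natO_none : noCand NatO.lin (triNatC0 NatO.ct0) = true := by decide +kernel

theorem natO_check : checkOK NatO.lin (triNatC1 NatO.ct2) NatI.ct0.ts
    (triNatC0 NatO.ct0).c = true := by
  decide +kernel

/-- The verdict in the configuration NatO. -/
theorem natO_verdict {p x : ℕ} {U : List ℕ} (T : Triple ⟨NatO.gens, NatO.lin⟩ p x U)
    (hp : InnerCode ⟨NatO.gens, NatO.lin⟩ p) : Verdict ⟨NatO.gens, NatO.lin⟩ p x U := by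
  refine verdict_of_classes natO_qOK (gI := NatI.gens) (ginvI := NatI.ginv) (by decide +kernel)
    (by decide +kernel) (outOK_tab NatI.out0)
    (dataOK_of_outOK (D := (triNatC0 NatO.ct0)) NatO.out0 rfl (by decide +kernel))
    (dataOK_of_outOK (D := (triNatC1 NatO.ct2)) NatO.out2 rfl (by decide +kernel))
    natO_none (by decide +kernel) natO_check (fun m a b d => ?_) T hp
  obtain ⟨o, ho, h, hh, e⟩ := NatI.facts.cls m a b d
  simp only [List.mem_cons, List.not_mem_nil, or_false] at ho
  rcases ho with rfl | rfl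
  · exact ⟨_, Or.inl rfl, h, hh, e⟩
  · exact ⟨_, Or.inr rfl, h, hh, e⟩

end Cfsg.Agent.Fi22Two
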