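import Cfsg.Agent.Fi22Two.Quot
import Cfsg.Agent.ThreeTrans.CountM22

/-!
# The two types of the centraliser of `a`, and the coordinates
-/

set_option autoImplicit false

open Cfsg Subgroup
open scoped commutatorElement

namespace Cfsg.Agent.Fi22Two

open Cfsg.Agent.LargeExtra Cfsg.Agent.U62Rec

variable {G : Type*} [Group G] [Finite G] {z a : G}

/-- Removing the top bit. -/
theorem xor_top : ∀ n < 8, ∀ v < 256, v < 2 ^ (n + 1) → ¬ v < 2 ^ n → v ^^^ 2 ^ n < 2 ^ n := by
  decide +kernel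

/-- Moved vectors span the space of the natural configuration. -/
theorem natO_moved : ∀ k < 8, ∃ g ∈ NatO.gens, ∃ v < 256, app g v ^^^ v = 2 ^ k := by decide +kernel

section

variable (h : Hyp z a) (x : Extra z a)
include h x

/-- The quotient of the centraliser in the quotient. -/
theorem cq_equiv {P : Type*} [Group P]
    (ψ : ↥(centralizer ({z} : Set G) ⊓ centralizer ({a} : Set G)) →* P)
    (hψ : Function.Surjective ψ)
    (hk : ψ.ker = pCore 2 ↥(centralizer ({z} : Set G) ⊓ centralizer ({a} : Set G))) :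
    Nonempty ((↥(centralizer ({zq h} : Set (Qa a))) ⧸
      pCore 2 ↥(centralizer ({zq h} : Set (Qa a)))) ≃* P) := by
  let χ := (QuotientGroup.mk' (pCore 2 ↥(centralizer ({zq h} : Set (Qa a))))).comp (toCq h x)
  have hχ : Function.Surjective χ := (QuotientGroup.mk'_surjective _).comp (toCq_surj h x)
  have hkχ : χ.ker = ψ.ker := by
    rw [hk, ← MonoidHom.comap_ker, QuotientGroup.ker_mk', ← map_pCore_toCq h x, comap_map_eq,
      sup_eq_left.2 (ker_toCq h x)]
  exact ⟨((QuotientGroup.quotientKerEquivOfSurjective χ hχ).symm.trans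
    (QuotientGroup.quotientMulEquivOfEq hkχ)).trans
    (QuotientGroup.quotientKerEquivOfSurjective ψ hψ)⟩

theorem mem_pCore_meet (g : ↥(centralizer ({z} : Set G) ⊓ centralizer ({a} : Set G))) :
    g ∈ pCore 2 ↥(centralizer ({z} : Set G) ⊓ centralizer ({a} : Set G)) ↔ (g : G) ∈ oc z := by
  constructor
  · intro hg; exact (pCore_meet h).le ⟨g, hg, rfl⟩
  · intro hg
    obtain ⟨y, hy, e⟩ := (pCore_meet h).ge hg
    rwa [← (Subtype.ext e : y = g)]

theorem equiv_fixed (hf : Fixed z a) : Nonempty ((↥(centralizer ({zq h} : Set (Qa a))) ⧸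
    pCore 2 ↥(centralizer ({zq h} : Set (Qa a)))) ≃* MulAut (Cfsg.PSp 2 (ZMod 3))) := by
  obtain ⟨e⟩ := h.quot
  refine cq_equiv h x ((e.toMonoidHom.comp (QuotientGroup.mk' _)).comp
    (Subgroup.inclusion inf_le_left)) ?_ ?_
  · intro p
    obtain ⟨q, rfl⟩ := (e.surjective.comp (QuotientGroup.mk'_surjective _)) p
    exact ⟨⟨(q : G), q.2, mem_centralizer_singleton_iff.2 (hf q q.2).eq⟩, rfl⟩
  · ext g
    rw [mem_pCore_meet h x, MonoidHom.mem_ker]
    exact ker_quot e (Subgroup.inclusion inf_le_left g)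

theorem equiv_swap (hf : ¬ Fixed z a) : Nonempty ((↥(centralizer ({zq h} : Set (Qa a))) ⧸
    pCore 2 ↥(centralizer ({zq h} : Set (Qa a)))) ≃* Cfsg.PSp 2 (ZMod 3)) := by
  obtain ⟨e⟩ := h.quot
  obtain ⟨-, hcom, -, -, hi⟩ := mulAut_psp
  let φ : ↥(centralizer ({z} : Set G)) →* MulAut (Cfsg.PSp 2 (ZMod 3)) :=
    e.toMonoidHom.comp (QuotientGroup.mk' _)
  have hφ : Function.Surjective φ := e.surjective.comp (QuotientGroup.mk'_surjective _)
  let ι := φ.comp (Subgroup.inclusion (inf_le_left :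
    centralizer ({z} : Set G) ⊓ centralizer ({a} : Set G) ≤ centralizer ({z} : Set G)))
  have hk : φ.ker = pCore 2 ↥(centralizer ({z} : Set G)) := by
    ext g
    exact (MulEquiv.map_eq_one_iff e).trans (QuotientGroup.eq_one_iff g)
  have hr : ι.range = commutator (MulAut (Cfsg.PSp 2 (ZMod 3))) := by
    rw [MonoidHom.range_comp, inclusion_range, h.inf_centralizer hf, inner_subgroupOf, Subgroup.map_sup,
      show (pCore 2 ↥(centralizer ({z} : Set G))).map φ = ⊥ from (Subgroup.map_eq_bot_iff _).2 hk.ge,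
      sup_bot_eq, _root_.commutator_def, _root_.commutator_def, map_commutator, map_top_of_surjective φ hφ]
  let eq := (MulEquiv.subgroupCongr (hr.trans hcom)).trans (MonoidHom.ofInjective hi).symm
  refine cq_equiv h x (eq.toMonoidHom.comp ι.rangeRestrict)
    (eq.surjective.comp ι.rangeRestrict_surjective) ?_
  ext g
  rw [mem_pCore_meet h x, MonoidHom.mem_ker]
  refine ((MulEquiv.map_eq_one_iff eq).trans ?_).trans (ker_quot e (Subgroup.inclusion inf_le_left g))
  rw [Subtype.ext_iff]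
  rfl

omit x in
theorem isoIn_of_decomp (hd : centralizer ({zq h} : Set (Qa a)) ⊔ Cfsg.oddCore (Qa a) = ⊤)
    (hn : ∀ g : G, g * z * g⁻¹ ≠ a * z) : IsoIn z a := by
  intro g hga hgz
  let g' : ↥(centralizer ({a} : Set G)) := ⟨g, mem_centralizer_singleton_iff.2 hga.eq⟩
  have hmem : (QuotientGroup.mk g' : Qa a) ∈
      centralizer ({zq h} : Set (Qa a)) ⊔ Cfsg.oddCore (Qa a) := hd ▸ mem_top _
  obtain ⟨o, ho, c, hc, e⟩ : ∃ o ∈ Cfsg.oddCore (Qa a), ∃ c ∈ centralizer ({zq h} : Set (Qa a)),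
      o * c = QuotientGroup.mk g' := by
    rw [sup_comm, ← SetLike.mem_coe, coe_mul_of_right_le_normalizer_left] at hmem
    · exact hmem
    · intro q _
      exact (Subgroup.normalizer_eq_top (H := Cfsg.oddCore (Qa a))).symm ▸ mem_top q
  have hq2 : zq h * zq h = 1 := by
    rw [← _root_.sq, ← ord_zq h]; exact pow_orderOf_eq_one _
  have hcz : c * zq h * c⁻¹ = zq h := by
    rw [mem_centralizer_singleton_iff.1 hc, mul_inv_cancel_right]
  set u := (QuotientGroup.mk g' : Qa a) * zq h * (QuotientGroup.mk g' : Qa a)⁻¹ with hu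
  have hu' : u = o * zq h * o⁻¹ := by
    rw [hu, ← e]; calc o * c * zq h * (o * c)⁻¹ = o * (c * zq h * c⁻¹) * o⁻¹ := by group
      _ = _ := by rw [hcz]
  have hcomm : Commute u (zq h) := by
    have := congrArg (QuotientGroup.mk (s := Na a))
      (show (g' * ⟨z, z_mem_ca h⟩ * g'⁻¹ * ⟨z, z_mem_ca h⟩ : ↥(centralizer ({a} : Set G))) =
        ⟨z, z_mem_ca h⟩ * (g' * ⟨z, z_mem_ca h⟩ * g'⁻¹) from Subtype.ext hgz.eq)
    exact this
  have hodd : Odd (Nat.card ↥(Cfsg.oddCore (Qa a))) := Nat.coprime_two_right.1 (Cfsg.Agent.Core.coprime_card_pPrimeCore (p := 2) (G := Qa a))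
  have hun : u * zq h ∈ Cfsg.oddCore (Qa a) := by
    rw [hu', show o * zq h * o⁻¹ * zq h = o * (zq h * o⁻¹ * (zq h)⁻¹) * (zq h * zq h) by group,
      hq2, mul_one]
    exact mul_mem ho ((inferInstance : (Cfsg.oddCore (Qa a)).Normal).conj_mem _ (inv_mem ho) _)
  have hu2 : u * u = 1 := by rw [hu', show o * zq h * o⁻¹ * (o * zq h * o⁻¹) = o * (zq h * zq h) * o⁻¹ by group, hq2]; group
  have h1 : u * zq h = 1 := by
    have h2 : (u * zq h) ^ 2 = 1 := by rw [hcomm.mul_pow, _root_.sq, _root_.sq, hu2, hq2, one_mul]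
    have h3 := Subgroup.orderOf_dvd_natCard _ hun
    rcases (Nat.dvd_prime Nat.prime_two).1 (orderOf_dvd_of_pow_eq_one h2) with e | e
    · exact orderOf_eq_one_iff.1 e
    · rw [e] at h3; exact absurd (even_iff_two_dvd.2 h3) (Nat.not_even_iff_odd.2 hodd)
  have h4 : u = zq h := by rw [eq_inv_of_mul_eq_one_left h1, inv_eq_of_mul_eq_one_right hq2]
  rw [hu, ← QuotientGroup.mk_inv, ← QuotientGroup.mk_mul, ← QuotientGroup.mk_mul, mk_eq_iff h] at h4
  simp only [coe_mul, coe_inv] at h4
  rcases h4 with h4 | h4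
  · exact h4.symm
  · refine absurd ?_ (hn g)
    calc g * z * g⁻¹ = g * z * g⁻¹ * (a * a) := by rw [h.aa, mul_one]
      _ = z * a := by rw [← mul_assoc]; exact congrArg (· * a) h4.symm
      _ = a * z := h.comm_za.eq

/-- Coordinates from coordinates in the quotient. -/
theorem mod2_of_mod {C : Cfg} (M : Mod C (zq h)) : Nonempty (Mod2 C z a) := by
  classical
  let mk : ∀ g : G, g ∈ centralizer ({a} : Set G) → Qa a := fun g hg => QuotientGroup.mk ⟨g, hg⟩
  let bar : G → ℕ := fun g => if hg : g ∈ centralizer ({a} : Set G) then M.bar (mk g hg) else 0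
  let rho : G → ℕ := fun g => if hg : g ∈ centralizer ({a} : Set G) then M.rho (mk g hg) else idm
  have hbar : ∀ {g : G} (hg : g ∈ centralizer ({a} : Set G)), bar g = M.bar (mk g hg) :=
    fun hg => dif_pos hg
  have hrho : ∀ {g : G} (hg : g ∈ centralizer ({a} : Set G)), rho g = M.rho (mk g hg) :=
    fun hg => dif_pos hg
  have hJ : ∀ {g : G} (hg : g ∈ oc z), mk g (oc_le_ca h hg) ∈ oc (zq h) :=
    fun hg => (mem_oc_zq h x _).2 hg
  have hC : ∀ {g : G} (hg : g ∈ centralizer ({z} : Set G) ⊓ centralizer ({a} : Set G)),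
      mk g hg.2 ∈ centralizer ({zq h} : Set (Qa a)) := fun hg => (mk_mem_cent h x _).2 hg.1
  have hpick : ∀ (g : G) (hg : g ∈ centralizer ({a} : Set G)), (g = 1 ∨ g = z) →
      ∀ b : Bool, mk g hg = (if b then zq h else 1) → g = if b then z else 1 := by
    intro g hg hg2 b e
    cases b
    · simp only [Bool.false_eq_true, if_false] at e ⊢
      rw [QuotientGroup.eq_one_iff, mem_subgroupOf, mem_zpowers_two h.aa] at e
      rcases e with e | e
      · exact e
      · exact hg2.resolve_right fun e' => h.ne (e.symm.trans e')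
    · simp only [if_true] at e ⊢
      refine hg2.resolve_left fun e' => ?_
      have : zq h = 1 := e.symm.trans ((QuotientGroup.eq_one_iff _).2 (mem_subgroupOf.2 (e' ▸ one_mem _)))
      exact M.z_ne this
  refine ⟨⟨bar, rho, ?_, ?_, ?_, ?_, ?_, ?_, ?_, ?_, ?_, ?_, ?_, ?_⟩⟩
  · intro g
    simp only [bar]; split
    · exact M.bar_lt _
    · norm_num
  · intro g hg k hk
    rw [hbar (oc_le_ca h hg), hbar (oc_le_ca h hk), hbar (oc_le_ca h (mul_mem hg hk))]
    exact M.bar_mul _ (hJ hg) _ (hJ hk)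
  · intro g hg
    rw [hbar (oc_le_ca h hg)]
    constructor
    · intro e
      rcases M.bar_eq _ (hJ hg) e with e | e
      · rw [QuotientGroup.eq_one_iff, mem_subgroupOf, mem_zpowers_two h.aa] at e
        rcases e with e | e
        · exact Or.inl e
        · exact Or.inr (Or.inr (Or.inl e))
      · rw [mk_eq_iff h] at e
        rcases e with e | e
        · exact Or.inr (Or.inl e.symm)
        · refine Or.inr (Or.inr (Or.inr ?_))
          calc g = g * (a * a) := by rw [h.aa, mul_one]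
            _ = z * a := by rw [← mul_assoc]; exact congrArg (· * a) e.symm
            _ = a * z := h.comm_za.eq
    · intro e
      have : mk g (oc_le_ca h hg) = 1 ∨ mk g (oc_le_ca h hg) = zq h := by
        rcases e with e | e | e | e
        · left; rw [QuotientGroup.eq_one_iff, mem_subgroupOf, mem_zpowers_two h.aa]; exact Or.inl e
        · right; exact congrArg QuotientGroup.mk (Subtype.ext e)
        · left; rw [QuotientGroup.eq_one_iff, mem_subgroupOf, mem_zpowers_two h.aa]; exact Or.inr e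
        · right; rw [mk_eq_iff h]; right
          show z = g * a
          rw [e, mul_assoc, h.comm_za.eq, ← mul_assoc, h.aa, one_mul]
      rcases this with e | e <;> rw [e]
      · exact M.bar_one
      · exact M.bar_z
  · intro v hv
    obtain ⟨q, hq, hqv⟩ := M.bar_surj v hv
    obtain ⟨⟨g, hg⟩, rfl⟩ := QuotientGroup.mk_surjective q
    exact ⟨g, (mem_oc_zq h x _).1 hq, (hbar hg).trans hqv⟩
  · intro g hg
    rw [hbar (oc_le_ca h hg)]
    exact hpick _ (oc_le_ca h (mul_mem hg hg)) (h.sq g hg) _ (M.sq _ (hJ hg))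
  · intro g hg k hk
    rw [hbar (oc_le_ca h hg), hbar (oc_le_ca h hk)]
    refine hpick _ (oc_le_ca h (mul_mem (mul_mem (mul_mem hg hk) (inv_mem hg)) (inv_mem hk)))
      (h.comm g hg k hk) _ ?_
    have e := M.comm (hJ hg) (hJ hk)
    set b := fv (M.bar (mk g (oc_le_ca h hg))) (M.bar (mk k (oc_le_ca h hk)))
    show mk g (oc_le_ca h hg) * mk k (oc_le_ca h hk) * (mk g (oc_le_ca h hg))⁻¹ *
      (mk k (oc_le_ca h hk))⁻¹ = _
    rw [e]
    cases b
    · simp only [Bool.false_eq_true, if_false]; group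
    · simp only [if_true]
      have h1 : Commute (mk k (oc_le_ca h hk)) (zq h) := M.commz (oc_le _ (hJ hk))
      have h2 : Commute (mk g (oc_le_ca h hg)) (zq h) := M.commz (oc_le _ (hJ hg))
      rw [(h1.mul_left h2).eq]; group
  · intro g
    simp only [rho]; split
    · exact M.rho_code _
    · exact isCode_idm
  · intro g hg k hk
    rw [hrho hg.2, hrho hk.2, hrho (mul_mem hg hk).2]
    exact M.rho_mul _ (hC hg) _ (hC hk)
  · intro g hg k hk
    rw [hrho hg.2, hbar (oc_le_ca h hk), hbar (oc_le_ca h (oc_conj_mem hg.1 hk))]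
    exact M.rho_act _ (hC hg) _ (hJ hk)
  · intro g hg
    rw [hrho hg.2, M.rho_ker _ (hC hg), mem_oc_zq h x]
  · intro g hg
    rw [hrho hg.2]
    exact M.rho_gen _ (hC hg)
  · intro m hm
    obtain ⟨q, hq, hqm⟩ := M.rho_surj m hm
    obtain ⟨⟨g, hg⟩, rfl⟩ := QuotientGroup.mk_surjective q
    exact ⟨g, ⟨(mk_mem_cent h x _).1 hq, hg⟩, (hrho hg).trans hqm⟩

/-- Coordinates when `a` is fixed. -/
theorem mod2_fixed (hf : Fixed z a) : ∃ c ∈ outerCfgs, Nonempty (Mod2 ⟨c.1, c.2⟩ z a) := by
  obtain ⟨S, hc⟩ := setting_zq h x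
  obtain ⟨e⟩ := equiv_fixed h x hf
  obtain ⟨⟨c, hcm, ⟨M⟩⟩, -⟩ := mod_of_outer S hc e
  exact ⟨c, hcm, mod2_of_mod h x M⟩

/-- Coordinates when `a` is moved. -/
theorem mod2_swap (hf : ¬ Fixed z a) : ∃ c ∈ innerCfgs, Nonempty (Mod2 ⟨c.1, c.2⟩ z a) := by
  obtain ⟨S, hc⟩ := setting_zq h x
  obtain ⟨e⟩ := equiv_swap h x hf
  obtain ⟨c, hcm, ⟨M⟩⟩ := mod_of_inner S hc e
  exact ⟨c, hcm, mod2_of_mod h x M⟩

omit x in
theorem iso_lift (G₀ : Subgroup (Qa a)) :
    ∃ hn : ((zpowers a).subgroupOf ((G₀.comap (QuotientGroup.mk' (Na a))).map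
      (centralizer ({a} : Set G)).subtype)).Normal,
      Nonempty ((↥((G₀.comap (QuotientGroup.mk' (Na a))).map
        (centralizer ({a} : Set G)).subtype) ⧸ (zpowers a).subgroupOf _) ≃* ↥G₀) := by
  set L := (G₀.comap (QuotientGroup.mk' (Na a))).map (centralizer ({a} : Set G)).subtype with hL
  let i : ↥L ≃* ↥(G₀.comap (QuotientGroup.mk' (Na a))) :=
    (equivMapOfInjective _ _ (subtype_injective _)).symm
  let f : ↥L →* ↥G₀ := ((QuotientGroup.mk' (Na a)).subgroupComap G₀).comp i.toMonoidHom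
  have hf : Function.Surjective f := by
    intro q
    obtain ⟨g, hg⟩ := QuotientGroup.mk'_surjective (Na a) q
    refine ⟨i.symm ⟨g, mem_comap.2 (hg ▸ q.2)⟩, Subtype.ext ?_⟩
    show QuotientGroup.mk' (Na a) (i (i.symm ⟨g, _⟩) : ↥(centralizer ({a} : Set G))) = _
    rw [MulEquiv.apply_symm_apply]
    exact hg
  have hk : f.ker = (zpowers a).subgroupOf L := by
    ext l
    have hl : (((i l : ↥(centralizer ({a} : Set G)))) : G) = (l : G) := by
      obtain ⟨y, rfl⟩ := (equivMapOfInjective (G₀.comap (QuotientGroup.mk' (Na a))) _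
        (subtype_injective (centralizer ({a} : Set G)))).surjective l
      simp [i]
    rw [MonoidHom.mem_ker, Subtype.ext_iff, mem_subgroupOf, ← hl]
    exact QuotientGroup.eq_one_iff _
  haveI hn : ((zpowers a).subgroupOf L).Normal := hk ▸ inferInstance
  exact ⟨hn, ⟨(QuotientGroup.quotientMulEquivOfEq hk.symm).trans
    (QuotientGroup.quotientKerEquivOfSurjective f hf)⟩⟩

/-- `C a` is of one of the two types. -/
theorem types (hn : ∀ g : G, g * z * g⁻¹ ≠ a * z) {K : Type*} [Field K] [Fintype K]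
    (hK : Fintype.card K = 4) :
    IsoIn z a ∨ ∃ L, Big K z a L ∧ IsoInJ z a ∧
      (Fixed z a → Nonempty (Mod2 ⟨NatO.gens, NatO.lin⟩ z a)) := by
  classical
  obtain ⟨S, hc⟩ := setting_zq h x
  have hJI : ∀ {C : Cfg} (M : Mod C (zq h)), Covered C → IsoInJ z a := by
    intro C M hC g hga hg
    have hg' : g * z * g⁻¹ ∈ centralizer ({a} : Set G) := oc_le_ca h hg
    let g' : ↥(centralizer ({a} : Set G)) := ⟨g, mem_centralizer_singleton_iff.2 hga.eq⟩
    have hm : (QuotientGroup.mk g' : Qa a) * zq h * (QuotientGroup.mk g' : Qa a)⁻¹ ∈ oc (zq h) :=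
      (mem_oc_zq h x ⟨g * z * g⁻¹, hg'⟩).2 hg
    have e := M.eq_z_of_mem hC hm
    have e' : (QuotientGroup.mk (⟨g * z * g⁻¹, hg'⟩ : ↥(centralizer ({a} : Set G))) : Qa a) = zq h := e
    rw [mk_eq_iff h] at e'
    rcases e' with e' | e'
    · exact e'.symm
    · refine absurd ?_ (hn g)
      calc g * z * g⁻¹ = g * z * g⁻¹ * (a * a) := by rw [h.aa, mul_one]
        _ = z * a := by rw [← mul_assoc]; exact congrArg (· * a) e'.symm
        _ = a * z := h.comm_za.eq
  have hC : Nat.card (Cfsg.PSU 6 K 2) = 9196830720 := Cfsg.Agent.ThreeTrans.card_psu_six hK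
  by_cases hf : Fixed z a
  · obtain ⟨e⟩ := equiv_fixed h x hf
    obtain ⟨⟨c, hcm, ⟨M⟩⟩, hQ⟩ := mod_of_outer S hc e
    rw [outer_lists] at hcm
    simp only [List.mem_cons, List.not_mem_nil, or_false] at hcm
    have hN : Nat.card ↥(centralizer ({zq h} : Set (Qa a))) = 512 * 51840 := by
      rw [card_centralizer_eq hc e, hQ]
    rcases hcm with rfl | rfl | rfl | rfl | rfl
    · rcases NatO.main M (by omega) (fun _ => by omega) hK with hd | ⟨G₀, hG₀, ⟨i⟩, hidx, -⟩
      · exact Or.inl (isoIn_of_decomp h hd hn)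
      rw [hN] at hidx
      have hi2 : G₀.index = 2 := by omega
      set L := (G₀.comap (QuotientGroup.mk' (Na a))).map (centralizer ({a} : Set G)).subtype with hL
      have hmemL : ∀ {g : G} (hg : g ∈ centralizer ({a} : Set G)),
          g ∈ L ↔ (QuotientGroup.mk (⟨g, hg⟩ : ↥(centralizer ({a} : Set G))) : Qa a) ∈ G₀ :=
        fun {g} hg => ⟨fun ⟨y, hy, e⟩ => (Subtype.ext e : y = ⟨g, hg⟩) ▸ hy, fun hm => ⟨_, hm, rfl⟩⟩
      have hCa : centralizer ({z} : Set G) ≤ centralizer ({a} : Set G) :=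
        fun g hg => mem_centralizer_singleton_iff.2 (hf g hg).eq
      have hpar : ∀ g k : G, g ∈ centralizer ({a} : Set G) → k ∈ centralizer ({a} : Set G) →
          (g * k ∈ L ↔ (g ∈ L ↔ k ∈ L)) := by
        intro g k hg hk
        rw [hmemL hg, hmemL hk, hmemL (mul_mem hg hk),
          show (⟨g * k, mul_mem hg hk⟩ : ↥(centralizer ({a} : Set G))) = ⟨g, hg⟩ * ⟨k, hk⟩ from rfl,
          QuotientGroup.mk_mul, Subgroup.mul_mem_iff_of_index_two hi2]
      have hcomm : ∀ g k : G, g ∈ centralizer ({a} : Set G) → k ∈ centralizer ({a} : Set G) →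
          g * k * g⁻¹ * k⁻¹ ∈ L := by
        intro g k hg hk
        rw [hpar _ _ (mul_mem (mul_mem hg hk) (inv_mem hg)) (inv_mem hk),
          hpar _ _ (mul_mem hg hk) (inv_mem hg), hpar _ _ hg hk]
        simp only [inv_mem_iff]; tauto
      obtain ⟨M2⟩ := mod2_of_mod h x M
      have haL : a ∈ L := by
        rw [hmemL (mem_centralizer_singleton_iff.2 rfl),
          (QuotientGroup.eq_one_iff _).2 (mem_subgroupOf.2 (mem_zpowers a))]
        exact one_mem _
      have hzL : z ∈ L := by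
        obtain ⟨p, hp, hpv⟩ := M2.bar_surj 1 (by norm_num)
        obtain ⟨q, hq, hqv⟩ := M2.bar_surj 2 (by norm_num)
        have e := M2.comm p hp q hq
        rw [hpv, hqv, show fv 1 2 = true from by decide, if_pos rfl] at e
        exact e ▸ hcomm p q (oc_le_ca h hp) (oc_le_ca h hq)
      have hJL : oc z ≤ L := by
        have hbit : ∀ k < 8, ∃ p ∈ oc z, p ∈ L ∧ M2.bar p = 2 ^ k := by
          intro k hk
          obtain ⟨g, hg, v, hv, e⟩ := natO_moved k hk
          obtain ⟨t, ht, htg⟩ := M2.rho_surj g hg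
          obtain ⟨p, hp, hpv⟩ := M2.bar_surj v hv
          have hp' := oc_conj_mem ht.1 hp
          refine ⟨t * p * t⁻¹ * p⁻¹, mul_mem hp' (inv_mem hp),
            hcomm t p ht.2 (oc_le_ca h hp), ?_⟩
          have hinv : M2.bar p⁻¹ = M2.bar p := by
            have h1 := M2.bar_mul p⁻¹ (inv_mem hp) p hp
            rw [inv_mul_cancel, ((M2.bar_eq 1 (one_mem _)).2 (Or.inl rfl))] at h1
            exact (Nat.xor_eq_zero_iff.1 h1.symm)
          rw [M2.bar_mul _ hp' _ (inv_mem hp), hinv, M2.rho_act t ht p hp, htg, hpv, e]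
        have hall : ∀ n, n ≤ 8 → ∀ v < 2 ^ n, ∃ p ∈ oc z, p ∈ L ∧ M2.bar p = v := by
          intro n
          induction n with
          | zero =>
            intro _ v hv
            exact ⟨1, one_mem _, one_mem _, by
              rw [((M2.bar_eq 1 (one_mem _)).2 (Or.inl rfl))]; omega⟩
          | succ n ih =>
            intro hn v hv
            by_cases hv' : v < 2 ^ n
            · exact ih (by omega) v hv'
            obtain ⟨p, hp, hpL, hpv⟩ := hbit n (by omega)
            have hw : v ^^^ 2 ^ n < 2 ^ n :=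
              xor_top n (by omega) v (hv.trans_le (by
                exact (Nat.pow_le_pow_right (by norm_num) hn).trans (by norm_num))) hv hv'
            obtain ⟨q, hq, hqL, hqv⟩ := ih (by omega) _ hw
            exact ⟨q * p, mul_mem hq hp, mul_mem hqL hpL, by
              rw [M2.bar_mul q hq p hp, hqv, hpv, Nat.xor_assoc, Nat.xor_self, Nat.xor_zero]⟩
        intro j hj
        obtain ⟨p, hp, hpL, hpv⟩ := hall 8 le_rfl _ (M2.bar_lt j)
        have h0 : M2.bar (p * j) = 0 := by rw [M2.bar_mul p hp j hj, hpv, Nat.xor_self]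
        have hjp : p * j ∈ L := by
          rcases (M2.bar_eq _ (mul_mem hp hj)).1 h0 with e | e | e | e <;> rw [e]
          exacts [one_mem _, hzL, haL, mul_mem haL hzL]
        simpa using mul_mem (inv_mem hpL) hjp
      obtain ⟨s, hs, hsL⟩ : ∃ s ∈ centralizer ({z} : Set G), s ∉ L := by
        by_contra hcon
        push Not at hcon
        have hle : centralizer ({zq h} : Set (Qa a)) ≤ G₀ := by
          intro q hq
          obtain ⟨⟨g, hg⟩, rfl⟩ := QuotientGroup.mk_surjective q
          exact (hmemL hg).1 (hcon g ((mk_mem_cent h x _).1 hq))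
        have h1 := card_dvd_of_le hle
        rw [hN, Nat.card_congr i.toEquiv, hC] at h1
        norm_num at h1
      have hmeet : L ⊓ centralizer ({z} : Set G) = inner z := by
        have hle : inner z ≤ L ⊓ centralizer ({z} : Set G) := by
          refine le_inf ?_ (inner_le z)
          rw [inner, map_le_iff_le_comap]
          refine sup_le ?_ fun j hj => hJL ⟨j, hj, rfl⟩
          rw [_root_.commutator_def, commutator_le]
          intro p _ q _
          exact hcomm p q (hCa p.2) (hCa q.2)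
        refine le_antisymm (fun g hg => ?_) hle
        by_contra hgi
        have hsi : s ∉ inner z := fun e => hsL (hle e).1
        have h1 := hle ((h.mul_mem_inner_iff hg.2 hs).2 (iff_of_false hgi hsi))
        exact hsL (((hpar g s (hCa hg.2) (hCa hs)).1 h1.1).1 hg.1)
      refine Or.inr ⟨L, ⟨haL, map_subtype_le _, fun c hcc l hl => ?_, hmeet, fun c hcc => ?_, ?_⟩,
        hJI M NatO.natCfg.facts.covered, fun _ => ⟨M2⟩⟩
      · obtain ⟨y, hy, rfl⟩ := hl
        refine ⟨⟨c, hcc⟩ * y * ⟨c, hcc⟩⁻¹, ?_, rfl⟩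
        have := hG₀.conj_mem _ (mem_comap.1 hy) (QuotientGroup.mk' (Na a) ⟨c, hcc⟩)
        rw [SetLike.mem_coe, mem_comap, map_mul, map_mul, map_inv]
        exact this
      · by_cases hcL : c ∈ L
        · exact ⟨c, hcL, 1, one_mem _, (mul_one c).symm⟩
        · refine ⟨c * s⁻¹, ?_, s, ⟨hs, hCa hs⟩, by group⟩
          rw [hpar _ _ hcc (inv_mem (hCa hs))]
          exact iff_of_false hcL (by simpa using hsL)
      · obtain ⟨hn', ⟨j⟩⟩ := iso_lift h G₀
        exact ⟨hn', ⟨j.trans i⟩⟩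
    · exact Or.inl (isoIn_of_decomp h (RedAP.main M) hn)
    · exact Or.inl (isoIn_of_decomp h (RedAM.main M) hn)
    · exact Or.inl (isoIn_of_decomp h (RedBP.main M) hn)
    · exact Or.inl (isoIn_of_decomp h (RedBM.main M) hn)
  · obtain ⟨e⟩ := equiv_swap h x hf
    obtain ⟨c, hcm, ⟨M⟩⟩ := mod_of_inner S hc e
    rw [inner_lists] at hcm
    simp only [List.mem_cons, List.not_mem_nil, or_false] at hcm
    have hN : Nat.card ↥(centralizer ({zq h} : Set (Qa a))) = 512 * 25920 := by
      rw [card_centralizer_eq hc e, card_psp_three]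
    rcases hcm with rfl | rfl | rfl
    · rcases NatI.main M (by omega) (fun w => absurd w natI_W) hK with hd | ⟨G₀, -, ⟨i⟩, hidx, -⟩
      · exact Or.inl (isoIn_of_decomp h hd hn)
      rw [hN] at hidx
      have htop : G₀ = ⊤ := index_eq_one.1 (by omega)
      set L := (G₀.comap (QuotientGroup.mk' (Na a))).map (centralizer ({a} : Set G)).subtype with hL
      have hLC : L = centralizer ({a} : Set G) := by
        rw [hL, htop, comap_top, ← MonoidHom.range_eq_map, range_subtype]
      refine Or.inr ⟨L, ⟨?_, hLC.le, ?_, ?_, ?_, ?_⟩, hJI M NatI.natCfg.facts.covered,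
        fun h' => absurd h' hf⟩
      · rw [hLC]; exact mem_centralizer_singleton_iff.2 rfl
      · intro c hcc l hl
        rw [hLC] at hl ⊢
        exact mul_mem (mul_mem hcc hl) (inv_mem hcc)
      · rw [hLC, inf_comm]; exact h.inf_centralizer hf
      · intro c hcc
        exact ⟨c, hLC ▸ hcc, 1, one_mem _, (mul_one c).symm⟩
      · obtain ⟨hn', ⟨j⟩⟩ := iso_lift h G₀
        exact ⟨hn', ⟨j.trans i⟩⟩
    · exact Or.inl (isoIn_of_decomp h (RedIP.main M) hn)
    · exact Or.inl (isoIn_of_decomp h (RedIM.main M) hn)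

end

end Cfsg.Agent.Fi22Two
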